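import Cfsg.Agent.Lib.Recognition.TwoTimesSym.KleinPattern

/-!
# The Klein case with neither `q` nor `r` a translation
-/

set_option linter.unusedSectionVars false

namespace CfsgLib.TwoTimesSym

lemma key_mul_all (i j μ ν : Bool) (x y : W7) :
    W7.key (W7.mul i j μ ν x y) = W7.add (W7.key x) (W7.key y) := by
  obtain ⟨⟨a, m, n, e, g⟩, p, l⟩ := x
  obtain ⟨⟨a', m', n', e', g'⟩, p', l'⟩ := y
  cases p <;> cases l <;> simp [W7.mul, W7.key, W7.add, W5.mul, W7.σq, W7.σr]

variable {G : Type*} [Group G] [Finite G] {t : G} {E : Subgroup G} {s d v ρ π q r : G}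
  {μ ν : Bool}

set_option synthInstance.maxSize 1024 in
/-- The case `i = j = true` of the Klein case is impossible. -/
theorem Pair.not_both (P : Pair t s d v q r true true μ ν) (B : Base t E s d v)
    (hG : NoIndexTwo G) (hF : Four t E) (H : Half t E s d v ρ π) : False := by
  obtain ⟨f, hf, hconcl⟩ := P.pattern B hG hF
  simp only [W7.concl, if_true, Bool.not_true, Bool.false_or, Bool.and_eq_true,
    Bool.not_eq_true', List.all_eq_true, beq_iff_eq] at hconcl
  obtain ⟨⟨hμ, hν⟩, hsix⟩ := hconcl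
  subst hμ hν
  have hf' : ∀ w, IsConj t (ev7 t s d v q r w) ↔ W7.key w ∈ W7.six := fun w => by
    rw [hf, hsix _ (W7.mem_allK _), decide_eq_true_iff]
  have hmul := P.ev7_mul B
  have hvq : v * q = q * v := by
    calc v * q = q * v * q⁻¹ * q := by rw [P.q_v]
      _ = q * v := by group
  set ξ := π * (q * v) * π⁻¹ with hξ
  have hq2 : q⁻¹ = q := inv_eq_of_mul_eq_one_right P.q_sq
  have hqv2 : q * v * (q * v) = 1 := by
    calc q * v * (q * v) = q * (v * q) * v := by group
      _ = q * q * (v * v) := by rw [hvq]; group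
      _ = 1 := by rw [P.q_sq, B.v_sq, one_mul]
  have hξ2 : ξ * ξ = 1 := by
    calc ξ * ξ = π * (q * v * (q * v)) * π⁻¹ := by rw [hξ]; group
      _ = 1 := by rw [hqv2]; group
  have hξi : ξ⁻¹ = ξ := inv_eq_of_mul_eq_one_right hξ2
  have hξK : ¬ IsConj t ξ := by
    rw [hξ, isConj_conj, ← hvq]
    have : ev7 t s d v q r ((false, false, false, false, true), true, false) = v * q := by
      simp [ev7, ev]
    rw [← this, hf']
    decide
  -- the action of `ξ` on `A₁`
  have hπt : π * t * π⁻¹ = t := by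
    rw [B.mem_C_of_mem H.π_mem, mul_assoc, mul_inv_cancel, mul_one]
  set z := d * v * (d * v) with hz
  have hzz : z * z = 1 := B.z_sq
  have hdz : π⁻¹ * s * π = d * z := by
    calc π⁻¹ * s * π = π⁻¹ * (π * (d * z) * π⁻¹) * π := by rw [hz, H.π_dz]
      _ = d * z := by group
  have hds : π⁻¹ * d * π = s := by
    calc π⁻¹ * d * π = π⁻¹ * (π * s * π⁻¹) * π := by rw [H.π_s]
      _ = s := by group
  have hcj : ∀ x : G, ξ * x * ξ⁻¹ = π * (q * (v * (π⁻¹ * x * π) * v⁻¹) * q⁻¹) * π⁻¹ := fun x => by
    rw [hξ]; group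
  have ξt : ξ * t * ξ⁻¹ = t * d := by
    rw [hcj, show π⁻¹ * t * π = t by
      calc π⁻¹ * t * π = π⁻¹ * (π * t * π⁻¹) * π := by rw [hπt]
        _ = t := by group,
      ← B.tv.eq, mul_assoc t, mul_inv_cancel, mul_one, P.q_t]
    calc π * (t * s) * π⁻¹ = π * t * π⁻¹ * (π * s * π⁻¹) := by group
      _ = _ := by rw [hπt, H.π_s]
  have ξd : ξ * d * ξ⁻¹ = d := by
    rw [hcj, hds, ← B.sv, mul_assoc s, mul_inv_cancel, mul_one, P.q_s, H.π_s]
  have hvdz : v * (d * z) * v⁻¹ = d := by
    calc v * (d * z) * v⁻¹ = v * d * (z * v⁻¹) := by group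
      _ = d * v * z * (z * v⁻¹) := by rw [hz, B.vd]
      _ = d * v * (z * z) * v⁻¹ := by group
      _ = d := by rw [hzz]; group
  have ξs : ξ * s * ξ⁻¹ = z := by
    rw [hcj, hdz, hvdz, P.q_d, bp_true]
    calc π * (d * s) * π⁻¹ = π * d * π⁻¹ * (π * s * π⁻¹) := by group
      _ = d * z * d := by rw [H.π_d, H.π_s]
      _ = z * (d * d) := by rw [(show Commute d z from hz ▸ B.dz).eq]; group
      _ = z := by rw [B.d_sq, mul_one]
  have ξz : ξ * z * ξ⁻¹ = s := by
    have h2 : ξ * (ξ * s * ξ⁻¹) * ξ⁻¹ = s := by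
      calc ξ * (ξ * s * ξ⁻¹) * ξ⁻¹ = ξ * ξ * s * (ξ * ξ)⁻¹ := by group
        _ = s := by rw [hξ2]; group
    rwa [ξs] at h2
  have hinv2 : ∀ x : G, ξ * (ξ * x * ξ⁻¹) * ξ⁻¹ = x := fun x => by
    calc ξ * (ξ * x * ξ⁻¹) * ξ⁻¹ = ξ * ξ * x * (ξ * ξ)⁻¹ := by group
      _ = x := by rw [hξ2]; group
  have hb : ∀ (b : Bool) (x : G), ξ * bp b x * ξ⁻¹ = bp b (ξ * x * ξ⁻¹) := by
    intro b x; cases b <;> simp
  have hA1 : ∀ a m n e : Bool, ξ * ev t s d v (a, m, n, e, false) * ξ⁻¹ =
      ev t s d v (a, n, m, xor e a, false) := by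
    intro a m n e
    rw [B.conj_word, ξt, ξs, show ξ * (d * v * (d * v)) * ξ⁻¹ = s from ξz, ξd]
    have e1 : bp a (t * d) = ev t s d v (a, false, false, a, false) := by cases a <;> simp [ev]
    have e2 : bp m z = ev t s d v (false, false, m, false, false) := by
      cases m <;> simp [ev, hz]
    have e3 : bp n s = ev t s d v (false, n, false, false, false) := by cases n <;> simp [ev]
    have e4 : bp e d = ev t s d v (false, false, false, e, false) := by cases e <;> simp [ev]
    rw [e1, e2, e3, e4, bp_false, mul_one, B.ev_mul, B.ev_mul, B.ev_mul]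
    congr 1
    clear * -
    revert a m n e; decide
  -- two elements with the same action on `A₁`
  have hsame : ∀ (p l : Bool) (x : G), x * x = 1 →
      (∀ a m n e : Bool, x * ev t s d v (a, m, n, e, false) * x⁻¹ =
        ev t s d v ((if p then W7.σq true else id) ((if l then W7.σr true else id)
          (a, m, n, e, false)))) →
      ∃ w : W7, w.1.2.2.2.2 = false ∧ w.2.1 = p ∧ w.2.2 = l ∧ ev7 t s d v q r w = x := by
    intro p l x _ hx
    set g := bp p q * bp l r with hg
    have hgx : g⁻¹ * x ∈ A1set t s d v := by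
      have hfix : ∀ a m n e : Bool, g⁻¹ * x * ev t s d v (a, m, n, e, false) * (g⁻¹ * x)⁻¹ =
          ev t s d v (a, m, n, e, false) := by
        intro a m n e
        have h1 : g * ev t s d v (a, m, n, e, false) * g⁻¹ =
            ev t s d v ((if p then W7.σq true else id) ((if l then W7.σr true else id)
              (a, m, n, e, false))) := by
          cases p <;> cases l <;> simp only [hg, bp_true, bp_false, one_mul, mul_one, inv_one,
            if_true, Bool.false_eq_true, if_false, id_eq]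
          · exact P.conj_r B _
          · exact P.conj_q B _
          · rw [← P.conj_q B, ← P.conj_r B]; group
        calc g⁻¹ * x * ev t s d v (a, m, n, e, false) * (g⁻¹ * x)⁻¹
            = g⁻¹ * (x * ev t s d v (a, m, n, e, false) * x⁻¹) * g := by group
          _ = g⁻¹ * (g * ev t s d v (a, m, n, e, false) * g⁻¹) * g := by rw [hx, h1]
          _ = _ := by group
      refine H.cn.cent _ ?_ ?_
      · have h := hfix true false false false
        rw [ev_t] at h
        exact B.conj_inv_of_commute h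
      · rintro _ ⟨⟨a, m, n, e, c⟩, hc, rfl⟩
        obtain rfl : c = false := hc
        exact B.conj_inv_of_commute (hfix a m n e)
    obtain ⟨⟨a, m, n, e, c⟩, hc, hw⟩ := hgx
    obtain rfl : c = false := hc
    refine ⟨((if p then W7.σq true else id) ((if l then W7.σr true else id)
      (a, m, n, e, false)), p, l), ?_, rfl, rfl, ?_⟩
    · clear * -; revert p l a m n e; decide
    · have hgw : x = g * ev t s d v (a, m, n, e, false) := by rw [hw]; group
      rw [hgw, hg]
      cases p <;> cases l <;> simp only [ev7, bp_true, bp_false, one_mul, mul_one, if_true,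
        Bool.false_eq_true, if_false, id_eq]
      · rw [← P.conj_r B]; group
      · rw [← P.conj_q B]; group
      · rw [← P.conj_q B, ← P.conj_r B]; group
  have hA1' : ∀ a m n e : Bool, ξ⁻¹ * ev t s d v (a, m, n, e, false) * ξ =
      ev t s d v (a, n, m, xor e a, false) := by
    intro a m n e
    have := hA1 a m n e
    rw [hξi] at this ⊢
    exact this
  -- the image of `v`
  have hvA : ∀ a m n e : Bool, v * ev t s d v (a, m, n, e, false) * v⁻¹ =
      ev t s d v (a, m, xor n e, e, false) := by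
    intro a m n e
    have h := B.ev_conj (false, false, false, false, true) (a, m, n, e, false)
    rw [ev_v] at h
    rw [h]; congr 1; clear * -; revert a m n e; decide
  have hsqconj : ∀ x : G, x * x = 1 → ξ * x * ξ⁻¹ * (ξ * x * ξ⁻¹) = 1 := fun x hx => by
    calc ξ * x * ξ⁻¹ * (ξ * x * ξ⁻¹) = ξ * (x * x) * ξ⁻¹ := by group
      _ = 1 := by rw [hx]; group
  obtain ⟨⟨⟨va, vm, vn, ve, vg⟩, vp, vl⟩, hvg, hvp, hvl, hv'⟩ :=
    hsame true false (ξ * v * ξ⁻¹) (hsqconj v B.v_sq) (by
      intro a m n e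
      calc ξ * v * ξ⁻¹ * ev t s d v (a, m, n, e, false) * (ξ * v * ξ⁻¹)⁻¹
          = ξ * (v * (ξ⁻¹ * ev t s d v (a, m, n, e, false) * ξ) * v⁻¹) * ξ⁻¹ := by group
        _ = _ := by
            rw [hA1', hvA, hA1]
            congr 1; clear * -; revert a m n e; decide)
  obtain rfl : vg = false := hvg
  obtain rfl : vp = true := hvp
  obtain rfl : vl = false := hvl
  obtain ⟨rfl, rfl⟩ : va = false ∧ ve = false := by
    have h1 : W7.isInv true true false true (W7.key ((va, vm, vn, ve, false), true, false)) = true := by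
      have h := hsqconj v B.v_sq
      rw [← hv', hmul, ← P.ev7_one B] at h
      have h2 := P.ev7_inj B h
      revert h2; clear * -; revert va vm vn ve; decide
    have h2 : W7.key ((va, vm, vn, ve, false), true, false) ∉ W7.six := by
      rw [← hf', hv', isConj_conj]
      rw [show v = ev t s d v (false, false, false, false, true) from ev_v.symm,
        B.isConj_ev_four hF]
      simp
    revert h1 h2; clear * -; revert va vm vn ve; decide
  -- the image of `r`
  obtain ⟨⟨⟨ra, rm, rn, re, rg⟩, rp, rl⟩, hrg, hrp, hrl, hr'⟩ :=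
    hsame false true (ξ * r * ξ⁻¹) (hsqconj r P.r_sq) (by
      intro a m n e
      calc ξ * r * ξ⁻¹ * ev t s d v (a, m, n, e, false) * (ξ * r * ξ⁻¹)⁻¹
          = ξ * (r * (ξ⁻¹ * ev t s d v (a, m, n, e, false) * ξ) * r⁻¹) * ξ⁻¹ := by group
        _ = _ := by
            rw [hA1', P.conj_r B]
            have : W7.σr true (a, n, m, xor e a, false) =
                (a, xor n a, xor m a, xor e a, false) := by
              clear * -; revert a m n e; decide
            rw [this, hA1]
            congr 1; clear * -; revert a m n e; decide)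
  obtain rfl : rg = false := hrg
  obtain rfl : rp = false := hrp
  obtain rfl : rl = true := hrl
  obtain ⟨rfl, rfl⟩ : ra = false ∧ re = true := by
    have hr2 := hsqconj r P.r_sq
    rw [← hr', hmul, ← P.ev7_one B] at hr2
    have h2 := P.ev7_inj B hr2
    have hconj : ξ * r * ξ⁻¹ * (ξ * v * ξ⁻¹) * (ξ * r * ξ⁻¹) =
        ξ * v * ξ⁻¹ * (s * z) := by
      have hc : r * v * r = v * (s * z) := by
        have := P.r_v
        rwa [inv_eq_of_mul_eq_one_right P.r_sq] at this
      calc ξ * r * ξ⁻¹ * (ξ * v * ξ⁻¹) * (ξ * r * ξ⁻¹) = ξ * (r * v * r) * ξ⁻¹ := by group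
        _ = ξ * v * ξ⁻¹ * (ξ * s * ξ⁻¹ * (ξ * z * ξ⁻¹)) := by rw [hc]; group
        _ = _ := by rw [ξs, ξz, (show Commute s z from hz ▸ B.sz).eq]
    have ec : s * z = ev7 t s d v q r ((false, true, true, false, false), false, false) := by
      simp [ev7, ev, hz]
    rw [← hr', ← hv', ec, hmul, hmul, hmul] at hconj
    have h3 := P.ev7_inj B hconj
    revert h2 h3; clear * -; revert ra rm rn re vm vn; decide
  -- `ξ` normalises `⟨T, q, r⟩`, inducing `L` on classes
  set L : K5 → K5 := fun k =>
    (k.1, xor (xor k.2.1 k.1) k.2.2.2.2, k.2.2.2.1, k.2.2.1, k.2.2.2.2) with hL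
  have hq' : ∃ m n : Bool,
      ξ * q * ξ⁻¹ = ev7 t s d v q r ((false, m, n, false, true), false, false) := by
    refine ⟨vn, vm, ?_⟩
    have he : ev7 t s d v q r ((false, vm, vn, false, false), true, false) =
        ev t s d v (false, vm, vn, false, false) * q := by simp [ev7]
    have hq : q = ev t s d v (false, vm, vn, false, false) * (ξ * v * ξ⁻¹) := by
      rw [← hv', he, ← mul_assoc, B.ev_mul]
      have : W5.mul (false, vm, vn, false, false) (false, vm, vn, false, false) = W5.one := by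
        clear * -; revert vm vn; decide
      rw [this, B.ev_one, one_mul]
    conv_lhs => rw [hq]
    calc ξ * (ev t s d v (false, vm, vn, false, false) * (ξ * v * ξ⁻¹)) * ξ⁻¹
        = ξ * ev t s d v (false, vm, vn, false, false) * ξ⁻¹ * (ξ * (ξ * v * ξ⁻¹) * ξ⁻¹) := by
          group
      _ = ev t s d v (false, vn, vm, false, false) * v := by rw [hA1, hinv2]; rfl
      _ = _ := by
          rw [P.ev7_T B]
          conv_lhs => arg 2; rw [← ev_v (t := t) (s := s) (d := d) (v := v)]
          rw [B.ev_mul]; congr 1; clear * -; revert vm vn; decide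
  obtain ⟨qm, qn, hq''⟩ := hq'
  have hnorm : ∀ w : W7, ∃ w', ξ * ev7 t s d v q r w * ξ⁻¹ = ev7 t s d v q r w' ∧
      W7.key w' = L (W7.key w) := by
    rintro ⟨⟨a, m, n, e, g⟩, p, l⟩
    have hsplit : ev t s d v (a, m, n, e, g) =
        ev t s d v (a, m, n, e, false) * bp g v := by simp [ev]
    have f1 : ∀ w : W5, ev t s d v w = ev7 t s d v q r (w, false, false) := fun w =>
      (P.ev7_T B w).symm
    set wv : W7 := if g then ((false, vm, vn, false, false), true, false) else W7.one with hwv
    set wq : W7 := if p then ((false, qm, qn, false, true), false, false) else W7.one with hwq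
    set wr : W7 := if l then ((false, rm, rn, true, false), false, true) else W7.one with hwr
    have e1 : ξ * bp g v * ξ⁻¹ = ev7 t s d v q r wv := by
      rw [hb, hwv]; cases g <;> simp [hv', P.ev7_one B]
    have e2 : ξ * bp p q * ξ⁻¹ = ev7 t s d v q r wq := by
      rw [hb, hwq]; cases p <;> simp [hq'', P.ev7_one B]
    have e3 : ξ * bp l r * ξ⁻¹ = ev7 t s d v q r wr := by
      rw [hb, hwr]; cases l <;> simp [hr', P.ev7_one B]
    refine ⟨W7.mul true true false true (W7.mul true true false true (W7.mul true true false true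
      ((a, n, m, xor e a, false), false, false) wv) wq) wr, ?_, ?_⟩
    · calc ξ * ev7 t s d v q r ((a, m, n, e, g), p, l) * ξ⁻¹
          = ξ * ev t s d v (a, m, n, e, false) * ξ⁻¹ * (ξ * bp g v * ξ⁻¹) *
              (ξ * bp p q * ξ⁻¹) * (ξ * bp l r * ξ⁻¹) := by
            show ξ * (ev t s d v (a, m, n, e, g) * bp p q * bp l r) * ξ⁻¹ = _
            rw [hsplit]; group
        _ = _ := by rw [hA1, e1, e2, e3, f1, hmul, hmul, hmul]
    · rw [key_mul_all, key_mul_all, key_mul_all, hwv, hwq, hwr, hL]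
      cases a <;> cases e <;> cases g <;> cases p <;> cases l <;> rfl
  set S := P.S1 B with hS
  have hSn : ∀ x ∈ S, ξ * x * ξ⁻¹ ∈ S := by
    rintro _ ⟨w, rfl⟩
    obtain ⟨w', h, -⟩ := hnorm w
    exact ⟨w', h.symm⟩
  have hξS : ξ ∉ S := by
    rintro ⟨⟨w, p, l⟩, hw⟩
    have h := P.ev7_conj_t B (w, p, l)
    rw [hw, ξt] at h
    have h0 : t * d = ev t s d v (true, false, false, true, false) := by simp [ev]
    rw [h0] at h
    have := B.ev_inj h
    revert this; clear * -; revert w p l; decide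
  set M0 : Subgroup G := subgroupOfMul (ev7 t s d v q r '' {w | w.1.1 = false})
    ⟨W7.one, rfl, P.ev7_one B⟩ (by
      rintro _ ⟨x, hx, rfl⟩ _ ⟨y, hy, rfl⟩
      refine ⟨_, ?_, (hmul x y).symm⟩
      have := congrArg (fun k : K5 => k.1) (key_mul_all true true false true x y)
      simp only [W7.key, W7.add] at this
      simp only [Set.mem_ofPred_eq] at hx hy ⊢
      rw [this, hx, hy]; rfl) with hM0
  have hMn : ∀ x ∈ M0, ξ * x * ξ⁻¹ ∈ M0 := by
    rintro _ ⟨w, hw, rfl⟩
    obtain ⟨w', h, hk⟩ := hnorm w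
    refine ⟨w', ?_, h.symm⟩
    have := congrArg (fun k : K5 => k.1) hk
    simp only [Set.mem_ofPred_eq] at hw ⊢
    simpa [W7.key, hL, hw] using this
  have hext : ∀ K : Subgroup G, (∀ x ∈ K, ξ * x * ξ⁻¹ ∈ K) →
      ∀ a ∈ (K : Set G) ∪ (fun g => g * ξ) '' (K : Set G),
      ∀ b ∈ (K : Set G) ∪ (fun g => g * ξ) '' (K : Set G),
      a * b ∈ (K : Set G) ∪ (fun g => g * ξ) '' (K : Set G) := by
    rintro K hK a (ha | ⟨g, hg, rfl⟩) b (hb | ⟨h, hh, rfl⟩)
    · exact Or.inl (K.mul_mem ha hb)
    · exact Or.inr ⟨a * h, K.mul_mem ha hh, mul_assoc _ _ _⟩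
    · refine Or.inr ⟨g * (ξ * b * ξ⁻¹), K.mul_mem hg (hK b hb), ?_⟩
      show g * (ξ * b * ξ⁻¹) * ξ = g * ξ * b
      group
    · refine Or.inl ?_
      show g * ξ * (h * ξ) ∈ K
      have : g * ξ * (h * ξ) = g * (ξ * h * ξ⁻¹) * (ξ * ξ) := by group
      rw [this, hξ2, mul_one]
      exact K.mul_mem hg (hK h hh)
  set R := subgroupOfMul ((S : Set G) ∪ (fun g => g * ξ) '' (S : Set G)) (Or.inl S.one_mem) (hext S hSn) with hR
  set M := subgroupOfMul ((M0 : Set G) ∪ (fun g => g * ξ) '' (M0 : Set G)) (Or.inl M0.one_mem) (hext M0 hMn) with hM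
  have hcardU : ∀ K : Subgroup G, K ≤ S →
      ((K : Set G) ∪ (fun g => g * ξ) '' (K : Set G)).ncard = 2 * Nat.card K := by
    intro K hKS
    rw [Set.ncard_union_eq ?_ (Set.toFinite _) (Set.toFinite _),
      Set.ncard_image_of_injective _ (mul_left_injective ξ), ← Nat.card_coe_set_eq]
    · exact (two_mul _).symm
    · rw [Set.disjoint_left]
      rintro _ h ⟨g, hg, rfl⟩
      exact hξS (hKS ((K.mul_mem_cancel_left hg).mp h))
  have hM0S : M0 ≤ S := by rintro _ ⟨w, -, rfl⟩; exact ⟨w, rfl⟩
  have hRcard : Nat.card R = 256 := by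
    rw [← SetLike.coe_sort_coe, Nat.card_coe_set_eq]
    show ((S : Set G) ∪ _).ncard = 256
    rw [hcardU S le_rfl, P.card_S1 B]
  have hMcard : Nat.card M = 128 := by
    rw [← SetLike.coe_sort_coe, Nat.card_coe_set_eq]
    show ((M0 : Set G) ∪ _).ncard = 128
    rw [hcardU M0 hM0S, ← SetLike.coe_sort_coe, Nat.card_coe_set_eq]
    show 2 * (ev7 t s d v q r '' _).ncard = 128
    rw [Set.ncard_image_of_injective _ (fun _ _ => P.ev7_inj B), Set.ncard_eq_toFinset_card']
    decide
  have hMR : M ≤ R := by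
    rintro x (hx | ⟨g, hg, rfl⟩)
    · exact Or.inl (hM0S hx)
    · exact Or.inr ⟨g, hM0S hg, rfl⟩
  -- no conjugate of `t` in the outer coset outside `M`
  have houter : ∀ w : W7, w.1.1 = true → ¬ IsConj t (ev7 t s d v q r w * ξ) := by
    intro w hw hx
    have hconj : ∀ (u w' : W7) (k : K5),
        ev7 t s d v q r u * ev7 t s d v q r u = 1 →
        ξ * ev7 t s d v q r u * ξ⁻¹ = ev7 t s d v q r w' →
        W7.add (W7.key u) (W7.key w') = k →
        ∀ x : W7, IsConj t (ev7 t s d v q r x * ξ) →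
        ∃ y : W7, IsConj t (ev7 t s d v q r y * ξ) ∧ W7.key y = W7.add (W7.key x) k := by
      intro u w' k hu hu' hk x hx
      refine ⟨W7.mul true true false true (W7.mul true true false true u x) w', ?_, ?_⟩
      · have := (isConj_conj t _ (ev7 t s d v q r u)).mpr hx
        rw [← hmul, ← hmul, ← hu']
        convert this using 1
        rw [inv_eq_of_mul_eq_one_right hu]
        group
      · rw [key_mul_all, key_mul_all, ← hk]
        clear * -
        generalize W7.key u = a, W7.key x = b, W7.key w' = c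
        obtain ⟨a1, a2, a3, a4, a5⟩ := a
        obtain ⟨b1, b2, b3, b4, b5⟩ := b
        obtain ⟨c1, c2, c3, c4, c5⟩ := c
        simp only [W7.add, Prod.mk.injEq]
        refine ⟨?_, ?_, ?_, ?_, ?_⟩ <;>
          simp [Bool.xor_comm, Bool.xor_left_comm]
    have hkey : ∀ x : W7, IsConj t (ev7 t s d v q r x * ξ) →
        L (W7.key x) = W7.key x := by
      intro x hx
      have h2 := isConj_sq B.t_sq hx
      obtain ⟨w', hw', hk⟩ := hnorm x
      have : ev7 t s d v q r x * ev7 t s d v q r w' = 1 := by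
        rw [← h2, ← hw', hξi]; group
      rw [hmul, ← P.ev7_one B] at this
      have h3 := congrArg W7.key (P.ev7_inj B this)
      rw [key_mul_all, hk] at h3
      revert h3
      generalize W7.key x = k
      intro h3
      obtain ⟨k1, k2, k3, k4, k5⟩ := k
      revert h3; rw [hL]; clear * -; revert k1 k2 k3 k4 k5; decide
    have hk0 := hkey w hx
    obtain ⟨a, e, g, p, l⟩ : K5 := W7.key w
    have hk : W7.key w = (true, w.1.2.2.2.1, w.1.2.2.2.2, w.2.1, w.2.2) := by
      simp [W7.key, hw]
    rw [hk, hL] at hk0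
    simp only [Prod.mk.injEq] at hk0
    have hvv : ev7 t s d v q r ((false, false, false, false, true), false, false) = v := by
      rw [P.ev7_T B, ev_v]
    have htt : ev7 t s d v q r ((true, false, false, false, false), false, false) = t := by
      rw [P.ev7_T B, ev_t]
    have htd : ev7 t s d v q r ((true, false, false, true, false), false, false) = t * d := by
      rw [P.ev7_T B]; simp [ev]
    obtain ⟨y1, hy1, hky1⟩ : ∃ y : W7, IsConj t (ev7 t s d v q r y * ξ) ∧
        ∃ e : Bool, W7.key y = (true, e, true, true, true) := by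
      obtain ⟨-, h2, h3, -⟩ := hk0
      cases hg : w.1.2.2.2.2
      · obtain ⟨y, hy, hky⟩ := hconj ((false, false, false, false, true), false, false)
          ((false, vm, vn, false, false), true, false) (false, false, true, true, false)
          (by rw [hvv]; exact B.v_sq) (by rw [hvv, hv']) rfl w hx
        refine ⟨y, hy, w.1.2.2.2.1, ?_⟩
        rw [hky, hk, h3, hg]
        revert h2; clear * -
        generalize w.1.2.2.2.1 = e, w.2.2 = l
        revert e l; decide
      · refine ⟨w, hx, w.1.2.2.2.1, ?_⟩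
        rw [hk, h3, hg]
        revert h2; clear * -
        generalize w.1.2.2.2.1 = e, w.2.2 = l
        revert e l; decide
    obtain ⟨e1, hky1⟩ := hky1
    obtain ⟨y2, hy2, hky2⟩ : ∃ y : W7, IsConj t (ev7 t s d v q r y * ξ) ∧
        W7.key y = (true, true, true, true, true) := by
      cases e1
      · obtain ⟨y, hy, hky⟩ := hconj ((true, false, false, false, false), false, false)
          ((true, false, false, true, false), false, false) (false, true, false, false, false)
          (by rw [htt]; exact B.t_sq) (by rw [htt, htd, ξt]) rfl y1 hy1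
        exact ⟨y, hy, by rw [hky, hky1]; rfl⟩
      · exact ⟨y1, hy1, hky1⟩
    set W := ev7 t s d v q r y2 with hWdef
    have hW2 : W * W = 1 := by
      rw [hWdef, hmul, ← P.ev7_one B]
      congr 1
      obtain ⟨⟨a, m, n, e, g⟩, p, l⟩ := y2
      revert hky2; clear * -; revert a m n e g p l; decide
    have hx2 := isConj_sq B.t_sq hy2
    have hcomm : ξ * (W * ξ) = W * ξ * ξ := by
      have h1 : (W * ξ)⁻¹ = W * ξ := inv_eq_of_mul_eq_one_right hx2
      rw [mul_inv_rev, hξi, inv_eq_of_mul_eq_one_right hW2] at h1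
      rw [← mul_assoc, h1]
    have hne : ξ ≠ W * ξ := fun h => by
      have hW1 : W = 1 := mul_right_cancel (h.symm.trans (one_mul ξ).symm)
      have := P.ev7_inj B ((hWdef.symm.trans hW1).trans (P.ev7_one B).symm)
      rw [this] at hky2
      exact absurd hky2 (by decide)
    have hξ1 : ξ ≠ 1 := fun h => hξS (h ▸ S.one_mem)
    have hK := (hF.parity B hy2 hξ2 hξ1 hne hcomm).mpr hξK
    rw [hcomm, mul_assoc, hξ2, mul_one, hWdef, hf', hky2] at hK
    exact absurd hK (by decide)
  have h := dvd_card_conj_diff hG B.t_sq hMR (by rw [hMcard, hRcard])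
  have hset : conjIn t R \ (M : Set G) =
      ev7 t s d v q r '' {w | W7.key w ∈ W7.six ∧ w.1.1 = true} := by
    ext x
    constructor
    · rintro ⟨⟨hxR | ⟨g, hg, rfl⟩, hxK⟩, hxM⟩
      · obtain ⟨w, rfl⟩ := hxR
        refine ⟨w, ⟨(hf' w).mp hxK, ?_⟩, rfl⟩
        by_contra hw
        exact hxM (Or.inl ⟨w, by simpa using hw, rfl⟩)
      · obtain ⟨w, rfl⟩ := hg
        exfalso
        refine houter w ?_ hxK
        by_contra hw
        exact hxM (Or.inr ⟨_, ⟨w, by simpa using hw, rfl⟩, rfl⟩)
    · rintro ⟨w, ⟨hw, ha⟩, rfl⟩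
      refine ⟨⟨Or.inl ⟨w, rfl⟩, (hf' w).mpr hw⟩, ?_⟩
      rintro (⟨u, hu, h⟩ | ⟨g, hg, h⟩)
      · obtain rfl := P.ev7_inj B h
        simp only [Set.mem_ofPred_eq] at hu
        rw [ha] at hu; exact Bool.noConfusion hu
      · have h' : g * ξ = ev7 t s d v q r w := h
        exact hξS ((S.mul_mem_cancel_left (hM0S hg)).mp (by rw [h']; exact ⟨w, rfl⟩))
  obtain ⟨m, hm, hC⟩ := B.card_C
  rw [hset, hC, hRcard, Set.ncard_image_of_injective _ (fun _ _ => P.ev7_inj B),
    Set.ncard_eq_toFinset_card'] at h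
  have h24 : ({w : W7 | W7.key w ∈ W7.six ∧ w.1.1 = true}).toFinset.card = 24 := by decide
  rw [h24] at h
  have := Nat.odd_iff.mp hm
  omega

end CfsgLib.TwoTimesSym
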