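import Cfsg.Agent.Lib.Recognition.TwoTimesSym.KleinA
import Cfsg.Agent.Lib.Recognition.TwoTimesSym.KleinB

/-!
# The Klein case is impossible; the cyclic case needs isomorphic pair centralisers
-/

set_option linter.unusedSectionVars false

namespace CfsgLib.TwoTimesSym

variable {G : Type*} [Group G] [Finite G] {t : G} {E : Subgroup G} {s d v : G}

/-- The Klein case is impossible. -/
theorem Frame.not_klein (F : Frame t E s d v) (hG : NoIndexTwo G) (hF : Four t E) {g k : G}
    (hg : ∀ y ∈ F.base.T, g * y * g⁻¹ ∈ F.base.T) (hk : ∀ y ∈ F.base.T, k * y * k⁻¹ ∈ F.base.T)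
    (hgt : g * t * g⁻¹ = t * s) (hgts : g * (t * s) * g⁻¹ = t)
    (hkt : k * t * k⁻¹ = t * (s * (d * v * (d * v))))
    (hktc : k * (t * (s * (d * v * (d * v)))) * k⁻¹ = t) : False := by
  obtain ⟨ρ, π, H⟩ := F.half1
  obtain ⟨ρ', π', H'⟩ := F.half2
  have B := F.base
  obtain ⟨q, r, i, j, μ, ν, P⟩ := B.exists_pair hF H H' hg hk hgt hgts hkt hktc
  cases i
  · exact P.not_translation B hG hF H (B.A1set_mirror ▸ H'.cn)
  · cases j
    · exact (P.mirror B).not_translation B.mirror hG hF H' (B.A2set_mirror.symm ▸ H.cn)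
    · exact P.not_both B hG hF H

/-- In the cyclic case the centralisers of `{t, s}` and `{t, c}` are conjugate. -/
theorem Base.card_pair_eq (B : Base t E s d v) {g : G} (hgt : g * t * g⁻¹ = t * s)
    (hgts : g * (t * s) * g⁻¹ = t * (d * v * (d * v)))
    (hgz : g * (d * v * (d * v)) * g⁻¹ = d * v * (d * v)) :
    Nat.card (Subgroup.centralizer ({t, s} : Set G)) =
      Nat.card (Subgroup.centralizer ({t, s * (d * v * (d * v))} : Set G)) := by
  set z := d * v * (d * v) with hz
  have h1 : g * (t * (s * z)) * g⁻¹ = t := by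
    calc g * (t * (s * z)) * g⁻¹ = g * (t * s) * g⁻¹ * (g * z * g⁻¹) := by group
      _ = t := by rw [hgts, hgz, mul_assoc, hz, B.z_sq, mul_one]
  rw [← centralizer_pair_mul t s, ← centralizer_pair_mul t (s * z),
    centralizer_pair_comm t (t * (s * z))]
  refine Nat.card_congr ((MulAut.conj g⁻¹).toEquiv.subtypeEquiv fun x => ?_)
  simp only [Subgroup.mem_centralizer_iff, Set.mem_insert_iff, Set.mem_singleton_iff,
    forall_eq_or_imp, forall_eq, MulEquiv.toEquiv_eq_coe, EquivLike.coe_coe, MulAut.conj_apply,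
    inv_inv]
  have e : ∀ y : G, g * y * g⁻¹ * x = x * (g * y * g⁻¹) ↔
      y * (g⁻¹ * x * g) = g⁻¹ * x * g * y := fun y => by
    constructor
    · intro h
      calc y * (g⁻¹ * x * g) = g⁻¹ * (g * y * g⁻¹ * x) * g := by group
        _ = g⁻¹ * (x * (g * y * g⁻¹)) * g := by rw [h]
        _ = g⁻¹ * x * g * y := by group
    · intro h
      calc g * y * g⁻¹ * x = g * (y * (g⁻¹ * x * g)) * g⁻¹ := by group
        _ = g * (g⁻¹ * x * g * y) * g⁻¹ := by rw [h]
        _ = x * (g * y * g⁻¹) := by group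
  rw [← e, ← e, h1, hgt]

/-- If the two pair centralisers differ, there is a subgroup of index two. -/
theorem Frame.not_four_of_ne (F : Frame t E s d v) (hG : NoIndexTwo G) (hF : Four t E)
    (hne : Nat.card (Subgroup.centralizer ({t, s} : Set G)) ≠
      Nat.card (Subgroup.centralizer ({t, s * (d * v * (d * v))} : Set G))) : False := by
  obtain ⟨g, h, hg, hh, hgt, hht, hcase⟩ := F.base.exists_dichotomy hF
  rcases hcase with ⟨hgts, hk1, hk2⟩ | hgts
  · refine F.not_klein hG hF hg (k := g * h) ?_ hgt hgts hk1 hk2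
    intro y hy
    have := hg _ (hh y hy)
    convert this using 1; group
  · exact hne (F.base.card_pair_eq hgt hgts (F.base.normalizer_fix_z hg))

end CfsgLib.TwoTimesSym
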