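import Cfsg.Agent.Lib.Recognition.TwoTimesSym.CyclicNormalizer
import Cfsg.Agent.Lib.Recognition.TwoTimesSym.KleinAssembly

/-!
# The cyclic case is impossible
-/

set_option linter.unusedSectionVars false
set_option synthInstance.maxSize 1000

namespace CfsgLib.TwoTimesSym

variable {G : Type*} [Group G] [Finite G] {t : G} {E : Subgroup G} {s d v y η η1 : G}
  {Y : Eta t s d v y η false false} {B : Base t E s d v}

namespace NoneCtx

variable (X : NoneCtx t E s d v y η η1 Y B)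

include X

/-- A subgroup of index two in `N(B)` containing the even part of `B` but not `t`. -/
theorem exists_index_two : ∃ M : Subgroup G, M ≤ Y.N6 B ∧ 2 * Nat.card M = Nat.card (Y.N6 B) ∧
    Y.MB B ≤ M ∧ t ∉ M := by
  have hK := X.conj_iff
  obtain ⟨y00, y10, y01, y11⟩ := X.yMaps
  have S := X.shift
  set N := Y.N6 B with hN
  set ρ := η1 * y with hρ
  have hρN : ρ ∈ N := N.mul_mem S.mem X.yN
  have r00 : Maps t s d v η ρ (false, false) (true, false) := y00.comp S.maps00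
  have r10 : Maps t s d v η ρ (true, false) (true, true) := y10.comp S.maps01
  have r01 : Maps t s d v η ρ (false, true) (false, false) := y01.comp S.maps10
  have r11 : Maps t s d v η ρ (true, true) (false, true) := y11.comp S.maps11
  have q : ∀ p : Bool × Bool, Maps t s d v η (ρ * ρ) p (!p.1, !p.2) := by
    rintro ⟨p1, p2⟩
    cases p1 <;> cases p2
    · exact r00.comp r10
    · exact r01.comp r00
    · exact r10.comp r11
    · exact r11.comp r01
  set r2 := ρ * ρ with hr2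
  have hr2N : r2 ∈ N := N.mul_mem hρN hρN
  have hb4 : r2 * r2 ∈ Y.B6 B :=
    X.mem_B6_of_fix (N.mul_mem hr2N hr2N) ((q _).comp (q _)) ((q _).comp (q _))
  have hb4M : r2 * r2 ∈ Y.MB B := by
    obtain ⟨w, hw⟩ := hb4
    rw [← hw, Y.ev6_mem_MB B]
    by_contra ha
    have ha : w.1.1 = true := by simpa using ha
    have hc : r2 * ev6 t s d v η w * r2⁻¹ = ev6 t s d v η w := by rw [hw]; group
    by_cases hi : W6.isInv false false w = true
    · obtain ⟨p, hp⟩ := Y.exists_inCls B hK (Y.ev6_mem_B6 B w) ((hK w).mpr ⟨ha, hi⟩)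
      have h := q p _ hp
      rw [hc] at h
      have := Y.inCls_unique B hp h
      obtain ⟨p1, p2⟩ := p
      simp at this
    · obtain ⟨p, m, n, hcm, hno⟩ := W6.odd_comm w ha (by simpa using hi)
      obtain ⟨m', n', h⟩ := q p _ ⟨m, n, rfl⟩
      refine hno m' n' (Y.ev6_inj B ?_)
      rw [← Y.ev6_mul B, ← Y.ev6_mul B, h, ← hc, ← conj_prod, ← conj_prod, Y.ev6_mul B, hcm,
        ← Y.ev6_mul B]
  have hMB : ∀ {g : G}, g ∈ N → ∀ x ∈ Y.MB B, g * x * g⁻¹ ∈ Y.MB B := fun hg =>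
    Y.N6_MB B hK hg
  set L1 := adjoinSq (Y.MB B) r2 (hMB hr2N) hb4M with hL1
  have hρL1 : ∀ x ∈ L1, ρ * x * ρ⁻¹ ∈ L1 := by
    rintro x (hx | ⟨k, hk, rfl⟩)
    · exact Or.inl (hMB hρN x hx)
    · refine Or.inr ⟨ρ * k * ρ⁻¹, hMB hρN k hk, ?_⟩
      show r2 * (ρ * k * ρ⁻¹) = ρ * (r2 * k) * ρ⁻¹
      rw [hr2]; group
  have hρ2 : ρ * ρ ∈ L1 := mem_adjoinSq.mpr (Or.inr ⟨1, (Y.MB B).one_mem, mul_one r2⟩)
  set L2 := adjoinSq L1 ρ hρL1 hρ2 with hL2
  have hMBL2 : Y.MB B ≤ L2 := fun x hx => Or.inl (Or.inl hx)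
  have hρmem : ρ ∈ L2 := Or.inr ⟨1, L1.one_mem, mul_one ρ⟩
  have hy2 : y * y ∈ L2 := hMBL2 (Y.y_sq_MB B X.cyc X.four)
  have hyρ : y * ρ * y⁻¹ ∈ L2 := by
    have : y * ρ * y⁻¹ = y * y * ρ⁻¹ := by
      rw [hρ, mul_inv_rev, X.η1_inv]; group
    rw [this]; exact L2.mul_mem hy2 (L2.inv_mem hρmem)
  have hyr2 : y * r2 * y⁻¹ ∈ L2 := by
    rw [hr2, conj_prod]; exact L2.mul_mem hyρ hyρ
  have hyL1 : ∀ x ∈ L1, y * x * y⁻¹ ∈ L2 := by
    rintro x (hx | ⟨k, hk, rfl⟩)
    · exact hMBL2 (hMB X.yN x hx)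
    · show y * (r2 * k) * y⁻¹ ∈ L2
      rw [conj_prod]; exact L2.mul_mem hyr2 (hMBL2 (hMB X.yN k hk))
  have hyL2 : ∀ x ∈ L2, y * x * y⁻¹ ∈ L2 := by
    rintro x (hx | ⟨k, hk, rfl⟩)
    · exact hyL1 x hx
    · show y * (ρ * k) * y⁻¹ ∈ L2
      rw [conj_prod]; exact L2.mul_mem hyρ (hyL1 k hk)
  set M := adjoinSq L2 y hyL2 hy2 with hM
  -- membership
  have hMBm : ∀ {k : G}, k ∈ Y.MB B → ∀ p, Maps t s d v η k p p := fun hk p =>
    Y.maps_B6 B hK (Y.MB_le_B6 B hk) p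
  have hL1m : ∀ x ∈ L1, Maps t s d v η x (false, false) (false, false) → x ∈ Y.MB B := by
    rintro x (hx | ⟨k, hk, rfl⟩) h
    · exact hx
    · exact absurd (Y.maps_unique B h ((hMBm hk _).comp (q _))) (by decide)
  have hL2m : ∀ x ∈ L2, Maps t s d v η x (false, false) (false, false) → x ∈ Y.MB B := by
    rintro x (hx | ⟨k, hk, rfl⟩) h
    · exact hL1m x hx h
    · exfalso
      rcases hk with hk | ⟨k', hk', rfl⟩
      · exact absurd (Y.maps_unique B h ((hMBm hk _).comp r00)) (by decide)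
      · exact absurd (Y.maps_unique B h (((hMBm hk' _).comp (q _)).comp r11)) (by decide)
  have hynot : y ∉ L2 := fun h =>
    Y.y_notMem B X.cyc X.four (Y.MB_le_B6 B (hL2m y h y00))
  have hρnot : ρ ∉ L1 := by
    rintro (h | ⟨k, hk, h⟩)
    · exact absurd (Y.maps_unique B r00 (hMBm h _)) (by decide)
    · have h : r2 * k = ρ := h
      have := (hMBm hk (false, false)).comp (q (false, false))
      rw [h] at this
      exact absurd (Y.maps_unique B r00 this) (by decide)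
  have hr2not : r2 ∉ Y.MB B := fun h =>
    absurd (Y.maps_unique B (q (false, false)) (hMBm h _)) (by decide)
  have hcard : Nat.card M = 256 := by
    rw [hM, card_adjoinSq hynot, card_adjoinSq hρnot, card_adjoinSq hr2not, Y.card_MB B]
  refine ⟨M, ?_, ?_, fun x hx => Or.inl (hMBL2 hx), ?_⟩
  · have hle1 : L1 ≤ N := by
      rintro x (hx | ⟨k, hk, rfl⟩)
      · exact Y.B6_le_N6 B (Y.MB_le_B6 B hx)
      · exact N.mul_mem hr2N (Y.B6_le_N6 B (Y.MB_le_B6 B hk))
    have hle2 : L2 ≤ N := by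
      rintro x (hx | ⟨k, hk, rfl⟩)
      · exact hle1 hx
      · exact N.mul_mem hρN (hle1 hk)
    rintro x (hx | ⟨k, hk, rfl⟩)
    · exact hle2 hx
    · exact N.mul_mem X.yN (hle2 hk)
  · rw [hcard, X.card_N6]
  · have ht0 : Maps t s d v η t (false, false) (false, false) :=
      Y.maps_B6 B hK (Y.T_le_B6 B B.t_mem_T) _
    rintro (h | ⟨k, hk, h⟩)
    · have := hL2m t h ht0
      have h' : ev6 t s d v η W6.gt ∈ Y.MB B := by rw [Y.ev6_t B]; exact this
      exact absurd ((Y.ev6_mem_MB B).mp h') (by simp [W6.gt])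
    · have h : y * k = t := h
      have hk' : k = y⁻¹ * t := by rw [← h]; group
      have hm : Maps t s d v η k (false, false) (false, false) := by
        rw [hk']; exact ht0.comp (Y.maps_inv B hK X.yN y00)
      apply Y.y_notMem B X.cyc X.four
      have hyk : y * k ∈ Y.B6 B := h ▸ Y.T_le_B6 B B.t_mem_T
      exact ((Y.B6 B).mul_mem_cancel_right (Y.MB_le_B6 B (hL2m k hk hm))).mp hyk

variable {π : G} (hη2P : π * η1 * π⁻¹ ∈ B.trans t) (hη1P : η1 ∈ B.trans t)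
  (hη2t : π * η1 * π⁻¹ * t * (π * η1 * π⁻¹)⁻¹ = ev t s d v (true, true, false, true, false))
  (hη2K : ¬ IsConj t (π * η1 * π⁻¹)) (hη1t2 : π * η1 * π⁻¹ * (π * η1 * π⁻¹) = 1)
  (cn1 : CentNorm t (A1set t s d v)) (cn2 : CentNorm t (A2set t s d v))

include hη2P hη1P hη2t hη2K hη1t2 cn1 cn2

/-- The centraliser in `N(B)` of a conjugate of `t` outside `B` has order at most `16`. -/
lemma stab_outside {x : G} (hx : x ∈ Y.N6 B) (hxK : IsConj t x) (hxB : x ∉ Y.B6 B) :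
    ∃ j ≤ 4, {n | n ∈ Y.N6 B ∧ n * x = x * n}.ncard = 2 ^ j := by
  set S : Subgroup G := Y.N6 B ⊓ Subgroup.centralizer ({x} : Set G) with hS
  have hSc : {n | n ∈ Y.N6 B ∧ n * x = x * n}.ncard = Nat.card S := by
    rw [← SetLike.coe_sort_coe, Nat.card_coe_set_eq]
    congr 1
    ext n
    simp [hS, Subgroup.mem_centralizer_singleton_iff]
  have hdvd : Nat.card S ∣ 2 ^ 9 := by
    have := Subgroup.card_dvd_of_le (inf_le_left : S ≤ Y.N6 B)
    rwa [X.card_N6] at this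
  obtain ⟨j, -, hj⟩ := (Nat.dvd_prime_pow Nat.prime_two).mp hdvd
  obtain ⟨g, hg⟩ := isConj_iff.mp hxK
  set P : Subgroup G := S.map (MulAut.conj g⁻¹).toMonoidHom with hP
  have hPc : Nat.card P = 2 ^ j := by
    rw [hP, Nat.card_congr (Subgroup.equivMapOfInjective _ _
      (MulAut.conj g⁻¹).injective).symm.toEquiv, hj]
  have hPle : P ≤ Subgroup.centralizer ({t} : Set G) := by
    rintro _ ⟨n, hn, rfl⟩
    have h := Subgroup.mem_centralizer_singleton_iff.mp hn.2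
    rw [Subgroup.mem_centralizer_singleton_iff]
    simp only [MulEquiv.coe_toMonoidHom, MulAut.conj_apply, inv_inv]
    rw [← hg] at h
    calc g⁻¹ * n * g * t = g⁻¹ * (n * (g * t * g⁻¹)) * g := by group
      _ = g⁻¹ * (g * t * g⁻¹ * n) * g := by rw [h]
      _ = t * (g⁻¹ * n * g) := by group
  obtain ⟨m, hm, hC⟩ := B.card_C
  have hd : 2 ^ j ∣ 32 * m := by
    rw [← hC, ← hPc]; exact Subgroup.card_dvd_of_le hPle
  have h5 : 2 ^ j ∣ 2 ^ 5 :=
    (Nat.Coprime.pow_left j (Nat.coprime_two_left.mpr hm)).dvd_of_dvd_mul_right hd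
  have hj5 : j ≤ 5 := (Nat.pow_dvd_pow_iff_le_right (by norm_num)).mp h5
  refine ⟨j, ?_, by rw [hSc, hj]⟩
  by_contra hj4
  obtain rfl : j = 5 := by omega
  obtain ⟨c, -, hc⟩ := B.exists_conj_le_T (IsPGroup.of_card hPc) hPle
  set h := c * g⁻¹ with hh
  set Q : Subgroup G := S.map (MulAut.conj h).toMonoidHom with hQ
  have hQT : Q = B.T := by
    refine Subgroup.eq_of_le_of_card_ge ?_ ?_
    · rintro _ ⟨n, hn, rfl⟩
      have := hc _ (Subgroup.mem_map_of_mem (MulAut.conj g⁻¹).toMonoidHom hn)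
      simpa [hh, mul_assoc] using this
    · rw [B.card_T, hQ, Nat.card_congr (Subgroup.equivMapOfInjective _ _
        (MulAut.conj h).injective).symm.toEquiv, hj]
      norm_num
  have h12 := B.ncard_conjIn_T_four X.four
  have hsub : conjIn t B.T ⊆ (fun z => h * z * h⁻¹) ''
      {z | z ∈ Y.N6 B ∧ IsConj t z ∧ z * x = x * z} := by
    rintro u ⟨hu, hc'⟩
    rw [← hQT] at hu
    obtain ⟨z, hz, rfl⟩ := hu
    exact ⟨z, ⟨hz.1, (isConj_conj t z h).mp hc',
      Subgroup.mem_centralizer_singleton_iff.mp hz.2⟩, rfl⟩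
  have h8 := X.centralizer_outside hη2P hη1P hη2t hη2K hη1t2 cn1 cn2 hx hxK hxB
  have := (Set.ncard_le_ncard hsub (Set.toFinite _)).trans (Set.ncard_image_le (Set.toFinite _))
  omega

/-- The setting is contradictory. -/
theorem absurd_of (hG : NoIndexTwo G) : False := by
  classical
  have : Fintype G := Fintype.ofFinite G
  obtain ⟨M, hle, hcard, hMB, htM⟩ := X.exists_index_two
  set N := Y.N6 B with hN
  have hnormal : ∀ n ∈ N, ∀ x ∈ N, x ∈ M ↔ n * x * n⁻¹ ∈ M := by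
    intro n hn x hx
    have hidx : (M.subgroupOf N).index = 2 := by
      have h := Subgroup.index_mul_card (M.subgroupOf N)
      rw [Nat.card_congr (Subgroup.subgroupOfEquivOfLe hle).toEquiv, ← hcard] at h
      exact Nat.eq_of_mul_eq_mul_right Nat.card_pos h
    have hnor := Subgroup.normal_of_index_eq_two hidx
    constructor
    · intro hxM
      exact hnor.conj_mem ⟨x, hx⟩ hxM ⟨n, hn⟩
    · intro h
      have := hnor.conj_mem ⟨n * x * n⁻¹, N.mul_mem (N.mul_mem hn hx) (N.inv_mem hn)⟩ h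
        (⟨n, hn⟩ : N)⁻¹
      rw [Subgroup.mem_subgroupOf] at this
      simpa [mul_assoc] using this
  set W : Set G := {x | x ∈ N ∧ IsConj t x ∧ x ∉ Y.B6 B ∧ x ∉ M} with hW
  set f : G → ℕ := fun x => {n | n ∈ N ∧ n * x = x * n}.ncard with hf
  have hfconj : ∀ g ∈ N, ∀ x, f (g * x * g⁻¹) = f x := by
    intro g hg x
    show Set.ncard _ = Set.ncard _
    rw [← Set.ncard_image_of_injective {n | n ∈ N ∧ n * x = x * n} (MulAut.conj g).injective]
    congr 1
    ext n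
    simp only [Set.mem_image, Set.mem_ofPred_eq, MulAut.conj_apply]
    constructor
    · rintro ⟨hn, hnx⟩
      refine ⟨g⁻¹ * n * g, ⟨N.mul_mem (N.mul_mem (N.inv_mem hg) hn) hg, ?_⟩, by group⟩
      calc g⁻¹ * n * g * x = g⁻¹ * (n * (g * x * g⁻¹)) * g := by group
        _ = g⁻¹ * (g * x * g⁻¹ * n) * g := by rw [hnx]
        _ = x * (g⁻¹ * n * g) := by group
    · rintro ⟨u, ⟨hu, hux⟩, rfl⟩
      refine ⟨N.mul_mem (N.mul_mem hg hu) (N.inv_mem hg), ?_⟩
      calc g * u * g⁻¹ * (g * x * g⁻¹) = g * (u * x) * g⁻¹ := by group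
        _ = g * x * g⁻¹ * (g * u * g⁻¹) := by rw [hux]; group
  have hW32 : 32 ∣ W.ncard := by
    rw [Set.ncard_eq_toFinset_card', Finset.card_eq_sum_card_image f W.toFinset]
    refine Finset.dvd_sum fun a ha => ?_
    obtain ⟨x, hx, rfl⟩ := Finset.mem_image.mp ha
    rw [Set.mem_toFinset] at hx
    set Ω : Set G := {z | z ∈ W ∧ f z = f x} with hΩ
    have hΩc : ({z ∈ W.toFinset | f z = f x}).card = Ω.ncard := by
      rw [Set.ncard_eq_toFinset_card']; congr 1; ext z; simp [hΩ]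
    rw [hΩc]
    have hinv : ∀ n ∈ N, ∀ z ∈ Ω, n * z * n⁻¹ ∈ Ω := by
      rintro n hn z ⟨⟨hzN, hzK, hzB, hzM⟩, hzf⟩
      have hmemB : ∀ u, u ∈ Y.B6 B ↔ n * u * n⁻¹ ∈ Y.B6 B :=
        fun u => conj_mem_iff ((Y.mem_N6 B).mp hn) u
      exact ⟨⟨N.mul_mem (N.mul_mem hn hzN) (N.inv_mem hn), (isConj_conj t z n).mpr hzK,
        fun h => hzB ((hmemB z).mpr h), fun h => hzM ((hnormal n hn z hzN).mpr h)⟩,
        (hfconj n hn z).trans hzf⟩
    obtain ⟨h1, h2⟩ := orbit_card (N := N) (Ω := Ω) hinv (c := f x) (fun z hz => hz.2)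
      (x := x) ⟨hx, rfl⟩
    refine Dvd.dvd.trans ?_ h2
    obtain ⟨j, hj, hfx⟩ :=
      X.stab_outside hη2P hη1P hη2t hη2K hη1t2 cn1 cn2 hx.1 hx.2.1 hx.2.2.1
    rw [show f x = 2 ^ j from hfx, X.card_N6] at h1
    interval_cases j <;> omega
  have hset : conjIn t N \ (M : Set G) = conjIn t (Y.B6 B) ∪ W := by
    ext x
    constructor
    · rintro ⟨⟨hx, hc⟩, hxM⟩
      by_cases hxB : x ∈ Y.B6 B
      · exact Or.inl ⟨hxB, hc⟩
      · exact Or.inr ⟨hx, hc, hxB, hxM⟩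
    · rintro (⟨hx, hc⟩ | ⟨hx, hc, -, hxM⟩)
      · refine ⟨⟨Y.B6_le_N6 B hx, hc⟩, fun hxM => htM ?_⟩
        obtain ⟨w, rfl⟩ := hx
        have hmem : ev6 t s d v η w * ev6 t s d v η W6.gt ∈ M := hMB (by
          rw [Y.ev6_mul B, Y.ev6_mem_MB B, (W6.key_mul _ _ _ _).1,
            ((X.conj_iff w).mp hc).1]
          rfl)
        rw [Y.ev6_t B] at hmem
        exact (M.mul_mem_cancel_left hxM).mp hmem
      · exact ⟨⟨hx, hc⟩, hxM⟩
  have h := dvd_card_conj_diff hG B.t_sq hle hcard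
  obtain ⟨m, hm, hC⟩ := B.card_C
  rw [hset, Set.ncard_union_eq ?_ (Set.toFinite _) (Set.toFinite _), X.ncard_conjIn_B6, X.card_N6,
    hC] at h
  · obtain ⟨q, hq⟩ := hW32
    rw [hq, show 32 * m * (16 + 32 * q) = 512 * m + 1024 * (m * q) by ring] at h
    have := Nat.odd_iff.mp hm
    omega
  · rw [Set.disjoint_left]
    exact fun x h1 h2 => h2.2.2.1 h1.1

end NoneCtx

/-- The cyclic case is impossible. -/
theorem Frame.not_cyclic (F : Frame t E s d v) (hG : NoIndexTwo G) (hF : Four t E) {g : G}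
    (hg : ∀ x ∈ F.base.T, g * x * g⁻¹ ∈ F.base.T) (hgt : g * t * g⁻¹ = t * s)
    (hgts : g * (t * s) * g⁻¹ = t * (d * v * (d * v))) : False := by
  obtain ⟨ρ, π, H⟩ := F.half1
  obtain ⟨ρ', π', H'⟩ := F.half2
  have B := F.base
  have cn2 : CentNorm t (A2set t s d v) := B.A1set_mirror ▸ H'.cn
  have C := B.exists_cyc H H' hg hgt hgts
  obtain ⟨η, α, β, Y⟩ := B.exists_eta hF H H' C
  obtain ⟨w, hw1, hwK⟩ := Y.exists_odd B C hF hG
  obtain rfl : α = false := by
    have h2 := isConj_sq B.t_sq hwK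
    rw [Y.ev6_mul B, ← Y.ev6_one B] at h2
    have h3 := congrArg (fun w : W6 => w.1.2.1) (Y.ev6_inj B h2)
    simpa [W6.mul, W6.one, W5.one, W5.mul, W6.sig] using h3
  cases β
  · have hK := Y.isConj_ev6 B C hG hF
    obtain ⟨η1, S, hη1P, hη2P, hη2t, hη2K⟩ :=
      Y.exists_shift B C hF hK (Y.η_not_conj B C hG hF) cn2 H
    have X : NoneCtx t E s d v g η η1 Y B := ⟨C, hF, hK, S⟩
    refine X.absurd_of hη2P hη1P hη2t hη2K ?_ H.cn cn2 hG
    rw [show π * η1 * π⁻¹ * (π * η1 * π⁻¹) = π * (η1 * η1) * π⁻¹ by group, S.sq]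
    group
  · exact Y.not_twelve B C hG hF H cn2

/-- In a group without a subgroup of index two, `Four` is impossible. -/
theorem Frame.not_four (F : Frame t E s d v) (hG : NoIndexTwo G) (hF : Four t E) : False := by
  obtain ⟨g, h, hg, hh, hgt, hht, hcase⟩ := F.base.exists_dichotomy hF
  rcases hcase with ⟨hgts, hk1, hk2⟩ | hgts
  · refine F.not_klein hG hF hg (k := g * h) ?_ hgt hgts hk1 hk2
    intro x hx
    have := hg _ (hh x hx)
    convert this using 1; group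
  · exact F.not_cyclic hG hF hg hgt hgts

end CfsgLib.TwoTimesSym
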