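import Cfsg.Agent.Lib.Recognition.TwoTimesSym.Concrete

/-!
# The centraliser of `t` and a permutation involution
-/

set_option linter.unusedSectionVars false

namespace CfsgLib.TwoTimesSym

open Equiv

variable {G : Type*} [Group G] {t : G} {n : ℕ}

lemma Emb.card_pair (e : Emb t n) (a : Perm (Fin n)) :
    Nat.card (Subgroup.centralizer ({t, e.ι a} : Set G)) =
      2 * (((List.finRange n).permutations').filter fun L => cj L a a).toFinset.card := by
  have hS : ({p : Perm (Fin n) | p * a * p⁻¹ = a} : Set _).ncard =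
      (((List.finRange n).permutations').filter fun L => cj L a a).toFinset.card := by
    rw [← Set.ncard_coe_finset, ← Set.ncard_image_of_injective _ code_injective]
    congr 1
    ext L
    simp only [Set.mem_image, Finset.mem_coe, List.mem_toFinset, List.mem_filter,
      Set.mem_ofPred_eq]
    constructor
    · rintro ⟨p, hp, rfl⟩; exact ⟨code_mem p, (cj_code _ _ _).mpr hp⟩
    · rintro ⟨hL, hc⟩
      obtain ⟨p, rfl⟩ := exists_code hL
      exact ⟨p, (cj_code _ _ _).mp hc, rfl⟩
  have hset : ((Subgroup.centralizer ({t, e.ι a} : Set G)) : Set G) =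
      (fun y : Bool × Perm (Fin n) => bp y.1 t * e.ι y.2) ''
        ((Set.univ : Set Bool) ×ˢ {p : Perm (Fin n) | p * a * p⁻¹ = a}) := by
    ext x
    rw [SetLike.mem_coe, Subgroup.mem_centralizer_iff]
    constructor
    · intro hx
      obtain ⟨b, p, rfl⟩ := e.exists_pair (hx t (Set.mem_insert _ _)).symm
      exact ⟨(b, p), ⟨trivial, e.commute_pair.mp (hx _ (Set.mem_insert_of_mem _ rfl)).symm⟩, rfl⟩
    · rintro ⟨⟨b, p⟩, ⟨-, hp⟩, rfl⟩ y (rfl | rfl)
      · exact (e.pair_t b p).symm
      · exact ((e.commute_pair (a := b)).mpr hp).symm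
  rw [← SetLike.coe_sort_coe, Nat.card_coe_set_eq, hset,
    Set.ncard_image_of_injective _ (fun x y h => by
      obtain ⟨h1, h2⟩ := e.pair_inj h; exact Prod.ext h1 h2),
    Set.ncard_prod, hS, Set.ncard_univ]
  simp [Nat.card_eq_fintype_card]

/-- The frame and its twist, from facts in `Sym(n)`. -/
theorem Emb.four [Finite G] (e : Emb t n) (hG : NoIndexTwo G)
    {s d v ρ π ρ' π' : Perm (Fin n)} (F : Facts s d v) (H : HalfFacts s d v ρ π)
    (H' : HalfFacts (s * (d * v * (d * v))) (v * s) (d * s) ρ' π')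
    (hs : Perm.sign s = -1) (hd : Perm.sign d = -1) (hv : Perm.sign v = 1) :
    ∃ e' : Emb t n, Frame t e'.ι.range (e'.ι s) (e'.ι d) (e'.ι v) ∧ Four t e'.ι.range := by
  have F1 := e.frame F H H'
  have hb := e.twist.base F
  have es : e.twist.ι s = t * e.ι s := by simp [Emb.twist, hs]
  have ed : e.twist.ι d = t * e.ι d := by simp [Emb.twist, hd]
  have ev' : e.twist.ι v = e.ι v := by simp [Emb.twist, hv]
  rw [es, ed, ev'] at hb
  rcases F1.four_or hG hb with h | h
  · exact ⟨e, F1, h⟩
  · exact ⟨e.twist, e.twist.frame F H H', h⟩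

end CfsgLib.TwoTimesSym
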