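import Cfsg.Agent.Lib.Recognition.TwoTimesSym.KleinModel

/-!
# The conjugates of `t` in `⟨T, q, r⟩`
-/

set_option linter.unusedSectionVars false

namespace CfsgLib.TwoTimesSym

variable {G : Type*} [Group G] [Finite G]

/-- A finite nonempty set closed under multiplication is a subgroup. -/
def subgroupOfMul (S : Set G) (h1 : (1 : G) ∈ S) (hmul : ∀ x ∈ S, ∀ y ∈ S, x * y ∈ S) :
    Subgroup G where
  carrier := S
  one_mem' := h1
  mul_mem' := fun hx hy => hmul _ hx _ hy
  inv_mem' := by
    intro x hx
    have hpow : ∀ n : ℕ, x ^ n ∈ S := by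
      intro n
      induction n with
      | zero => simpa using h1
      | succ n ih => rw [pow_succ]; exact hmul _ ih _ hx
    have : x⁻¹ = x ^ (orderOf x - 1) := by
      refine inv_eq_of_mul_eq_one_right ?_
      rw [← pow_succ', Nat.sub_add_cancel (orderOf_pos x), pow_orderOf_eq_one]
    rw [this]
    exact hpow _

@[simp] lemma mem_subgroupOfMul {S : Set G} {h1 : (1 : G) ∈ S}
    {hmul : ∀ x ∈ S, ∀ y ∈ S, x * y ∈ S} {x : G} : x ∈ subgroupOfMul S h1 hmul ↔ x ∈ S :=
  Iff.rfl

lemma key_mul : ∀ i j μ ν : Bool, ∀ a b c d e a' b' c' d' e' : Bool,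
    W7.key (W7.mul i j μ ν (W7.rep (a, b, c, d, e)) (W7.rep (a', b', c', d', e'))) =
      W7.add (a, b, c, d, e) (a', b', c', d', e') := by decide +kernel

variable {t : G} {E : Subgroup G} {s d v q r : G} {i j μ ν : Bool}

namespace Pair

variable (P : Pair t s d v q r i j μ ν) (B : Base t E s d v)

include P B

lemma ev7_T (w : W5) : ev7 t s d v q r (w, false, false) = ev t s d v w := by simp [ev7]

/-- The subgroup `⟨T, q, r⟩`. -/
def S1 : Subgroup G :=
  subgroupOfMul (Set.range (ev7 t s d v q r)) ⟨W7.one, P.ev7_one B⟩ (by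
    rintro _ ⟨x, rfl⟩ _ ⟨y, rfl⟩; exact ⟨_, (P.ev7_mul B x y).symm⟩)

lemma mem_S1 {x : G} : x ∈ P.S1 B ↔ x ∈ Set.range (ev7 t s d v q r) := Iff.rfl

lemma card_S1 : Nat.card (P.S1 B) = 128 := by
  have : (P.S1 B : Set G) = Set.range (ev7 t s d v q r) := rfl
  rw [← SetLike.coe_sort_coe, Nat.card_coe_set_eq, this,
    Set.ncard_range_of_injective (fun _ _ => P.ev7_inj B)]
  simp [Nat.card_eq_fintype_card]

lemma S1_le_normalizer {x y : G} (hx : x ∈ P.S1 B) (hy : y ∈ B.T) : x * y * x⁻¹ ∈ B.T := by
  obtain ⟨⟨w, a, b⟩, rfl⟩ := hx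
  obtain ⟨u, rfl⟩ := B.mem_T.mp hy
  have h : ∃ u', bp b r * ev t s d v u * (bp b r)⁻¹ = ev t s d v u' := by
    cases b
    · exact ⟨u, by simp⟩
    · exact ⟨_, P.conj_r B u⟩
  obtain ⟨u', hu'⟩ := h
  have h : ∃ u'', bp a q * ev t s d v u' * (bp a q)⁻¹ = ev t s d v u'' := by
    cases a
    · exact ⟨u', by simp⟩
    · exact ⟨_, P.conj_q B u'⟩
  obtain ⟨u'', hu''⟩ := h
  refine B.mem_T.mpr ⟨W5.mul (W5.mul w u'') w.inv, ?_⟩
  rw [← B.ev_conj, ← hu'', ← hu']
  simp only [ev7]; group

lemma conj_class (hF : Four t E) (w : W7) :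
    IsConj t (ev7 t s d v q r w) ↔ IsConj t (ev7 t s d v q r (W7.rep (W7.key w))) := by
  obtain ⟨⟨a, m, n, e, f⟩, p, l⟩ := w
  have hzw : ∀ x : W7, ev7 t s d v q r ((false, m, n, false, false), false, false) *
      ev7 t s d v q r x =
      ev7 t s d v q r x * ev7 t s d v q r ((false, m, n, false, false), false, false) := by
    intro x
    rw [P.ev7_mul B, P.ev7_mul B]
    congr 1
    have : ∀ i j μ ν m n : Bool, ∀ x : W7,
        W7.mul i j μ ν ((false, m, n, false, false), false, false) x =
          W7.mul i j μ ν x ((false, m, n, false, false), false, false) := by decide +kernel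
    exact this i j μ ν m n x
  set a0 := ev7 t s d v q r ((false, m, n, false, false), false, false) with ha0
  have ha0K : ¬ IsConj t a0 := by
    rw [ha0, P.ev7_T B, B.isConj_ev_four hF]; simp
  have ha02 : a0 * a0 = 1 := by
    rw [ha0, P.ev7_T B, B.ev_mul, ← B.ev_one]; congr 1; clear * -; revert m n; decide
  have hwr : ev7 t s d v q r ((a, m, n, e, f), p, l) =
      a0 * ev7 t s d v q r ((a, false, false, e, f), p, l) := by
    rw [ha0, P.ev7_mul B]
    congr 1
    have : ∀ i j μ ν a m n e f p l : Bool,
        (((a, m, n, e, f), p, l) : W7) = W7.mul i j μ ν ((false, m, n, false, false), false, false)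
          ((a, false, false, e, f), p, l) := by decide +kernel
    exact this i j μ ν a m n e f p l
  show IsConj t (ev7 t s d v q r ((a, m, n, e, f), p, l)) ↔
    IsConj t (ev7 t s d v q r ((a, false, false, e, f), p, l))
  constructor
  · intro h
    have := hF.conj_mul B h ha02 ha0K (hzw _)
    rwa [hwr, hzw, mul_assoc, ha02, mul_one] at this
  · intro h
    have := hF.conj_mul B h ha02 ha0K (hzw _)
    rwa [← hzw, ← hwr] at this

/-- The possible patterns. -/
theorem pattern (hG : NoIndexTwo G) (hF : Four t E) :
    ∃ f : K5 → Bool, (∀ w, IsConj t (ev7 t s d v q r w) ↔ f (W7.key w) = true) ∧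
      W7.concl i j μ ν f = true := by
  classical
  let f : K5 → Bool := fun k => decide (IsConj t (ev7 t s d v q r (W7.rep k)))
  have hf : ∀ w, IsConj t (ev7 t s d v q r w) ↔ f (W7.key w) = true := fun w => by
    rw [P.conj_class B hF w]; simp [f]
  have hinv : ∀ k, f k = true → W7.isInv i j μ ν k = true := by
    intro k hk
    have h := isConj_sq B.t_sq (of_decide_eq_true hk)
    rw [P.ev7_mul B, ← P.ev7_one B] at h
    simpa [W7.isInv] using P.ev7_inj B h
  refine ⟨f, hf, W7.search_sound i j μ ν _ _ (W7.search_ok i j μ ν) f ?_ ?_⟩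
  · intro k hk
    by_cases hpl : k.2.2.2.1 = true ∨ k.2.2.2.2 = true
    · have hi : W7.isInv i j μ ν k = false := by
        by_contra hi
        exact hk (List.mem_filter.mpr ⟨W7.mem_allK k, by
          rcases hpl with h | h <;> simp [h, Bool.eq_true_of_not_eq_false hi]⟩)
      have h1 : f k = false := by
        by_contra h
        rw [hinv k (Bool.eq_true_of_not_eq_false h)] at hi
        exact Bool.noConfusion hi
      rw [h1]; simp [W7.base, hi]
    · obtain ⟨a, b, c, p, l⟩ := k
      simp only [not_or, Bool.not_eq_true] at hpl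
      obtain ⟨rfl, rfl⟩ := hpl
      have h5 : ∀ i j μ ν a b c : Bool, W7.isInv i j μ ν (a, b, c, false, false) =
          decide (W5.mul (a, false, false, b, c) (a, false, false, b, c) = W5.one) := by
        decide +kernel
      simp only [W7.base, Bool.or_self, Bool.not_false, Bool.true_and, h5, f]
      rw [Bool.eq_iff_iff, decide_eq_true_iff, Bool.and_eq_true, decide_eq_true_iff]
      show IsConj t (ev7 t s d v q r ((a, false, false, b, c), false, false)) ↔ _
      rw [P.ev7_T B]
      exact B.isConj_ev_four hF _
  · simp only [W7.valid, Bool.and_eq_true, List.all_eq_true]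
    refine ⟨?_, ?_⟩
    · intro c hc
      have hlin : ∀ k l, c (W7.add k l) = xor (c k) (c l) := by
        simp only [W7.coord, List.mem_cons, List.not_mem_nil, or_false] at hc
        rcases hc with rfl | rfl | rfl | rfl | rfl <;> intro k l <;> rfl
      have hkey : ∀ x y : W7, c (W7.key (W7.mul i j μ ν x y)) =
          xor (c (W7.key x)) (c (W7.key y)) := by
        have : ∀ i j μ ν : Bool, ∀ x y : W7,
            W7.key (W7.mul i j μ ν x y) = W7.add (W7.key x) (W7.key y) := by
          intro i j μ ν x y
          obtain ⟨⟨a, m, n, e, g⟩, p, l⟩ := x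
          obtain ⟨⟨a', m', n', e', g'⟩, p', l'⟩ := y
          cases p <;> cases l <;>
            simp [W7.mul, W7.key, W7.add, W5.mul, W7.σq, W7.σr]
        intro x y; rw [this, hlin]
      let M : Subgroup G :=
        subgroupOfMul (ev7 t s d v q r '' {w | c (W7.key w) = false})
          ⟨W7.one, by
            have := hkey W7.one W7.one
            have h1 : W7.mul i j μ ν W7.one W7.one = W7.one := by
              have : ∀ i j μ ν : Bool, W7.mul i j μ ν W7.one W7.one = W7.one := by decide
              exact this i j μ ν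
            rw [h1, Bool.xor_self] at this
            exact this, P.ev7_one B⟩
          (by
            rintro _ ⟨x, hx, rfl⟩ _ ⟨y, hy, rfl⟩
            refine ⟨_, ?_, (P.ev7_mul B x y).symm⟩
            simp only [Set.mem_ofPred_eq] at hx hy ⊢
            rw [hkey, hx, hy]; rfl)
      have hMc : (M : Set G) = ev7 t s d v q r '' {w | c (W7.key w) = false} := rfl
      have hMcard : Nat.card M = 64 := by
        rw [← SetLike.coe_sort_coe, Nat.card_coe_set_eq, hMc,
          Set.ncard_image_of_injective _ (fun _ _ => P.ev7_inj B), Set.ncard_eq_toFinset_card']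
        simp only [W7.coord, List.mem_cons, List.not_mem_nil, or_false] at hc
        rcases hc with rfl | rfl | rfl | rfl | rfl <;> decide
      have hle : M ≤ P.S1 B := by
        intro x hx
        obtain ⟨w, -, rfl⟩ := (hx : x ∈ ev7 t s d v q r '' {w | c (W7.key w) = false})
        exact ⟨w, rfl⟩
      have hS : conjIn t (P.S1 B) = ev7 t s d v q r '' {w | f (W7.key w) = true} := by
        ext x
        constructor
        · rintro ⟨⟨w, rfl⟩, hx⟩; exact ⟨w, (hf w).mp hx, rfl⟩
        · rintro ⟨w, hw, rfl⟩; exact ⟨⟨w, rfl⟩, (hf w).mpr hw⟩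
      have h := dvd_card_conj_diff hG B.t_sq hle (by rw [hMcard, P.card_S1 B])
      obtain ⟨m, hm, hC⟩ := B.card_C
      rw [hS, hMc, ← Set.image_sdiff (fun _ _ => P.ev7_inj B),
        Set.ncard_image_of_injective _ (fun _ _ => P.ev7_inj B), P.card_S1 B, hC] at h
      set L := W7.allK.filter fun k => f k && c k with hL
      have hnd : L.Nodup := List.Nodup.filter _ (by decide)
      have hcount : ({w : W7 | f (W7.key w) = true} \ {w | c (W7.key w) = false}).ncard =
          4 * L.length := by
        have e : ({w : W7 | f (W7.key w) = true} \ {w | c (W7.key w) = false}) =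
            ↑(L.toFinset.biUnion fun k => Finset.univ.filter fun w => W7.key w = k) := by
          ext w
          simp [hL, W7.mem_allK]
        rw [e, Set.ncard_coe_finset, Finset.card_biUnion (fun k _ l _ hkl => by
          rw [Function.onFun, Finset.disjoint_filter]
          exact fun w _ h1 h2 => hkl (h1 ▸ h2))]
        rw [Finset.sum_const_nat (m := 4) (fun k _ => by
          clear * -
          have : ∀ k : K5, (Finset.univ.filter fun w : W7 => W7.key w = k).card = 4 := by
            decide +kernel
          exact this k), List.toFinset_card_of_nodup hnd, mul_comm]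
      rw [hcount] at h
      have h2 : 2 ∣ m * L.length := by
        obtain ⟨k, hk⟩ := h
        exact ⟨k, by rw [show 32 * m * (4 * L.length) = 128 * (m * L.length) by ring] at hk; omega⟩
      have h3 : 2 ∣ L.length := (Nat.prime_two.dvd_mul.mp h2).resolve_left fun h =>
        Nat.not_even_iff_odd.mpr hm (even_iff_two_dvd.mpr h)
      simpa using Nat.dvd_iff_mod_eq_zero.mp h3
    · intro k _
      cases hk : f k
      · rfl
      · simp only [Bool.not_true, Bool.false_or, List.all_eq_true]
        intro l _
        by_cases hl : W7.isInv i j μ ν l = true ∧ l ≠ (false, false, false, false, false) ∧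
            l ≠ k ∧ W7.comm i j μ ν k l = true
        · obtain ⟨h1, h2, h3, h4⟩ := hl
          simp only [h1, ne_eq, h2, h3, h4, not_false_eq_true, decide_true, Bool.and_self,
            Bool.not_true, Bool.false_or]
          have hkey : ∀ k : K5, W7.key (W7.rep k) = k := fun k => rfl
          have hl1 : ev7 t s d v q r (W7.rep l) ≠ 1 := fun e => h2 (by
            rw [← P.ev7_one B] at e
            rw [← hkey l, P.ev7_inj B e]; rfl)
          have hlk : ev7 t s d v q r (W7.rep l) ≠ ev7 t s d v q r (W7.rep k) := fun e => h3 (by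
            rw [← hkey l, P.ev7_inj B e, hkey])
          have hl2 : ev7 t s d v q r (W7.rep l) * ev7 t s d v q r (W7.rep l) = 1 := by
            rw [P.ev7_mul B, ← P.ev7_one B]; exact congrArg _ (of_decide_eq_true h1)
          have hcm : ev7 t s d v q r (W7.rep l) * ev7 t s d v q r (W7.rep k) =
              ev7 t s d v q r (W7.rep k) * ev7 t s d v q r (W7.rep l) := by
            rw [P.ev7_mul B, P.ev7_mul B]; exact congrArg _ (of_decide_eq_true h4).symm
          have hp := hF.parity B (of_decide_eq_true hk) hl2 hl1 hlk hcm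
          rw [P.ev7_mul B, hf, key_mul, show IsConj t (ev7 t s d v q r (W7.rep l)) ↔ f l = true
            from (hf _).trans (by rw [hkey])] at hp
          revert hp
          cases f (W7.add l k) <;> cases f l <;> simp
        · have : (W7.isInv i j μ ν l && decide (l ≠ (false, false, false, false, false)) &&
              decide (l ≠ k) && W7.comm i j μ ν k l) = false := by
            rw [Bool.eq_false_iff]
            intro hh
            simp only [Bool.and_eq_true, decide_eq_true_eq] at hh
            exact hl ⟨hh.1.1.1, hh.1.1.2, hh.1.2, hh.2⟩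
          rw [this]; rfl

end Pair

end CfsgLib.TwoTimesSym
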