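import Cfsg.Agent.Lib.Recognition.TwoTimesSym.Concrete
import Cfsg.Agent.Lib.Recognition.TwoTimesSym.KleinPattern

/-!
# The two frames in `Sym(6)`
-/

set_option linter.unusedSectionVars false

namespace CfsgLib.TwoTimesSym.Six

open Equiv

/-- `(56)`. -/
abbrev s : Perm (Fin 6) := swap 4 5
/-- `(12)`. -/
abbrev d : Perm (Fin 6) := swap 0 1
/-- `(13)(24)`. -/
abbrev v : Perm (Fin 6) := swap 0 2 * swap 1 3
/-- An element of order three of the first frame. -/
abbrev ρ : Perm (Fin 6) := swap 0 1 * swap 1 3
/-- An element of order three permuting `d, d z, s`. -/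
abbrev π : Perm (Fin 6) := swap 0 2 * swap 2 4 * (swap 1 3 * swap 3 5)
/-- An element of order three of the second frame. -/
abbrev ρ' : Perm (Fin 6) := swap 0 4 * swap 4 3 * (swap 1 5 * swap 5 2)
/-- An element of order three permuting the generators of the second frame. -/
abbrev π' : Perm (Fin 6) := swap 1 2 * swap 2 3

set_option maxRecDepth 100000

theorem facts : Facts s d v where
  small := by norm_num
  odd := ⟨45, by decide, by decide +kernel⟩
  s_sq := by decide +kernel
  d_sq := by decide +kernel
  v_sq := by decide +kernel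
  sd := by decide +kernel
  sv := by decide +kernel
  dv4 := by decide +kernel
  faithful := by decide +kernel
  normT := by decide +kernel
  supp_s := by decide +kernel
  supp_z := by decide +kernel
  supp_c := by decide +kernel
  supp_d := by decide +kernel
  supp_v := by decide +kernel
  supp_ds := by decide +kernel
  supp_vs := by decide +kernel

/-- Even permutations fixing the fifth point. -/
def derived : Subgroup (Perm (Fin 6)) := MulAction.stabilizer (Perm (Fin 6)) (4 : Fin 6) ⊓ Perm.sign.ker

lemma commutator_mem {a b : Perm (Fin 6)} (ha : a * s = s * a) (hb : b * s = s * b) :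
    a * b * a⁻¹ * b⁻¹ ∈ derived := by
  have key : ∀ a : Perm (Fin 6), a * s = s * a →
      a 4 = 4 ∧ a 5 = 5 ∨ a 4 = 5 ∧ a 5 = 4 := by
    intro a ha
    have h := Equiv.ext_iff.mp ha 4
    simp only [Perm.mul_apply, s, swap_apply_left] at h
    have hne : a 5 ≠ a 4 := fun h => by simpa [Fin.ext_iff] using a.injective h
    rcases eq_or_ne (a 4) 4 with e | e
    · exact Or.inl ⟨e, by rw [h, e, swap_apply_left]⟩
    · rcases eq_or_ne (a 4) 5 with e' | e'
      · exact Or.inr ⟨e', by rw [h, e', swap_apply_right]⟩
      · exact absurd (h.trans (swap_apply_of_ne_of_ne e e')) hne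
  refine ⟨?_, ?_⟩
  · show (a * b * a⁻¹ * b⁻¹) 4 = 4
    have ia : ∀ i j, a i = j → a⁻¹ j = i := fun i j h => by rw [← h]; simp
    have ib : ∀ i j, b i = j → b⁻¹ j = i := fun i j h => by rw [← h]; simp
    simp only [Perm.mul_apply]
    rcases key a ha with ⟨e1, e2⟩ | ⟨e1, e2⟩ <;> rcases key b hb with ⟨f1, f2⟩ | ⟨f1, f2⟩
    · rw [ib _ _ f1, ia _ _ e1, f1, e1]
    · rw [ib _ _ f2, ia _ _ e2, f2, e1]
    · rw [ib _ _ f1, ia _ _ e2, f2, e2]
    · rw [ib _ _ f2, ia _ _ e1, f1, e2]
  · show Perm.sign (a * b * a⁻¹ * b⁻¹) = 1
    simp only [map_mul, map_inv]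
    rcases Int.units_eq_one_or (Perm.sign a) with h | h <;>
      rcases Int.units_eq_one_or (Perm.sign b) with h' | h' <;> simp [h, h']

theorem half : HalfFacts s d v ρ π where
  cent := by decide +kernel
  norm := by decide +kernel
  ρ_unique := by decide +kernel
  v_comm := ⟨swap 1 2 * swap 2 3, swap 0 3 * swap 3 1, by decide +kernel⟩
  z_comm := ⟨swap 2 3, swap 0 2 * swap 1 3, by decide +kernel⟩
  comm_T := ⟨derived, fun _ _ => commutator_mem, by
    intro u h
    have h1 : permWord s d v u 4 = 4 := h.1
    have h2 : Perm.sign (permWord s d v u) = 1 := h.2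
    revert h1 h2
    clear h
    revert u
    decide +kernel⟩
  ρ_s := by decide +kernel
  ρ_cube := by decide +kernel
  ρ_z := by decide +kernel
  ρ_v := by decide +kernel
  ρ_d := by decide +kernel
  π_d := by decide +kernel
  π_dz := by decide +kernel
  π_s := by decide +kernel

/-- The derived group of the centraliser of the triple transposition. -/
def derived' : List (Perm (Fin 6)) :=
  [1, swap 0 1 * swap 2 3, swap 0 1 * swap 4 5, swap 2 3 * swap 4 5,
    swap 0 2 * swap 2 4 * (swap 1 3 * swap 3 5),
    swap 0 5 * swap 5 3 * (swap 1 4 * swap 4 2),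
    swap 0 3 * swap 3 4 * (swap 1 2 * swap 2 5),
    swap 0 4 * swap 4 3 * (swap 1 5 * swap 5 2),
    swap 0 2 * swap 2 5 * (swap 1 3 * swap 3 4),
    swap 0 3 * swap 3 5 * (swap 1 2 * swap 2 4),
    swap 0 4 * swap 4 2 * (swap 1 5 * swap 5 3),
    swap 0 5 * swap 5 2 * (swap 1 4 * swap 4 3)]

lemma derived'_mul : (derived'.all fun a => derived'.all fun b =>
    derived'.any fun c => code (a * b) == code c) = true := by decide +kernel

lemma derived'_comm : ((List.finRange 6).permutations'.filter fun L =>
    cj L (s * (d * v * (d * v))) (s * (d * v * (d * v)))).all (fun A =>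
      ((List.finRange 6).permutations'.filter fun L =>
        cj L (s * (d * v * (d * v))) (s * (d * v * (d * v)))).all fun B =>
          derived'.any fun c => (List.finRange 6).all fun i =>
            ap A (ap B i) == c (ap B (ap A i))) = true := by decide +kernel

theorem half' : HalfFacts (s * (d * v * (d * v))) (v * s) (d * s) ρ' π' where
  cent := by decide +kernel
  norm := by decide +kernel
  ρ_unique := by decide +kernel
  v_comm := ⟨swap 4 5, swap 0 2 * swap 2 4 * (swap 1 3 * swap 3 5), by decide +kernel⟩
  z_comm := ⟨swap 2 3, swap 0 2 * swap 1 3, by decide +kernel⟩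
  comm_T := by
    let D : Subgroup (Perm (Fin 6)) := subgroupOfMul {p | p ∈ derived'} (by simp [derived'])
      (by
        intro a ha b hb
        obtain ⟨c, hc, h⟩ := List.any_eq_true.mp
          (List.all_eq_true.mp (List.all_eq_true.mp derived'_mul a ha) b hb)
        show a * b ∈ derived'
        rw [code_injective (beq_iff_eq.mp h)]; exact hc)
    refine ⟨D, fun a b ha hb => ?_, ?_⟩
    · have hm : ∀ a : Perm (Fin 6), a * (s * (d * v * (d * v))) = s * (d * v * (d * v)) * a →
          code a ∈ (List.finRange 6).permutations'.filter fun L =>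
            cj L (s * (d * v * (d * v))) (s * (d * v * (d * v))) := fun a ha =>
        List.mem_filter.mpr ⟨code_mem a, (cj_code _ _ _).mpr (by rw [ha]; group)⟩
      obtain ⟨c, hc, h⟩ := List.any_eq_true.mp
        (List.all_eq_true.mp (List.all_eq_true.mp derived'_comm _ (hm a ha)) _ (hm b hb))
      simp only [List.all_eq_true, beq_iff_eq, ap_code] at h
      show a * b * a⁻¹ * b⁻¹ ∈ derived'
      have e : a * b = c * (b * a) := Equiv.ext fun i => by
        simpa [Perm.mul_apply] using h i (List.mem_finRange i)
      rw [e]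
      convert hc using 1
      group
    · intro u h
      have h' : (derived'.any fun c =>
          code (permWord (s * (d * v * (d * v))) (v * s) (d * s) u) == code c) = true :=
        List.any_eq_true.mpr ⟨_, h, by simp⟩
      revert h'
      clear h
      revert u
      decide +kernel
  ρ_s := by decide +kernel
  ρ_cube := by decide +kernel
  ρ_z := by decide +kernel
  ρ_v := by decide +kernel
  ρ_d := by decide +kernel
  π_d := by decide +kernel
  π_dz := by decide +kernel
  π_s := by decide +kernel

end CfsgLib.TwoTimesSym.Six
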