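import Cfsg.Agent.Lib.Recognition.TwoTimesSym.Frame

/-!
# Conjugates of `t`: Burnside's lemma, elementary abelian subgroups of order 16, orbits
-/

set_option linter.unusedSectionVars false

namespace CfsgLib.TwoTimesSym

variable {G : Type*} [Group G] [Finite G]

/-- A conjugation-invariant set on which all stabilisers in `N` have the same order is
partitioned into orbits of equal length. -/
theorem orbit_card {N : Subgroup G} {Ω : Set G} (hinv : ∀ n ∈ N, ∀ x ∈ Ω, n * x * n⁻¹ ∈ Ω)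
    {c : ℕ} (hstab : ∀ x ∈ Ω, {n | n ∈ N ∧ n * x = x * n}.ncard = c) {x : G} (hx : x ∈ Ω) :
    ((fun n => n * x * n⁻¹) '' (N : Set G)).ncard * c = Nat.card N ∧
      ((fun n => n * x * n⁻¹) '' (N : Set G)).ncard ∣ Ω.ncard := by
  classical
  have : Fintype G := Fintype.ofFinite G
  let O : G → Finset G := fun y => (N : Set G).toFinset.image fun n => n * y * n⁻¹
  have hfib : ∀ y ∈ Ω, (O y).card * c = Nat.card N := by
    intro y hy
    have hN : Nat.card N = (N : Set G).toFinset.card := by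
      rw [← Set.ncard_eq_toFinset_card', ← Nat.card_coe_set_eq]; rfl
    rw [hN, Finset.card_eq_sum_card_image (fun n => n * y * n⁻¹) (N : Set G).toFinset,
      Finset.sum_const_nat fun z hz => ?_]
    obtain ⟨m, hm, rfl⟩ := Finset.mem_image.mp hz
    rw [Set.mem_toFinset] at hm
    rw [← hstab y hy, Set.ncard_eq_toFinset_card']
    refine Finset.card_bij' (fun n _ => m⁻¹ * n) (fun n _ => m * n) ?_ ?_ ?_ ?_
    · intro n hn
      simp only [Finset.mem_filter, Set.mem_toFinset] at hn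
      simp only [Set.mem_toFinset, Set.mem_ofPred_eq]
      refine ⟨N.mul_mem (N.inv_mem hm) hn.1, ?_⟩
      calc m⁻¹ * n * y = m⁻¹ * (n * y * n⁻¹) * n := by group
        _ = m⁻¹ * (m * y * m⁻¹) * n := by rw [hn.2]
        _ = y * (m⁻¹ * n) := by group
    · intro n hn
      simp only [Set.mem_toFinset, Set.mem_ofPred_eq] at hn
      simp only [Finset.mem_filter, Set.mem_toFinset]
      refine ⟨N.mul_mem hm hn.1, ?_⟩
      calc m * n * y * (m * n)⁻¹ = m * (n * y) * n⁻¹ * m⁻¹ := by group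
        _ = m * y * m⁻¹ := by rw [hn.2]; group
    · intro n _; group
    · intro n _; group
  have himg : ((fun n => n * x * n⁻¹) '' (N : Set G)).ncard = (O x).card := by
    rw [Set.ncard_eq_toFinset_card']; congr 1; ext; simp [O]
  refine ⟨by rw [himg]; exact hfib x hx, ?_⟩
  rw [himg, Set.ncard_eq_toFinset_card', Finset.card_eq_sum_card_image O Ω.toFinset]
  refine Finset.dvd_sum fun o ho => ?_
  obtain ⟨y, hy, rfl⟩ := Finset.mem_image.mp ho
  rw [Set.mem_toFinset] at hy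
  have hc : 0 < c := by
    rw [← hstab y hy]
    exact (Set.ncard_pos).mpr ⟨1, N.one_mem, by simp⟩
  have heq : (O x).card = (O y).card :=
    Nat.eq_of_mul_eq_mul_right hc ((hfib x hx).trans (hfib y hy).symm)
  have hself : ∀ w, w ∈ O w := fun w =>
    Finset.mem_image.mpr ⟨1, by simp, by group⟩
  have hsub : {w ∈ Ω.toFinset | O w = O y} = O y := by
    ext w
    simp only [Finset.mem_filter, Set.mem_toFinset]
    constructor
    · rintro ⟨-, hw⟩; rw [← hw]; exact hself w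
    · intro hw
      obtain ⟨m, hm, rfl⟩ := Finset.mem_image.mp hw
      rw [Set.mem_toFinset] at hm
      refine ⟨hinv m hm y hy, ?_⟩
      ext u
      simp only [O, Finset.mem_image, Set.mem_toFinset]
      constructor
      · rintro ⟨n, hn, rfl⟩; exact ⟨n * m, N.mul_mem hn hm, by group⟩
      · rintro ⟨n, hn, rfl⟩; exact ⟨n * m⁻¹, N.mul_mem hn (N.inv_mem hm), by group⟩
  rw [hsub, heq]

omit [Finite G] in
/-- An element conjugating a finite subgroup into itself normalises it. -/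
theorem conj_mem_iff {H : Subgroup G} [Finite H] {g : G} (h : ∀ y ∈ H, g * y * g⁻¹ ∈ H) (y : G) :
    y ∈ H ↔ g * y * g⁻¹ ∈ H := by
  refine ⟨h y, fun hy => ?_⟩
  let f : H → H := fun u => ⟨g * u.1 * g⁻¹, h u u.2⟩
  have hf : Function.Injective f := fun a b hab =>
    Subtype.ext ((MulAut.conj g).injective (congrArg Subtype.val hab))
  obtain ⟨u, hu⟩ := Finite.injective_iff_surjective.mp hf ⟨_, hy⟩
  have : u.1 = y := (MulAut.conj g).injective (congrArg Subtype.val hu)
  exact this ▸ u.2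

omit [Finite G] in
lemma CentNorm.transport {t : G} {A : Set G} (h : CentNorm t A) {g x : G} (hg : g * t * g⁻¹ = x) :
    (∀ y, y * x = x * y → (∀ a, g⁻¹ * a * g ∈ A → y * a = a * y) → g⁻¹ * y * g ∈ A) ∧
      {y | y * x = x * y ∧ ∀ a, g⁻¹ * a * g ∈ A ↔ g⁻¹ * (y * a * y⁻¹) * g ∈ A}.ncard = 96 := by
  subst hg
  constructor
  · intro y hy hya
    refine h.cent _ ?_ fun a ha => ?_
    · calc g⁻¹ * y * g * t = g⁻¹ * (y * (g * t * g⁻¹)) * g := by group
        _ = g⁻¹ * (g * t * g⁻¹ * y) * g := by rw [hy]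
        _ = t * (g⁻¹ * y * g) := by group
    · have h1 := hya (g * a * g⁻¹) (by simpa [mul_assoc] using ha)
      calc g⁻¹ * y * g * a = g⁻¹ * (y * (g * a * g⁻¹)) * g := by group
        _ = g⁻¹ * (g * a * g⁻¹ * y) * g := by rw [h1]
        _ = a * (g⁻¹ * y * g) := by group
  · refine Eq.trans ?_ ((Set.ncard_image_of_injective _ (MulAut.conj g).injective).trans h.card_norm)
    congr 1
    ext y
    simp only [Set.mem_image, Set.mem_ofPred_eq, MulAut.conj_apply]
    constructor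
    · rintro ⟨hy, hyA⟩
      refine ⟨g⁻¹ * y * g, ⟨?_, fun a => ?_⟩, by group⟩
      · calc g⁻¹ * y * g * t = g⁻¹ * (y * (g * t * g⁻¹)) * g := by group
          _ = g⁻¹ * (g * t * g⁻¹ * y) * g := by rw [hy]
          _ = t * (g⁻¹ * y * g) := by group
      · have h2 := hyA (g * a * g⁻¹)
        have e1 : g⁻¹ * (g * a * g⁻¹) * g = a := by group
        have e2 : g⁻¹ * (y * (g * a * g⁻¹) * y⁻¹) * g = g⁻¹ * y * g * a * (g⁻¹ * y * g)⁻¹ := by
          group
        rwa [e1, e2] at h2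
    · rintro ⟨u, ⟨hu, huA⟩, rfl⟩
      refine ⟨?_, fun a => ?_⟩
      · calc g * u * g⁻¹ * (g * t * g⁻¹) = g * (u * t) * g⁻¹ := by group
          _ = g * t * g⁻¹ * (g * u * g⁻¹) := by rw [hu]; group
      · rw [huA]
        exact Iff.of_eq (by congr 1; group)


namespace Base

variable {t : G} {E : Subgroup G} {s d v : G} (B : Base t E s d v)

include B

lemma mem_centralizer_iff {x : G} :
    x ∈ Subgroup.centralizer ({t} : Set G) ↔ x * t = t * x :=
  Subgroup.mem_centralizer_singleton_iff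

lemma T_le : B.T ≤ Subgroup.centralizer ({t} : Set G) := by
  intro x hx
  obtain ⟨w, rfl⟩ := B.mem_T.mp hx
  exact Subgroup.mem_centralizer_singleton_iff.mpr (B.commute_ev w).symm.eq

lemma card_T : Nat.card B.T = 32 := by
  have : (B.T : Set G) = Set.range (ev t s d v) := by ext; exact B.mem_T
  rw [← SetLike.coe_sort_coe, Nat.card_coe_set_eq, this, Set.ncard_range_of_injective
    (fun _ _ => B.ev_inj)]
  simp [Nat.card_eq_fintype_card]

/-- A `2`-subgroup of `C(t)` is conjugate in `C(t)` into `T`. -/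
theorem exists_conj_le_T {P : Subgroup G} (hP : IsPGroup 2 P)
    (hle : P ≤ Subgroup.centralizer ({t} : Set G)) :
    ∃ c, c * t = t * c ∧ ∀ p ∈ P, c * p * c⁻¹ ∈ B.T := by
  set C := Subgroup.centralizer ({t} : Set G) with hC
  have : Fact (Nat.Prime 2) := ⟨Nat.prime_two⟩
  obtain ⟨m, hm, hcard⟩ := B.card_C
  have hTcard : Nat.card (B.T.subgroupOf C) = 2 ^ (Nat.card C).factorization 2 := by
    rw [Nat.card_congr (Subgroup.subgroupOfEquivOfLe B.T_le).toEquiv, B.card_T, hC, hcard,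
      Nat.factorization_mul (by norm_num) (Nat.pos_iff_ne_zero.mp hm.pos)]
    rw [show (32 : ℕ) = 2 ^ 5 by norm_num, Nat.Prime.factorization_pow Nat.prime_two]
    simp [Nat.factorization_eq_zero_of_not_dvd (show ¬ 2 ∣ m by
      rw [← even_iff_two_dvd]; exact Nat.not_even_iff_odd.mpr hm)]
  let S : Sylow 2 C := Sylow.ofCard (B.T.subgroupOf C) hTcard
  obtain ⟨Q, hQ⟩ := IsPGroup.exists_le_sylow (hP.comap_subtype (H := P) (K := C))
  obtain ⟨g, hg⟩ := MulAction.exists_smul_eq C Q S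
  refine ⟨g.1, Subgroup.mem_centralizer_singleton_iff.mp g.2, fun p hp => ?_⟩
  have h1 : (⟨p, hle hp⟩ : C) ∈ (Q : Subgroup C) := hQ hp
  have h2 : g * ⟨p, hle hp⟩ * g⁻¹ ∈ (S : Subgroup C) := by
    rw [← hg, Sylow.coe_subgroup_smul]
    exact ⟨⟨p, hle hp⟩, h1, rfl⟩
  exact h2

lemma t_mem_T : t ∈ B.T := B.mem_T.mpr ⟨(true, false, false, false, false), by simp [ev]⟩

lemma s_mem_T : s ∈ B.T := B.mem_T.mpr ⟨(false, true, false, false, false), by simp [ev]⟩

lemma d_mem_T : d ∈ B.T := B.mem_T.mpr ⟨(false, false, false, true, false), by simp [ev]⟩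

lemma v_mem_T : v ∈ B.T := B.mem_T.mpr ⟨(false, false, false, false, true), by simp [ev]⟩

lemma normalizer_T {x : G} (hx : x * t = t * x) (hT : ∀ y ∈ B.T, x * y * x⁻¹ ∈ B.T) :
    x ∈ B.T := by
  exact B.mem_T.mpr (B.normT x hx (B.mem_T.mp (hT s B.s_mem_T))
    (B.mem_T.mp (hT d B.d_mem_T)) (B.mem_T.mp (hT v B.v_mem_T)))

/-- Burnside: a conjugate of `t` centralising `T` is conjugate to `t` in `N(T)`. -/
theorem exists_normalizer_conj {x : G} (hx : IsConj t x) (hT : ∀ y ∈ B.T, x * y = y * x) :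
    ∃ g, (∀ y, y ∈ B.T ↔ g * y * g⁻¹ ∈ B.T) ∧ g * t * g⁻¹ = x := by
  obtain ⟨g, hg⟩ := isConj_iff.mp hx
  have : Fact (Nat.Prime 2) := ⟨Nat.prime_two⟩
  set P : Subgroup G := B.T.map (MulAut.conj g⁻¹).toMonoidHom with hP
  have hPc : Nat.card P = 2 ^ 5 := by
    rw [hP, Nat.card_congr (Subgroup.equivMapOfInjective _ _
      (MulAut.conj g⁻¹).injective).symm.toEquiv, B.card_T]
    norm_num
  have hPle : P ≤ Subgroup.centralizer ({t} : Set G) := by
    rintro _ ⟨y, hy, rfl⟩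
    rw [Subgroup.mem_centralizer_singleton_iff]
    have h := hT y hy
    rw [← hg] at h
    simp only [MulEquiv.coe_toMonoidHom, MulAut.conj_apply, inv_inv]
    calc g⁻¹ * y * g * t = g⁻¹ * (y * (g * t * g⁻¹)) * g := by group
      _ = g⁻¹ * (g * t * g⁻¹ * y) * g := by rw [h]
      _ = t * (g⁻¹ * y * g) := by group
  obtain ⟨c, hct, hc⟩ := B.exists_conj_le_T (IsPGroup.of_card hPc) hPle
  have hmem : ∀ y ∈ B.T, (c * g⁻¹) * y * (c * g⁻¹)⁻¹ ∈ B.T := by
    intro y hy
    have := hc _ (Subgroup.mem_map_of_mem (MulAut.conj g⁻¹).toMonoidHom hy)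
    simpa [mul_assoc] using this
  have hiff := fun y => conj_mem_iff (H := B.T) hmem y
  refine ⟨(c * g⁻¹)⁻¹, fun y => ?_, ?_⟩
  · rw [hiff ((c * g⁻¹)⁻¹ * y * (c * g⁻¹)⁻¹⁻¹)]
    exact Iff.of_eq (by congr 1; group)
  · rw [← hg]
    calc (c * g⁻¹)⁻¹ * t * (c * g⁻¹)⁻¹⁻¹ = g * (c⁻¹ * (t * c)) * g⁻¹ := by group
      _ = g * t * g⁻¹ := by rw [← hct]; group

/-- Involutions of `T` lie in `A₁` or in `A₂`. -/
lemma inv_mem_A1_or_A2 {x : G} (hx : x ∈ B.T) (h2 : x * x = 1) : x ∈ B.A1 ∨ x ∈ B.A2 := by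
  obtain ⟨w, rfl⟩ := B.mem_T.mp hx
  rw [B.ev_mul, ← B.ev_one] at h2
  have := B.ev_inj h2
  rw [B.ev_mem_A1, B.ev_mem_A2]
  revert this
  clear hx h2
  revert w
  decide

lemma card_A1 : Nat.card B.A1 = 16 := by
  have : (B.A1 : Set G) = ev t s d v '' {w | w.2.2.2.2 = false} := Set.ext fun _ => B.mem_A1
  rw [← SetLike.coe_sort_coe, Nat.card_coe_set_eq, this,
    Set.ncard_image_of_injective _ (fun _ _ => B.ev_inj), Set.ncard_eq_toFinset_card']
  decide

lemma card_A2 : Nat.card B.A2 = 16 := by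
  have : (B.A2 : Set G) = ev t s d v '' {w | w.2.2.2.1 = false} := Set.ext fun _ => B.mem_A2
  rw [← SetLike.coe_sort_coe, Nat.card_coe_set_eq, this,
    Set.ncard_image_of_injective _ (fun _ _ => B.ev_inj), Set.ncard_eq_toFinset_card']
  decide

lemma A1_mul_comm {x y : G} (hx : x ∈ B.A1) (hy : y ∈ B.A1) : x * y = y * x := by
  obtain ⟨a, ha, rfl⟩ := B.mem_A1.mp hx
  obtain ⟨b, hb, rfl⟩ := B.mem_A1.mp hy
  rw [B.ev_mul, B.ev_mul]
  congr 1
  revert ha hb
  simp only [Set.mem_ofPred_eq]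
  clear hx hy
  revert a b
  decide

lemma A1_sq {x : G} (hx : x ∈ B.A1) : x * x = 1 := by
  obtain ⟨a, ha, rfl⟩ := B.mem_A1.mp hx
  rw [B.ev_mul, ← B.ev_one]
  congr 1
  revert ha
  simp only [Set.mem_ofPred_eq]
  clear hx
  revert a
  decide

lemma A2_mul_comm {x y : G} (hx : x ∈ B.A2) (hy : y ∈ B.A2) : x * y = y * x := by
  obtain ⟨a, ha, rfl⟩ := B.mem_A2.mp hx
  obtain ⟨b, hb, rfl⟩ := B.mem_A2.mp hy
  rw [B.ev_mul, B.ev_mul]
  congr 1
  revert ha hb
  simp only [Set.mem_ofPred_eq]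
  clear hx hy
  revert a b
  decide

lemma A2_sq {x : G} (hx : x ∈ B.A2) : x * x = 1 := by
  obtain ⟨a, ha, rfl⟩ := B.mem_A2.mp hx
  rw [B.ev_mul, ← B.ev_one]
  congr 1
  revert ha
  simp only [Set.mem_ofPred_eq]
  clear hx
  revert a
  decide

/-- An elementary abelian subgroup of order 16 of `T` is `A₁` or `A₂`. -/
lemma eq_A1_or_A2 {A : Subgroup G} (hle : A ≤ B.T) (hcard : Nat.card A = 16)
    (hA : ∀ a ∈ A, a * a = 1) : A = B.A1 ∨ A = B.A2 := by
  have hsub : ∀ a ∈ A, a ∈ B.A1 ∨ a ∈ B.A2 := fun a ha => B.inv_mem_A1_or_A2 (hle ha) (hA a ha)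
  have hor : A ≤ B.A1 ∨ A ≤ B.A2 := by
    by_contra hcon
    simp only [not_or, SetLike.not_le_iff_exists] at hcon
    obtain ⟨⟨a, ha, ha1⟩, b, hb, hb2⟩ := hcon
    have ha2 := (hsub a ha).resolve_left ha1
    have hb1 := (hsub b hb).resolve_right hb2
    rcases hsub _ (A.mul_mem ha hb) with h | h
    · exact ha1 ((B.A1.mul_mem_cancel_right hb1).mp h)
    · exact hb2 ((B.A2.mul_mem_cancel_left ha2).mp h)
  rcases hor with h | h
  · exact Or.inl (Subgroup.eq_of_le_of_card_ge h (by rw [hcard, B.card_A1]))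
  · exact Or.inr (Subgroup.eq_of_le_of_card_ge h (by rw [hcard, B.card_A2]))

/-- An elementary abelian subgroup of order 16 in the centraliser of a conjugate `x` of `t` is
the image of `A₁` or `A₂` under an element conjugating `t` to `x`. -/
theorem exists_conj_elem16 {x : G} (hx : IsConj t x) {A : Subgroup G}
    (hle : ∀ a ∈ A, a * x = x * a) (hcard : Nat.card A = 16) (hA : ∀ a ∈ A, a * a = 1) :
    ∃ g, g * t * g⁻¹ = x ∧ ((∀ a, a ∈ A ↔ g⁻¹ * a * g ∈ B.A1) ∨
      (∀ a, a ∈ A ↔ g⁻¹ * a * g ∈ B.A2)) := by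
  obtain ⟨g, hg⟩ := isConj_iff.mp hx
  have : Fact (Nat.Prime 2) := ⟨Nat.prime_two⟩
  set P : Subgroup G := A.map (MulAut.conj g⁻¹).toMonoidHom with hP
  have hPcard : Nat.card P = 16 := by
    rw [hP, Nat.card_congr (Subgroup.equivMapOfInjective _ _
      (MulAut.conj g⁻¹).injective).symm.toEquiv, hcard]
  have hPle : P ≤ Subgroup.centralizer ({t} : Set G) := by
    rintro _ ⟨y, hy, rfl⟩
    rw [Subgroup.mem_centralizer_singleton_iff]
    have h := hle y hy
    rw [← hg] at h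
    simp only [MulEquiv.coe_toMonoidHom, MulAut.conj_apply, inv_inv]
    calc g⁻¹ * y * g * t = g⁻¹ * (y * (g * t * g⁻¹)) * g := by group
      _ = g⁻¹ * (g * t * g⁻¹ * y) * g := by rw [h]
      _ = t * (g⁻¹ * y * g) := by group
  obtain ⟨c, hct, hc⟩ :=
    B.exists_conj_le_T (IsPGroup.of_card (n := 4) (by rw [hPcard]; norm_num)) hPle
  set Q : Subgroup G := P.map (MulAut.conj c).toMonoidHom with hQ
  have hQcard : Nat.card Q = 16 := by
    rw [hQ, Nat.card_congr (Subgroup.equivMapOfInjective _ _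
      (MulAut.conj c).injective).symm.toEquiv, hPcard]
  have hQle : Q ≤ B.T := by
    rintro _ ⟨p, hp, rfl⟩
    exact hc p hp
  have hQinv : ∀ q ∈ Q, q * q = 1 := by
    rintro _ ⟨p, ⟨a, ha, rfl⟩, rfl⟩
    rw [← map_mul, ← map_mul, hA a ha, map_one, map_one]
  have hQmem : ∀ a, (c * g⁻¹) * a * (c * g⁻¹)⁻¹ ∈ Q ↔ a ∈ A := by
    intro a
    have h0 : (c * g⁻¹) * a * (c * g⁻¹)⁻¹ = MulAut.conj c (MulAut.conj g⁻¹ a) := by
      simp [mul_assoc]
    rw [h0, hQ, hP]
    simp only [Subgroup.mem_map_equiv, MulEquiv.symm_apply_apply]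
  refine ⟨g * c⁻¹, ?_, ?_⟩
  · rw [← hg]
    calc g * c⁻¹ * t * (g * c⁻¹)⁻¹ = g * (c⁻¹ * (t * c)) * g⁻¹ := by group
      _ = g * t * g⁻¹ := by rw [← hct]; group
  · rcases B.eq_A1_or_A2 hQle hQcard hQinv with h | h
    · left; intro a
      rw [← h, ← hQmem a]
      exact Iff.of_eq (by congr 1; group)
    · right; intro a
      rw [← h, ← hQmem a]
      exact Iff.of_eq (by congr 1; group)

/-- Elementary abelian subgroups of order 16 containing a conjugate of `t` are self-centralising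
in its centraliser, and their normalisers there have order 96. -/
theorem elem16 (cn1 : CentNorm t (A1set t s d v)) (cn2 : CentNorm t (A2set t s d v))
    {x : G} (hx : IsConj t x) {A : Subgroup G}
    (hle : ∀ a ∈ A, a * x = x * a) (hcard : Nat.card A = 16) (hA : ∀ a ∈ A, a * a = 1) :
    (∀ y, y * x = x * y → (∀ a ∈ A, y * a = a * y) → y ∈ A) ∧
      {y | y * x = x * y ∧ ∀ a, a ∈ A ↔ y * a * y⁻¹ ∈ A}.ncard = 96 := by
  obtain ⟨g, hg, h | h⟩ := B.exists_conj_elem16 hx hle hcard hA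
  · simp only [B.mem_A1] at h
    obtain ⟨h1, h2⟩ := cn1.transport hg
    simp only [← h] at h1 h2
    exact ⟨h1, h2⟩
  · simp only [B.mem_A2] at h
    obtain ⟨h1, h2⟩ := cn2.transport hg
    simp only [← h] at h1 h2
    exact ⟨h1, h2⟩

lemma commutator_T {x y : G} (hx : x ∈ B.T) (hy : y ∈ B.T) :
    x * y * x⁻¹ * y⁻¹ = 1 ∨ x * y * x⁻¹ * y⁻¹ = d * v * (d * v) := by
  obtain ⟨a, rfl⟩ := B.mem_T.mp hx
  obtain ⟨b, rfl⟩ := B.mem_T.mp hy
  rw [B.ev_inv, B.ev_inv, B.ev_mul, B.ev_mul, B.ev_mul]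
  have hz : d * v * (d * v) = ev t s d v (false, false, true, false, false) := by simp [ev]
  rw [hz, ← B.ev_one]
  have : ∀ a b : W5, ((a.mul b).mul a.inv).mul b.inv = W5.one ∨
      ((a.mul b).mul a.inv).mul b.inv = (false, false, true, false, false) := by decide
  exact (this a b).imp (congrArg _) (congrArg _)

lemma z_ne_one : d * v * (d * v) ≠ 1 := fun h => by
  have := B.faithful (false, false, true, false, false) (by simp [ev, h])
  simp [W5.one] at this

/-- `N(T)` fixes `z`. -/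
lemma normalizer_fix_z {g : G} (hg : ∀ y ∈ B.T, g * y * g⁻¹ ∈ B.T) :
    g * (d * v * (d * v)) * g⁻¹ = d * v * (d * v) := by
  have hz : d * v * (d * v) = d * v * d⁻¹ * v⁻¹ := by
    rw [inv_eq_of_mul_eq_one_right B.d_sq, inv_eq_of_mul_eq_one_right B.v_sq]; group
  have h : g * (d * v * (d * v)) * g⁻¹ =
      (g * d * g⁻¹) * (g * v * g⁻¹) * (g * d * g⁻¹)⁻¹ * (g * v * g⁻¹)⁻¹ := by
    rw [hz]; group
  rcases B.commutator_T (hg d B.d_mem_T) (hg v B.v_mem_T) with hc | hc
  · exfalso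
    have h1 : MulAut.conj g (d * v * (d * v)) = MulAut.conj g 1 := by
      rw [MulAut.conj_apply, h, hc, map_one]
    exact B.z_ne_one ((MulAut.conj g).injective h1)
  · rw [h, hc]

lemma z_not_conj : ¬ IsConj t (d * v * (d * v)) := by
  intro hz
  have hzc : ∀ y ∈ B.T, d * v * (d * v) * y = y * (d * v * (d * v)) := by
    intro y hy
    obtain ⟨w, rfl⟩ := B.mem_T.mp hy
    have h : d * v * (d * v) = ev t s d v (false, false, true, false, false) := by simp [ev]
    rw [h, B.ev_mul, B.ev_mul]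
    congr 1
    clear hy
    revert w; decide
  obtain ⟨g, hgT, hg⟩ := B.exists_normalizer_conj hz hzc
  have h := B.normalizer_fix_z fun y hy => (hgT y).mp hy
  have : t = d * v * (d * v) := (MulAut.conj g).injective (by simpa [hg] using h.symm)
  exact B.t_notMem (this ▸ B.z_mem)

end Base

end CfsgLib.TwoTimesSym
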