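import Cfsg.Agent.Lib.Recognition.TwoTimesSym.Types

/-!
# The conjugates of `t` in `C(t)`: reduction to the case of the involutions outside `E`
-/

set_option linter.unusedSectionVars false

namespace CfsgLib.TwoTimesSym

variable {G : Type*} [Group G] [Finite G] {t : G} {E : Subgroup G} {s d v : G}

omit [Finite G] in
/-- Conjugation transports the derived subgroup of the centraliser of a pair. -/
lemma conj_mem_comm_pair {g x y u : G}
    (hu : u ∈ ⁅Subgroup.centralizer ({x, y} : Set G), Subgroup.centralizer ({x, y} : Set G)⁆) :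
    g * u * g⁻¹ ∈ ⁅Subgroup.centralizer ({g * x * g⁻¹, g * y * g⁻¹} : Set G),
      Subgroup.centralizer ({g * x * g⁻¹, g * y * g⁻¹} : Set G)⁆ := by
  have h : (Subgroup.centralizer ({x, y} : Set G)).map (MulAut.conj g).toMonoidHom ≤
      Subgroup.centralizer ({g * x * g⁻¹, g * y * g⁻¹} : Set G) := by
    rintro _ ⟨a, ha, rfl⟩
    rw [Subgroup.mem_centralizer_iff]
    have ha' := Subgroup.mem_centralizer_iff.mp ha
    intro b hb
    simp only [MulEquiv.coe_toMonoidHom, MulAut.conj_apply]
    rcases hb with rfl | rfl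
    · calc g * x * g⁻¹ * (g * a * g⁻¹) = g * (x * a) * g⁻¹ := by group
        _ = g * a * g⁻¹ * (g * x * g⁻¹) := by rw [ha' x (Set.mem_insert _ _)]; group
    · calc g * y * g⁻¹ * (g * a * g⁻¹) = g * (y * a) * g⁻¹ := by group
        _ = g * a * g⁻¹ * (g * y * g⁻¹) := by
            rw [ha' y (Set.mem_insert_of_mem _ rfl)]; group
  have h' := Subgroup.mem_map_of_mem (MulAut.conj g).toMonoidHom hu
  rw [Subgroup.map_commutator] at h'
  exact Subgroup.commutator_mono h h (by simpa using h')

omit [Finite G] in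
lemma centralizer_pair_comm (x y : G) :
    Subgroup.centralizer ({x, y} : Set G) = Subgroup.centralizer ({y, x} : Set G) := by
  rw [Set.pair_comm]

omit [Finite G] in
lemma centralizer_pair_mul (x y : G) :
    Subgroup.centralizer ({x, x * y} : Set G) = Subgroup.centralizer ({x, y} : Set G) := by
  ext a
  simp only [Subgroup.mem_centralizer_iff, Set.mem_insert_iff, Set.mem_singleton_iff,
    forall_eq_or_imp, forall_eq]
  refine and_congr_right fun h => ⟨fun h' => ?_, fun h' => ?_⟩
  · calc y * a = x⁻¹ * (x * y * a) := by group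
      _ = x⁻¹ * (a * x * y) := by rw [h']; group
      _ = a * y := by rw [← h]; group
  · calc x * y * a = x * (y * a) := by group
      _ = x * a * y := by rw [h']; group
      _ = a * (x * y) := by rw [h]; group

namespace Base

variable (B : Base t E s d v)

include B

lemma mem_normalizer {g : G} :
    g ∈ Subgroup.normalizer (B.T : Set G) ↔ ∀ y ∈ B.T, g * y * g⁻¹ ∈ B.T := by
  rw [Subgroup.mem_normalizer_iff]
  exact ⟨fun h y hy => (h y).mp hy, fun h y => conj_mem_iff h y⟩

lemma stab_normalizer : {n | n ∈ Subgroup.normalizer (B.T : Set G) ∧ n * t = t * n}.ncard = 32 := by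
  have : {n | n ∈ Subgroup.normalizer (B.T : Set G) ∧ n * t = t * n} = (B.T : Set G) := by
    ext n
    refine ⟨fun h => B.normalizer_T h.2 (B.mem_normalizer.mp h.1), fun h => ⟨?_, ?_⟩⟩
    · exact B.mem_normalizer.mpr fun y hy => B.T.mul_mem (B.T.mul_mem h hy) (B.T.inv_mem h)
    · exact Subgroup.mem_centralizer_singleton_iff.mp (B.T_le h)
  rw [this, ← Nat.card_coe_set_eq]
  exact B.card_T

/-- `|N(T)| = 32 |t^G ∩ Z(T)|`. -/
lemma card_normalizer {p0 ps pc pts ptc : Bool} (hb : Bits t s d v p0 ps pc pts ptc) :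
    Nat.card (Subgroup.normalizer (B.T : Set G)) = (Finset.univ.filter fun w : W5 =>
      (W5.stat p0 ps pc pts ptc w && !w.2.2.2.1 && !w.2.2.2.2) = true).card * 32 := by
  set N := Subgroup.normalizer (B.T : Set G) with hN
  set Ω : Set G := {x | IsConj t x ∧ x ∈ B.T ∧ ∀ y ∈ B.T, x * y = y * x} with hΩ
  have hΩeq : Ω = ev t s d v '' {w | (W5.stat p0 ps pc pts ptc w && !w.2.2.2.1 && !w.2.2.2.2)
      = true} := by
    ext x
    constructor
    · rintro ⟨hc, hT, hcent⟩
      obtain ⟨w, rfl⟩ := B.mem_T.mp hT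
      refine ⟨w, ?_, rfl⟩
      have h1 := hcent _ (B.ev_mem_T (false, false, false, true, false))
      have h2 := hcent _ (B.ev_mem_T (false, false, false, false, true))
      rw [B.ev_mul, B.ev_mul] at h1 h2
      have h1' := B.ev_inj h1
      have h2' := B.ev_inj h2
      have hs := (B.isConj_ev hb w).mp hc
      have : ∀ w : W5, W5.mul w (false, false, false, true, false) =
          W5.mul (false, false, false, true, false) w →
          W5.mul w (false, false, false, false, true) =
          W5.mul (false, false, false, false, true) w →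
          w.2.2.2.1 = false ∧ w.2.2.2.2 = false := by decide
      obtain ⟨he, hg⟩ := this w h1' h2'
      simp [hs, he, hg]
    · rintro ⟨w, hw, rfl⟩
      simp only [Set.mem_ofPred_eq, Bool.and_eq_true, Bool.not_eq_true'] at hw
      refine ⟨(B.isConj_ev hb w).mpr hw.1.1, B.ev_mem_T w, ?_⟩
      intro y hy
      obtain ⟨u, rfl⟩ := B.mem_T.mp hy
      rw [B.ev_mul, B.ev_mul]
      congr 1
      have : ∀ w u : W5, w.2.2.2.1 = false → w.2.2.2.2 = false →
          W5.mul w u = W5.mul u w := by decide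
      exact this w u hw.1.2 hw.2
  have hinv : ∀ n ∈ N, ∀ x ∈ Ω, n * x * n⁻¹ ∈ Ω := by
    rintro n hn x ⟨hc, hT, hcent⟩
    refine ⟨(isConj_conj t x n).mpr hc, B.mem_normalizer.mp hn x hT, fun y hy => ?_⟩
    have h := hcent _ (B.mem_normalizer.mp (N.inv_mem hn) y hy)
    rw [inv_inv] at h
    calc n * x * n⁻¹ * y = n * (x * (n⁻¹ * y * n)) * n⁻¹ := by group
      _ = n * (n⁻¹ * y * n * x) * n⁻¹ := by rw [h]
      _ = y * (n * x * n⁻¹) := by group
  have htΩ : t ∈ Ω := ⟨IsConj.refl t, B.t_mem_T, fun y hy =>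
    (Subgroup.mem_centralizer_singleton_iff.mp (B.T_le hy)).symm⟩
  have horb : (fun n => n * t * n⁻¹) '' (N : Set G) = Ω := by
    ext x
    constructor
    · rintro ⟨n, hn, rfl⟩; exact hinv n hn t htΩ
    · rintro ⟨hc, hT, hcent⟩
      obtain ⟨g, hg, hgt⟩ := B.exists_normalizer_conj hc hcent
      exact ⟨g, B.mem_normalizer.mpr fun y hy => (hg y).mp hy, hgt⟩
  have hstab : ∀ x ∈ Ω, {n | n ∈ N ∧ n * x = x * n}.ncard = 32 := by
    intro x hx
    obtain ⟨g, hg, rfl⟩ : x ∈ (fun n => n * t * n⁻¹) '' (N : Set G) := horb ▸ hx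
    rw [← B.stab_normalizer, ← Set.ncard_image_of_injective
      {n | n ∈ Subgroup.normalizer (B.T : Set G) ∧ n * t = t * n} (MulAut.conj g).injective]
    congr 1
    ext n
    simp only [Set.mem_image, Set.mem_ofPred_eq, MulAut.conj_apply]
    constructor
    · rintro ⟨hn, hnx⟩
      refine ⟨g⁻¹ * n * g, ⟨N.mul_mem (N.mul_mem (N.inv_mem hg) hn) hg, ?_⟩, by group⟩
      calc g⁻¹ * n * g * t = g⁻¹ * (n * (g * t * g⁻¹)) * g := by group
        _ = g⁻¹ * (g * t * g⁻¹ * n) * g := by rw [hnx]
        _ = t * (g⁻¹ * n * g) := by group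
    · rintro ⟨u, ⟨hu, hut⟩, rfl⟩
      refine ⟨N.mul_mem (N.mul_mem hg hu) (N.inv_mem hg), ?_⟩
      calc g * u * g⁻¹ * (g * t * g⁻¹) = g * (u * t) * g⁻¹ := by group
        _ = g * t * g⁻¹ * (g * u * g⁻¹) := by rw [hut]; group
  have h := (orbit_card hinv hstab htΩ).1
  rw [horb, hΩeq, Set.ncard_image_of_injective _ (fun _ _ => B.ev_inj),
    Set.ncard_eq_toFinset_card'] at h
  rw [← h]
  congr 2
  ext; simp

/-- An element of odd order normalising `T` fixes `A₁` and `A₂`. -/
lemma conj_A1_of_cube {g : G} (hg : ∀ y ∈ B.T, g * y * g⁻¹ ∈ B.T) (h3 : g * g * g = 1) :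
    (∀ y ∈ B.A1, g * y * g⁻¹ ∈ B.A1) ∧ (∀ y ∈ B.A2, g * y * g⁻¹ ∈ B.A2) := by
  set f := (MulAut.conj g).toMonoidHom with hf
  have hcase : ∀ A : Subgroup G, A ≤ B.T → Nat.card A = 16 → (∀ a ∈ A, a * a = 1) →
      A.map f = B.A1 ∨ A.map f = B.A2 := by
    intro A hle hc hsq
    refine B.eq_A1_or_A2 ?_ ?_ ?_
    · rintro _ ⟨a, ha, rfl⟩; exact hg a (hle ha)
    · rw [Nat.card_congr (Subgroup.equivMapOfInjective _ _
        (MulAut.conj g).injective).symm.toEquiv, hc]
    · rintro _ ⟨a, ha, rfl⟩; rw [← map_mul, hsq a ha, map_one]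
  have h1 := hcase _ B.A1_le_T B.card_A1 fun a ha => B.A1_sq ha
  have h2 := hcase _ B.A2_le_T B.card_A2 fun a ha => B.A2_sq ha
  have hne : B.A1 ≠ B.A2 := fun h => by
    have hd : ev t s d v (false, false, false, true, false) ∈ B.A2 :=
      h ▸ B.ev_mem_A1.mpr rfl
    exact Bool.noConfusion (B.ev_mem_A2.mp hd)
  have hinj : Function.Injective (Subgroup.map f) :=
    Subgroup.map_injective (MulAut.conj g).injective
  have hid : ∀ A : Subgroup G, ((A.map f).map f).map f = A := by
    intro A
    rw [Subgroup.map_map, Subgroup.map_map]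
    convert Subgroup.map_id A using 2
    ext x
    simp only [hf, MonoidHom.comp_apply, MulEquiv.coe_toMonoidHom, MulAut.conj_apply,
      MonoidHom.id_apply]
    calc g * (g * (g * x * g⁻¹) * g⁻¹) * g⁻¹ = g * g * g * x * (g * g * g)⁻¹ := by group
      _ = x := by rw [h3]; group
  have key : B.A1.map f = B.A1 ∧ B.A2.map f = B.A2 := by
    rcases h1 with h1 | h1 <;> rcases h2 with h2 | h2
    · exact absurd (hinj (h1.trans h2.symm)) hne
    · exact ⟨h1, h2⟩
    · have := hid B.A1
      rw [h1, h2, h1] at this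
      exact absurd this.symm hne
    · exact absurd (hinj (h1.trans h2.symm)) hne
  constructor
  · intro y hy; rw [← key.1]; exact Subgroup.mem_map_of_mem f hy
  · intro y hy; rw [← key.2]; exact Subgroup.mem_map_of_mem f hy

/-- Orbits of `N(A₁)` on the conjugates of `t` in `A₁`. -/
theorem orbit_A1 (cn1 : CentNorm t (A1set t s d v)) (cn2 : CentNorm t (A2set t s d v))
    {x : G} (hx : x ∈ B.A1) (hxt : IsConj t x) :
    ((fun n => n * x * n⁻¹) '' (Subgroup.normalizer (B.A1 : Set G) : Set G)).ncard * 96 =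
        Nat.card (Subgroup.normalizer (B.A1 : Set G)) ∧
      ((fun n => n * x * n⁻¹) '' (Subgroup.normalizer (B.A1 : Set G) : Set G)).ncard ∣
        (conjIn t B.A1).ncard := by
  refine orbit_card (Ω := conjIn t B.A1) ?_ ?_ ⟨hx, hxt⟩
  · rintro n hn y ⟨hy, hc⟩
    exact ⟨(Subgroup.mem_normalizer_iff.mp hn y).mp hy, (isConj_conj t y n).mpr hc⟩
  · rintro y ⟨hy, hc⟩
    rw [← (B.elem16 cn1 cn2 hc (fun a ha => B.A1_mul_comm ha hy) B.card_A1
      (fun a ha => B.A1_sq ha)).2]
    congr 1
    ext n
    simp only [Set.mem_ofPred_eq, Subgroup.mem_normalizer_iff]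
    exact and_comm

lemma ncard_conjIn_A1 {p0 ps pc pts ptc : Bool} (hb : Bits t s d v p0 ps pc pts ptc) :
    (conjIn t B.A1).ncard = (Finset.univ.filter fun w : W5 =>
      (W5.stat p0 ps pc pts ptc w && !w.2.2.2.2) = true).card := by
  have : conjIn t B.A1 =
      ev t s d v '' {w | (W5.stat p0 ps pc pts ptc w && !w.2.2.2.2) = true} := by
    ext x
    constructor
    · rintro ⟨hx, hc⟩
      obtain ⟨w, hw, rfl⟩ := B.mem_A1.mp hx
      exact ⟨w, by simp [(B.isConj_ev hb w).mp hc, show w.2.2.2.2 = false from hw], rfl⟩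
    · rintro ⟨w, hw, rfl⟩
      simp only [Set.mem_ofPred_eq, Bool.and_eq_true, Bool.not_eq_true'] at hw
      exact ⟨B.ev_mem_A1.mpr hw.2, (B.isConj_ev hb w).mpr hw.1⟩
  rw [this, Set.ncard_image_of_injective _ (fun _ _ => B.ev_inj), Set.ncard_eq_toFinset_card']
  congr 1
  ext; simp

lemma ev_z : d * v * (d * v) = ev t s d v (false, false, true, false, false) := by simp [ev]

/-- The words of `A₁` under conjugation by `π`. -/
lemma π_ev {ρ π : G} (H : Half t E s d v ρ π) :
    ∀ a m n e : Bool, π * ev t s d v (a, m, n, e, false) * π⁻¹ =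
      ev t s d v (a, n, xor n e, xor (xor m n) e, false) := by
  intro a m n e
  have hbp : ∀ (b : Bool) (x : G), π * bp b x * π⁻¹ = bp b (π * x * π⁻¹) := by
    intro b x; cases b <;> simp
  have ht : π * t * π⁻¹ = t := by
    rw [B.mem_C_of_mem H.π_mem, mul_assoc, mul_inv_cancel, mul_one]
  have hz : π * (d * v * (d * v)) * π⁻¹ = ev t s d v (false, true, true, true, false) := by
    calc π * (d * v * (d * v)) * π⁻¹ = π * ((d * d) * (d * v * (d * v))) * π⁻¹ := by
          rw [B.d_sq, one_mul]
      _ = π * d * π⁻¹ * (π * (d * (d * v * (d * v))) * π⁻¹) := by group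
      _ = ev t s d v (false, false, false, true, false) *
            ev t s d v (false, false, true, false, false) *
            ev t s d v (false, true, false, false, false) := by
          rw [H.π_d, H.π_dz]; simp [ev]
      _ = _ := by rw [B.ev_mul, B.ev_mul]; rfl
  calc π * ev t s d v (a, m, n, e, false) * π⁻¹
      = π * bp a t * π⁻¹ * (π * bp m s * π⁻¹) * (π * bp n (d * v * (d * v)) * π⁻¹) *
          (π * bp e d * π⁻¹) := by simp only [ev, bp_false, mul_one]; group
    _ = ev t s d v (a, false, false, false, false) * ev t s d v (false, false, false, m, false) *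
          ev t s d v (false, n, n, n, false) * ev t s d v (false, false, e, e, false) := by
        rw [hbp, hbp, hbp, hbp, ht, H.π_s, hz, H.π_d]
        have e1 : bp a t = ev t s d v (a, false, false, false, false) := by cases a <;> simp [ev]
        have e2 : bp m d = ev t s d v (false, false, false, m, false) := by cases m <;> simp [ev]
        have e3 : bp n (ev t s d v (false, true, true, true, false)) =
            ev t s d v (false, n, n, n, false) := by cases n <;> simp [ev]
        have e4 : bp e (d * (d * v * (d * v))) = ev t s d v (false, false, e, e, false) := by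
          cases e <;> simp [ev, B.dz.eq]
        rw [e1, e2, e3, e4]
    _ = _ := by
        rw [B.ev_mul, B.ev_mul, B.ev_mul]
        congr 1
        clear ht hz
        revert a m n e; decide

lemma π_mem_normalizer {ρ π : G} (H : Half t E s d v ρ π) :
    π ∈ Subgroup.normalizer (B.A1 : Set G) := by
  rw [Subgroup.mem_normalizer_iff]
  refine fun y => conj_mem_iff (fun x hx => ?_) y
  obtain ⟨⟨a, m, n, e, g⟩, hw, rfl⟩ := B.mem_A1.mp hx
  obtain rfl : g = false := hw
  rw [B.π_ev H]
  exact B.ev_mem_A1.mpr rfl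

/-- A lower bound for the length of an orbit of `N(A₁)`, hence for its order. -/
lemma orbit_ge (cn1 : CentNorm t (A1set t s d v)) (cn2 : CentNorm t (A2set t s d v))
    {p0 ps pc pts ptc : Bool} (hb : Bits t s d v p0 ps pc pts ptc) {x : W5}
    (hxA : x.2.2.2.2 = false) (hx : W5.stat p0 ps pc pts ptc x = true) (L : Finset W5)
    (hL : ∀ w ∈ L, ∃ n ∈ Subgroup.normalizer (B.A1 : Set G),
      n * ev t s d v x * n⁻¹ = ev t s d v w) :
    ∃ S, L.card ≤ S ∧ S ∣ (Finset.univ.filter fun w : W5 =>
      (W5.stat p0 ps pc pts ptc w && !w.2.2.2.2) = true).card ∧ S * 96 ∣ Nat.card G := by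
  obtain ⟨h1, h2⟩ := B.orbit_A1 cn1 cn2 (B.ev_mem_A1.mpr hxA) ((B.isConj_ev hb x).mpr hx)
  refine ⟨_, ?_, B.ncard_conjIn_A1 hb ▸ h2, h1 ▸ Subgroup.card_subgroup_dvd_card _⟩
  have hsub : ev t s d v '' (L : Set W5) ⊆
      (fun n => n * ev t s d v x * n⁻¹) '' (Subgroup.normalizer (B.A1 : Set G) : Set G) := by
    rintro _ ⟨w, hw, rfl⟩
    obtain ⟨n, hn, hn'⟩ := hL w hw
    exact ⟨n, hn, hn'⟩
  have := Set.ncard_le_ncard hsub (Set.toFinite _)
  rwa [Set.ncard_image_of_injective _ (fun _ _ => B.ev_inj), Set.ncard_coe_finset] at this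

/-- `|t^G ∩ Z(T)| = 2` is impossible. -/
theorem not_two (hG : NoIndexTwo G) (cn1 : CentNorm t (A1set t s d v))
    (cn2 : CentNorm t (A2set t s d v)) {ρ π : G} (H : Half t E s d v ρ π)
    (hb : Bits t s d v true false false false false) : False := by
  have hπ := B.π_mem_normalizer H
  obtain ⟨S, hS, hdvd, hG'⟩ := B.orbit_ge cn1 cn2 hb (x := (true, false, true, false, false))
    rfl (by decide) {(true, false, true, false, false), (true, true, true, true, false),
      (true, true, false, true, false)} (by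
    intro w hw
    simp only [Finset.mem_insert, Finset.mem_singleton] at hw
    rcases hw with rfl | rfl | rfl
    · exact ⟨1, Subgroup.one_mem _, by group⟩
    · exact ⟨π, hπ, by rw [B.π_ev H]; rfl⟩
    · refine ⟨π * π, Subgroup.mul_mem _ hπ hπ, ?_⟩
      calc π * π * ev t s d v (true, false, true, false, false) * (π * π)⁻¹
          = π * (π * ev t s d v (true, false, true, false, false) * π⁻¹) * π⁻¹ := by group
        _ = _ := by rw [B.π_ev H, B.π_ev H]; rfl)
  have hL : ({(true, false, true, false, false), (true, true, true, true, false),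
      (true, true, false, true, false)} : Finset W5).card = 3 := by decide
  have hK : (Finset.univ.filter fun w : W5 =>
      (W5.stat true false false false false w && !w.2.2.2.2) = true).card = 4 := by decide
  rw [hL] at hS
  rw [hK] at hdvd
  have h4 : S = 4 := by
    have := Nat.le_of_dvd (by norm_num) hdvd
    interval_cases S <;> omega
  subst h4
  have hmod := modEq_sign hG B.t_sq B.T
  obtain ⟨m, hm, hC⟩ := B.card_C
  rw [B.ncard_conjIn_T hb, hC, B.card_T, show (Finset.univ.filter fun w : W5 =>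
      W5.stat true false false false false w = true).card = 6 by decide] at hmod
  obtain ⟨k, hk⟩ := hG'
  rw [hk] at hmod
  unfold Nat.ModEq at hmod
  have := Nat.odd_iff.mp hm
  omega

/-- The statuses when `|t^G ∩ Z(T)| = 6` and an element of order three maps `t ↦ s ↦ t s`. -/
theorem not_six (hG : NoIndexTwo G) (cn1 : CentNorm t (A1set t s d v))
    (cn2 : CentNorm t (A2set t s d v)) {ρ π : G} (H : Half t E s d v ρ π)
    (hb : Bits t s d v true true true true true) {g : G}
    (hA : ∀ y ∈ B.A1, g * y * g⁻¹ ∈ B.A1) (hgt : g * t * g⁻¹ = s)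
    (hgs : g * s * g⁻¹ = t * s) : False := by
  have hπ := B.π_mem_normalizer H
  have hgN : g ∈ Subgroup.normalizer (B.A1 : Set G) :=
    Subgroup.mem_normalizer_iff.mpr fun y => conj_mem_iff hA y
  have et : ev t s d v (true, false, false, false, false) = t := by simp [ev]
  have es : g * ev t s d v (true, false, false, false, false) * g⁻¹ =
      ev t s d v (false, true, false, false, false) := by rw [et, hgt]; simp [ev]
  have ets : g * g * ev t s d v (true, false, false, false, false) * (g * g)⁻¹ =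
      ev t s d v (true, true, false, false, false) := by
    calc _ = g * (g * ev t s d v (true, false, false, false, false) * g⁻¹) * g⁻¹ := by group
      _ = _ := by rw [et, hgt, hgs]; simp [ev]
  have key : ∀ n ∈ Subgroup.normalizer (B.A1 : Set G), ∀ u w : W5,
      n * ev t s d v (true, false, false, false, false) * n⁻¹ = ev t s d v u →
      π * ev t s d v u * π⁻¹ = ev t s d v w →
      ∃ n ∈ Subgroup.normalizer (B.A1 : Set G),
        n * ev t s d v (true, false, false, false, false) * n⁻¹ = ev t s d v w := by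
    intro n hn u w hu hw
    exact ⟨π * n, Subgroup.mul_mem _ hπ hn, by rw [← hw, ← hu]; group⟩
  have o1 := key g hgN _ (false, false, false, true, false) es (by rw [B.π_ev H]; rfl)
  obtain ⟨n1, hn1, hn1'⟩ := o1
  have o1' := key n1 hn1 _ (false, false, true, true, false) hn1' (by rw [B.π_ev H]; rfl)
  have hgg : g * g ∈ Subgroup.normalizer (B.A1 : Set G) := Subgroup.mul_mem _ hgN hgN
  have o2 := key _ hgg _ (true, false, false, true, false) ets (by rw [B.π_ev H]; rfl)
  obtain ⟨n2, hn2, hn2'⟩ := o2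
  have o2' := key n2 hn2 _ (true, false, true, true, false) hn2' (by rw [B.π_ev H]; rfl)
  obtain ⟨S, hS, hdvd, hG'⟩ := B.orbit_ge cn1 cn2 hb (x := (true, false, false, false, false))
    rfl (by decide) {(true, false, false, false, false), (false, true, false, false, false),
      (true, true, false, false, false), (false, false, false, true, false),
      (false, false, true, true, false), (true, false, false, true, false),
      (true, false, true, true, false)} (by
    intro w hw
    simp only [Finset.mem_insert, Finset.mem_singleton] at hw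
    rcases hw with rfl | rfl | rfl | rfl | rfl | rfl | rfl
    · exact ⟨1, Subgroup.one_mem _, by group⟩
    · exact ⟨g, hgN, es⟩
    · exact ⟨g * g, hgg, ets⟩
    · exact ⟨n1, hn1, hn1'⟩
    · exact o1'
    · exact ⟨n2, hn2, hn2'⟩
    · exact o2')
  have hL : ({(true, false, false, false, false), (false, true, false, false, false),
      (true, true, false, false, false), (false, false, false, true, false),
      (false, false, true, true, false), (true, false, false, true, false),
      (true, false, true, true, false)} : Finset W5).card = 7 := by decide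
  have hK : (Finset.univ.filter fun w : W5 =>
      (W5.stat true true true true true w && !w.2.2.2.2) = true).card = 12 := by decide
  rw [hL] at hS
  rw [hK] at hdvd
  have h4 : S = 12 := by
    have := Nat.le_of_dvd (by norm_num) hdvd
    interval_cases S <;> omega
  subst h4
  have hmod := modEq_sign hG B.t_sq B.T
  obtain ⟨m, hm, hC⟩ := B.card_C
  rw [B.ncard_conjIn_T hb, hC, B.card_T, show (Finset.univ.filter fun w : W5 =>
      W5.stat true true true true true w = true).card = 18 by decide] at hmod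
  obtain ⟨k, hk⟩ := hG'
  rw [hk] at hmod
  unfold Nat.ModEq at hmod
  have := Nat.odd_iff.mp hm
  omega

/-- `|t^G ∩ Z(T)| = 3` is impossible. -/
theorem not_three {p0 ps pts : Bool} (hb : Bits t s d v p0 ps false pts false)
    (hp : p0 = false) (hps : ps = true) (hpts : pts = true) {g : G}
    (hg : ∀ y ∈ B.T, g * y * g⁻¹ ∈ B.T)
    (hA : ∀ y ∈ B.A1, g * y * g⁻¹ ∈ B.A1) (hgt : g * t * g⁻¹ = s) : False := by
  subst hp hps hpts
  have ed : ev t s d v (false, false, false, true, false) = d := by simp [ev]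
  have hd1 : d ∈ B.A1 := by
    have h := (B.ev_mem_A1 (w := (false, false, false, true, false))).mpr rfl
    rwa [ed] at h
  have hdA : g * d * g⁻¹ ∈ B.A1 := hA d hd1
  obtain ⟨w, hw, hwd⟩ := B.mem_A1.mp hdA
  have hK : IsConj t (ev t s d v w) := by
    rw [hwd, isConj_conj]
    have := (B.isConj_ev hb (false, false, false, true, false)).mpr (by decide)
    rwa [ed] at this
  have hK' : IsConj t (ev t s d v (W5.mul (false, true, false, false, false) w)) := by
    rw [← B.ev_mul, hwd, show ev t s d v (false, true, false, false, false) = s by simp [ev],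
      ← hgt]
    have e : g * t * g⁻¹ * (g * d * g⁻¹) = g * (t * d) * g⁻¹ := by group
    rw [e, isConj_conj]
    have := (B.isConj_ev hb (true, false, false, true, false)).mpr (by decide)
    have e' : ev t s d v (true, false, false, true, false) = t * d := by simp [ev]
    rwa [e'] at this
  have he : w.2.2.2.1 = true := by
    by_contra hne
    obtain ⟨a, m, n, e, f⟩ := w
    obtain rfl : f = false := hw
    obtain rfl : e = false := by simpa using hne
    have hcm : Commute (g * d * g⁻¹) (g * v * g⁻¹) := by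
      obtain ⟨u, hu⟩ := B.mem_T.mp (hg v B.v_mem_T)
      show _ * _ = _ * _
      rw [← hwd, ← hu, B.ev_mul, B.ev_mul]
      congr 1
      clear hwd hu hK hK' hne
      revert a m n u; decide
    have hcm' : g * (d * v) * g⁻¹ = g * (v * d) * g⁻¹ := by
      calc g * (d * v) * g⁻¹ = g * d * g⁻¹ * (g * v * g⁻¹) := by group
        _ = g * v * g⁻¹ * (g * d * g⁻¹) := hcm.eq
        _ = _ := by group
    have h' : d * v = v * d := (MulAut.conj g).injective (by simpa using hcm')
    exact B.z_ne_one (mul_left_cancel (a := d * v) (by rw [← B.vd, mul_one, h']))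
  have h1 := (B.isConj_ev hb w).mp hK
  have h2 := (B.isConj_ev hb _).mp hK'
  have hf : w.2.2.2.2 = false := hw
  clear hwd hK hK' hw
  revert he h1 h2 hf
  revert w
  decide

/-- An element of order three cannot cycle `t`, one of `s, t s` and one of `c, t c`. -/
theorem not_mixed {ρ π ρ' π' : G} (H : Half t E s d v ρ π)
    (H' : Half t E (s * (d * v * (d * v))) (v * s) (d * s) ρ' π') {g x y : G}
    (hg : ∀ u ∈ B.T, g * u * g⁻¹ ∈ B.T) (hA : ∀ u ∈ B.A1, g * u * g⁻¹ ∈ B.A1)
    (hx : x = s ∨ x = t * s)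
    (hy : y = s * (d * v * (d * v)) ∨ y = t * (s * (d * v * (d * v))))
    (hgy : g * y * g⁻¹ = t) (hgt : g * t * g⁻¹ = x) : False := by
  have hD : d * s ∈ ⁅Subgroup.centralizer ({y, t} : Set G),
      Subgroup.centralizer ({y, t} : Set G)⁆ := by
    rw [centralizer_pair_comm y t]
    rcases hy with rfl | rfl
    · exact H'.v_comm
    · rw [centralizer_pair_mul]; exact H'.v_comm
  have hD' := conj_mem_comm_pair (g := g) hD
  rw [hgy, hgt] at hD'
  have hpair : Subgroup.centralizer ({t, x} : Set G) = Subgroup.centralizer ({t, s} : Set G) := by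
    rcases hx with rfl | rfl
    · rfl
    · rw [centralizer_pair_mul]
  rw [hpair] at hD'
  have eds : ev t s d v (false, true, false, true, false) = d * s := by simp [ev, B.sd]
  obtain ⟨w, hwA, hw⟩ := B.mem_A1.mp (hA (d * s) (eds ▸ B.ev_mem_A1.mpr rfl))
  obtain ⟨h1, h2, h3⟩ := H.comm_T w (hw ▸ hD')
  obtain ⟨a, m, n, e, f⟩ := w
  obtain rfl : f = false := hwA
  simp only at h1 h2 h3
  subst h1 h2 h3
  cases n
  · have h : MulAut.conj g (d * s) = MulAut.conj g 1 := by
      rw [MulAut.conj_apply, map_one, ← hw]; exact B.ev_one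
    have h' := (MulAut.conj g).injective h
    rw [← eds, ← B.ev_one] at h'
    exact absurd (B.ev_inj h') (by decide)
  · have h : MulAut.conj g (d * s) = MulAut.conj g (d * v * (d * v)) := by
      rw [MulAut.conj_apply, MulAut.conj_apply, B.normalizer_fix_z hg, ← hw, B.ev_z]
    have h' := (MulAut.conj g).injective h
    rw [← eds, B.ev_z] at h'
    exact absurd (B.ev_inj h') (by decide)

lemma bits_mirror {p0 ps pc pts ptc : Bool} (hb : Bits t s d v p0 ps pc pts ptc) :
    Bits t (s * (d * v * (d * v))) (v * s) (d * s) p0 pc ps ptc pts := by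
  have e : s * (d * v * (d * v)) * (d * v * (d * v)) = s := by rw [mul_assoc, B.z_sq, mul_one]
  refine ⟨?_, ?_, ?_, ?_, ?_⟩
  · rw [B.z_mirror]; exact hb.tz
  · exact hb.c
  · rw [B.z_mirror, e]; exact hb.single
  · exact hb.tc
  · rw [B.z_mirror, e]; exact hb.ts

/-- Twisting the frame by the sign character. -/
lemma bits_twist {p0 ps pc pts ptc : Bool} (hb : Bits t s d v p0 ps pc pts ptc) :
    Bits t (t * s) (t * d) v p0 pts ptc ps pc := by
  have hz : t * d * v * (t * d * v) = d * v * (d * v) := by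
    calc t * d * v * (t * d * v) = t * (d * v * t) * (d * v) := by group
      _ = t * t * (d * v * (d * v)) := by rw [← (B.td.mul_right B.tv).eq]; group
      _ = _ := by rw [B.t_sq, one_mul]
  have e : ∀ x : G, t * (t * x) = x := fun x => by rw [← mul_assoc, B.t_sq, one_mul]
  refine ⟨?_, ?_, ?_, ?_, ?_⟩
  · rw [hz]; exact hb.tz
  · exact hb.ts
  · rw [hz, mul_assoc]; exact hb.tc
  · rw [e]; exact hb.single
  · rw [hz, mul_assoc, e]; exact hb.c

end Base

/-- An element of order three normalising `T` and not centralising `t` cycles one of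
`{t, s, t s}` and `{t, c, t c}`, and fixes `A₁` and `A₂`. -/
lemma Frame.exists_cycle (F : Frame t E s d v) {p0 ps pc pts ptc : Bool}
    (hb : Bits t s d v p0 ps pc pts ptc)
    (h3 : 3 ∣ Nat.card (Subgroup.normalizer (F.base.T : Set G))) :
    ∃ g, (∀ y ∈ F.base.T, g * y * g⁻¹ ∈ F.base.T) ∧
      (∀ y ∈ F.base.A1, g * y * g⁻¹ ∈ F.base.A1) ∧ (∀ y ∈ F.base.A2, g * y * g⁻¹ ∈ F.base.A2) ∧
      ((g * t * g⁻¹ = s ∧ g * s * g⁻¹ = t * s) ∨
        (g * t * g⁻¹ = s * (d * v * (d * v)) ∧
          g * (s * (d * v * (d * v))) * g⁻¹ = t * (s * (d * v * (d * v))))) := by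
  have B := F.base
  have : Fact (Nat.Prime 3) := ⟨Nat.prime_three⟩
  obtain ⟨⟨g, hgN⟩, hord⟩ := exists_prime_orderOf_dvd_card' 3 h3
  have hord' : orderOf g = 3 := by rw [← hord, ← Subgroup.orderOf_coe]
  have hcube : g * g * g = 1 := by
    rw [show g * g * g = g ^ 3 by simp [pow_succ], ← hord']; exact pow_orderOf_eq_one g
  have hg1 : g ≠ 1 := fun h => by rw [h, orderOf_one] at hord'; omega
  have hg := B.mem_normalizer.mp hgN
  have hgz := B.normalizer_fix_z hg
  obtain ⟨hA1, hA2⟩ := B.conj_A1_of_cube hg hcube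
  set z := d * v * (d * v) with hz
  have ht1 : g * t * g⁻¹ ≠ t := by
    intro h
    have hgt : g * t = t * g := by
      calc g * t = g * t * g⁻¹ * g := by group
        _ = t * g := by rw [h]
    obtain ⟨w, hw⟩ := B.mem_T.mp (B.normalizer_T hgt hg)
    rw [← hw, B.ev_mul, B.ev_mul, ← B.ev_one] at hcube
    have h' := B.ev_inj hcube
    have : ∀ w : W5, W5.mul (W5.mul w w) w = W5.one → w = W5.one := by decide
    exact hg1 (by rw [← hw, this w h', B.ev_one])
  have hg3 : ∀ x : G, g * (g * (g * x * g⁻¹) * g⁻¹) * g⁻¹ = x := fun x => by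
    calc _ = g * g * g * x * (g * g * g)⁻¹ := by group
      _ = x := by rw [hcube]; group
  set x1 := g * t * g⁻¹ with hx1
  set x2 := g * x1 * g⁻¹ with hx2
  have hx3 : g * x2 * g⁻¹ = t := hg3 t
  have hgz' : ∀ x, g * (x * z) * g⁻¹ = g * x * g⁻¹ * z := fun x => by
    calc g * (x * z) * g⁻¹ = g * x * g⁻¹ * (g * z * g⁻¹) := by group
      _ = _ := by rw [hgz]
  have hinj : ∀ a b : G, g * a * g⁻¹ = g * b * g⁻¹ → a = b := fun a b h =>
    (MulAut.conj g).injective h
  have hzz : ∀ x : G, x * z * z = x := fun x => by rw [mul_assoc, B.z_sq, mul_one]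
  have h2t : x2 ≠ t := fun h => ht1 (by rw [hx1]; nth_rewrite 1 [← h]; exact hx3)
  have h1z : x1 ≠ t * z := fun h => h2t (by rw [hx2, h, hgz', ← hx1, h, hzz])
  have h2z : x2 ≠ t * z := fun h => h1z (by
    have h' : g * (t * z) * g⁻¹ = t := h ▸ hx3
    rw [hgz', ← hx1] at h'
    rw [← hzz x1, h'])
  have h21 : x2 ≠ x1 := fun h => ht1 (hinj _ _ h)
  have h21z : x2 ≠ x1 * z := fun h => by
    have h' : x1 = t * z := hinj _ _ (by rw [hgz', ← hx1, ← hx2, h])
    exact h1z h'
  have htc : ∀ y ∈ B.T, t * y = y * t := fun y hy =>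
    (Subgroup.mem_centralizer_singleton_iff.mp (B.T_le hy)).symm
  have hcentral : ∀ x, x ∈ B.T → (∀ y ∈ B.T, x * y = y * x) →
      g * x * g⁻¹ ∈ B.T ∧ ∀ y ∈ B.T, g * x * g⁻¹ * y = y * (g * x * g⁻¹) := by
    intro x hx hxc
    refine ⟨hg x hx, fun y hy => ?_⟩
    have hy' := (conj_mem_iff (H := B.T) hg (g⁻¹ * y * g)).mpr (by
      convert hy using 1; group)
    calc g * x * g⁻¹ * y = g * (x * (g⁻¹ * y * g)) * g⁻¹ := by group
      _ = g * (g⁻¹ * y * g * x) * g⁻¹ := by rw [hxc _ hy']
      _ = y * (g * x * g⁻¹) := by group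
  obtain ⟨hm1, hc1⟩ := hcentral t B.t_mem_T htc
  obtain ⟨hm2, hc2⟩ := hcentral x1 hm1 hc1
  have hopt : ∀ x, IsConj t x → x ∈ B.T → (∀ y ∈ B.T, x * y = y * x) →
      x = t ∨ x = t * z ∨ x = s ∨ x = s * z ∨ x = t * s ∨ x = t * (s * z) := by
    intro x hc hx hxc
    obtain ⟨⟨a, m, n, e, f⟩, rfl⟩ := B.mem_T.mp hx
    have h1 := hxc _ (B.ev_mem_T (false, false, false, true, false))
    have h2 := hxc _ (B.ev_mem_T (false, false, false, false, true))
    rw [B.ev_mul, B.ev_mul] at h1 h2
    have h1' := congrArg (fun w : W5 => w.2.2.1) (B.ev_inj h1)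
    have h2' := congrArg (fun w : W5 => w.2.2.1) (B.ev_inj h2)
    obtain ⟨rfl, rfl⟩ : e = false ∧ f = false := by
      revert h1' h2'; clear * -; revert a m n e f; decide
    have hn1 : ¬ IsConj t 1 := fun h => B.t_ne_one (isConj_one_right.mp h.symm)
    cases a <;> cases m <;> cases n <;>
      simp only [ev, bp_true, bp_false, mul_one, one_mul, ← hz] at hc ⊢
    all_goals first
      | exact absurd hc hn1
      | exact absurd hc B.z_not_conj
      | simp [mul_assoc]
  have hk1 : IsConj t x1 := (isConj_conj t t g).mpr (IsConj.refl t)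
  have hk2 : IsConj t x2 := (isConj_conj t x1 g).mpr hk1
  obtain ⟨ρ, π, H⟩ := F.half1
  obtain ⟨ρ', π', H'⟩ := F.half2
  have hg' : ∀ y ∈ B.T, g * g * y * (g * g)⁻¹ ∈ B.T := fun y hy => by
    have := hg _ (hg y hy); convert this using 1; group
  have hA1' : ∀ y ∈ B.A1, g * g * y * (g * g)⁻¹ ∈ B.A1 := fun y hy => by
    have := hA1 _ (hA1 y hy); convert this using 1; group
  have hA2' : ∀ y ∈ B.A2, g * g * y * (g * g)⁻¹ ∈ B.A2 := fun y hy => by
    have := hA2 _ (hA2 y hy); convert this using 1; group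
  have hmA : ∀ x, x = s ∨ x = t * s → ∀ y, y = s * z ∨ y = t * (s * z) →
      (x1 = x ∧ x2 = y) ∨ (x1 = y ∧ x2 = x) → False := by
    intro x hx y hy hxy
    rcases hxy with ⟨ha, hb'⟩ | ⟨ha, hb'⟩
    · exact B.not_mixed H H' hg hA1 hx hy (hb' ▸ hx3) ha
    · refine B.not_mixed H H' hg' hA1' hx hy ?_ ?_
      · rw [← ha]; calc _ = g * x2 * g⁻¹ := by rw [hx2]; group
          _ = t := hx3
      · rw [← hb']; rw [hx2, hx1]; group
  have hz2 : s * z * z = s := hzz s
  have hz4 : t * (s * z) = t * s * z := (mul_assoc _ _ _).symm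
  rcases hopt x1 hk1 hm1 hc1 with e1 | e1 | e1 | e1 | e1 | e1
  · exact absurd e1 ht1
  · exact absurd e1 h1z
  all_goals rcases hopt x2 hk2 hm2 hc2 with e2 | e2 | e2 | e2 | e2 | e2
  all_goals try exact absurd e2 h2t
  all_goals try exact absurd e2 h2z
  all_goals try exact absurd (e2.trans e1.symm) h21
  all_goals try (refine absurd (e2.trans ?_) h21z; rw [e1] <;> simp only [hz2, hz4, hzz]; done)
  · exact ⟨g, hg, hA1, hA2, Or.inl ⟨e1, by rw [← e2, hx2, e1]⟩⟩
  · exact (hmA s (.inl rfl) _ (.inr rfl) (.inl ⟨e1, e2⟩)).elim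
  · exact (hmA _ (.inr rfl) _ (.inl rfl) (.inr ⟨e1, e2⟩)).elim
  · exact ⟨g, hg, hA1, hA2, Or.inr ⟨e1, by rw [← e2, hx2, e1]⟩⟩
  · exact ⟨g * g, hg', hA1', hA2', Or.inl ⟨by rw [← e2, hx2, hx1]; group, by
      rw [← e1, ← e2]
      calc g * g * x2 * (g * g)⁻¹ = g * (g * x2 * g⁻¹) * g⁻¹ := by group
        _ = x1 := by rw [hx3]⟩⟩
  · exact (hmA _ (.inr rfl) _ (.inl rfl) (.inl ⟨e1, e2⟩)).elim
  · exact (hmA _ (.inl rfl) _ (.inr rfl) (.inr ⟨e1, e2⟩)).elim
  · exact ⟨g * g, hg', hA1', hA2', Or.inr ⟨by rw [← e2, hx2, hx1]; group, by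
      rw [← e1, ← e2]
      calc g * g * x2 * (g * g)⁻¹ = g * (g * x2 * g⁻¹) * g⁻¹ := by group
        _ = x1 := by rw [hx3]⟩⟩

/-- In a group without a subgroup of index two, the conjugates of `t` in `C(t)` are the
involutions outside one of the two complements. -/
theorem Frame.four_or (hG : NoIndexTwo G) (F : Frame t E s d v) {E' : Subgroup G}
    (F' : Base t E' (t * s) (t * d) v) : Four t E ∨ Four t E' := by
  have B := F.base
  obtain ⟨p0, ps, pc, pts, ptc, hb⟩ := Base.exists_bits t s d v
  obtain ⟨ρ, π, H⟩ := F.half1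
  obtain ⟨ρ', π', H'⟩ := F.half2
  have cn1 := H.cn
  have cn2 : CentNorm t (A2set t s d v) := B.A1set_mirror ▸ H'.cn
  have cn1' : CentNorm t (A1set t (s * (d * v * (d * v))) (v * s) (d * s)) := H'.cn
  have cn2' : CentNorm t (A2set t (s * (d * v * (d * v))) (v * s) (d * s)) :=
    B.A2set_mirror.symm ▸ cn1
  have hTT : B.mirror.T = B.T := Subgroup.ext fun x => by
    rw [B.mirror.mem_T, B.mem_T, B.range_mirror]
  have hAA : B.mirror.A1 = B.A2 := Subgroup.ext fun x => by
    rw [B.mirror.mem_A1, B.mem_A2, B.A1set_mirror]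
  obtain ⟨hp1, hp2⟩ := B.parity hG hb
  have h3 : (3 ∣ (Finset.univ.filter fun w : W5 =>
      (W5.stat p0 ps pc pts ptc w && !w.2.2.2.1 && !w.2.2.2.2) = true).card) →
      3 ∣ Nat.card (Subgroup.normalizer (B.T : Set G)) := fun h => by
    rw [B.card_normalizer hb]; exact h.mul_right 32
  cases p0
  · exfalso
    obtain ⟨g, hg, hA1, hA2, ⟨e1, e2⟩ | ⟨e1, e2⟩⟩ := F.exists_cycle hb
      (h3 (by clear hb h3; revert hp1 hp2; revert ps pc pts ptc; decide))
    · have hps : ps = true := hb.single.mp (e1 ▸ (isConj_conj t t g).mpr (IsConj.refl t))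
      have hpts : pts = true := hb.ts.mp (e2 ▸ (isConj_conj t s g).mpr (hb.single.mpr hps))
      have hpc : pc = false := by revert hp1; subst hps; cases pc <;> simp
      have hptc : ptc = false := by revert hp2; subst hpts; cases ptc <;> simp
      subst hpc hptc
      exact B.not_three hb rfl hps hpts hg hA1 e1
    · have hpc : pc = true := hb.c.mp (e1 ▸ (isConj_conj t t g).mpr (IsConj.refl t))
      have hptc : ptc = true := hb.tc.mp (e2 ▸ (isConj_conj t _ g).mpr (hb.c.mpr hpc))
      have hps : ps = false := by revert hp1; subst hpc; cases ps <;> simp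
      have hpts : pts = false := by revert hp2; subst hptc; cases pts <;> simp
      subst hps hpts
      exact B.mirror.not_three (B.bits_mirror hb) rfl hpc hptc (hTT.symm ▸ hg) (hAA.symm ▸ hA2) e1
  · have e1 : pc = ps := by revert hp1; cases pc <;> cases ps <;> simp
    have e2 : ptc = pts := by revert hp2; cases pts <;> cases ptc <;> simp
    subst e1 e2
    cases pc <;> cases ptc
    · exact (B.not_two hG cn1 cn2 H hb).elim
    · exact Or.inl (B.four hb)
    · exact Or.inr (F'.four (B.bits_twist hb))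
    · exfalso
      obtain ⟨g, hg, hA1, hA2, ⟨e1, e2⟩ | ⟨e1, e2⟩⟩ := F.exists_cycle hb (h3 (by decide))
      · exact B.not_six hG cn1 cn2 H hb hA1 e1 e2
      · exact B.mirror.not_six hG cn1' cn2' H' (B.bits_mirror hb) (hAA.symm ▸ hA2) e1 e2

end CfsgLib.TwoTimesSym
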