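import Cfsg.Agent.Lib.Recognition.TwoTimesSym.Frame
import Cfsg.Agent.Lib.Recognition.TwoTimesSym.Fusion

/-!
# Frames inside `⟨t⟩ × Sym(n)`
-/

set_option linter.unusedSectionVars false

namespace CfsgLib.TwoTimesSym

open Equiv

variable {n : ℕ}

/-- The list of images of a permutation. -/
def code (p : Perm (Fin n)) : List (Fin n) := (List.finRange n).map p

/-- Reading a list of images. -/
def ap (L : List (Fin n)) (i : Fin n) : Fin n := L.getD i.1 i

lemma ap_code (p : Perm (Fin n)) (i : Fin n) : ap (code p) i = p i := by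
  simp [ap, code, List.getD_eq_getElem?_getD, List.getElem?_map]

lemma code_mem (p : Perm (Fin n)) : code p ∈ (List.finRange n).permutations' := by
  rw [List.mem_permutations']
  exact Equiv.Perm.map_finRange_perm p

lemma exists_code {L : List (Fin n)} (hL : L ∈ (List.finRange n).permutations') :
    ∃ p : Perm (Fin n), code p = L := by
  rw [List.mem_permutations'] at hL
  have hnd : L.Nodup := hL.symm.nodup (List.nodup_finRange n)
  have hlen : L.length = n := by rw [hL.length_eq, List.length_finRange]
  let f : Fin n → Fin n := fun i => L[i.1]'(by omega)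
  have hf : Function.Injective f := fun i j h =>
    Fin.ext ((List.Nodup.getElem_inj_iff hnd).mp h)
  refine ⟨Equiv.ofBijective f (Finite.injective_iff_bijective.mp hf), ?_⟩
  refine List.ext_getElem (by simp [code, hlen]) fun i h1 h2 => ?_
  simp [code, f]

lemma code_injective : Function.Injective (code : Perm (Fin n) → List (Fin n)) := fun p q h =>
  Equiv.ext fun i => by rw [← ap_code p, ← ap_code q, h]

/-- `L` conjugates `a` to `b`. -/
def cj (L : List (Fin n)) (a b : Perm (Fin n)) : Bool :=
  (List.finRange n).all fun i => ap L (a i) == b (ap L i)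

lemma cj_code (p a b : Perm (Fin n)) : cj (code p) a b = true ↔ p * a * p⁻¹ = b := by
  simp only [cj, List.all_eq_true, List.mem_finRange, forall_true_left, beq_iff_eq, ap_code]
  rw [mul_inv_eq_iff_eq_mul, Equiv.ext_iff]
  simp [Perm.mul_apply]

/-- A check over all permutations. -/
def allPerm (n : ℕ) (P : List (Fin n) → Bool) : Bool :=
  ((List.finRange n).permutations').all P

lemma of_allPerm {P : List (Fin n) → Bool} (h : allPerm n P = true) (p : Perm (Fin n)) :
    P (code p) = true := List.all_eq_true.mp h _ (code_mem p)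

/-- The permutation with exponents `u` in the frame `s, d, v`. -/
def permWord (s d v : Perm (Fin n)) (u : Bool × Bool × Bool × Bool) : Perm (Fin n) :=
  bp u.1 s * bp u.2.1 (d * v * (d * v)) * bp u.2.2.1 d * bp u.2.2.2 v

/-- All exponents. -/
def all4 : List (Bool × Bool × Bool × Bool) :=
  [false, true].flatMap fun a => [false, true].flatMap fun b => [false, true].flatMap fun c =>
    [false, true].map fun e => (a, b, c, e)

lemma mem_all4 : ∀ u, u ∈ all4 := by decide

/-- The group `E₁` as a list. -/
def e8 (s d v : Perm (Fin n)) : List (Perm (Fin n)) :=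
  (all4.filter fun u => !u.2.2.2).map (permWord s d v)

lemma isConj_of_support {p q : Perm (Fin n)} (hp : p * p = 1) (hq : q * q = 1)
    (h : p.support.card = q.support.card) : IsConj p q := by
  have key : ∀ r : Perm (Fin n), r * r = 1 →
      ∃ k, r.cycleType = Multiset.replicate k 2 ∧ r.support.card = 2 * k := by
    intro r hr
    have hall : ∀ m ∈ r.cycleType, m = 2 := by
      intro m hm
      have h1 : r ^ 2 = 1 := by rw [pow_two, hr]
      have hd : m ∣ 2 := (Perm.dvd_of_mem_cycleType hm).trans (orderOf_dvd_of_pow_eq_one h1)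
      have := Perm.two_le_of_mem_cycleType hm
      have := Nat.le_of_dvd (by norm_num) hd
      omega
    refine ⟨_, Multiset.eq_replicate_card.mpr hall, ?_⟩
    rw [← Perm.sum_cycleType]
    conv_lhs => rw [Multiset.eq_replicate_card.mpr hall]
    rw [Multiset.sum_replicate, smul_eq_mul, mul_comm]
  obtain ⟨k, hk, hk'⟩ := key p hp
  obtain ⟨l, hl, hl'⟩ := key q hq
  rw [Perm.isConj_iff_cycleType_eq, hk, hl]
  congr 1
  omega

/-- The facts about one frame in `Sym(n)`. -/
structure HalfFacts (s d v ρ π : Perm (Fin n)) : Prop where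
  cent : allPerm n (fun L => !(cj L s s && cj L (d * v * (d * v)) (d * v * (d * v)) && cj L d d) ||
    (e8 s d v).any fun a => L == code a) = true
  norm : (((List.finRange n).permutations').filter fun L =>
    [s, d * v * (d * v), d].all fun a => (e8 s d v).any fun b => cj L a b).toFinset.card = 48
  ρ_unique : allPerm n (fun L => !(cj L s s && cj L (d * v * (d * v)) v &&
      cj L v (v * (d * v * (d * v))) &&
      ((List.finRange n).all fun i => ap L (ap L (ap L i)) == i)) ||
    ([(false, false), (true, false), (false, true), (true, true)] : List (Bool × Bool)).any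
      fun w => L == code (bp w.1 (d * v * (d * v)) * bp w.2 v * ρ *
        (bp w.1 (d * v * (d * v)) * bp w.2 v)⁻¹)) = true
  v_comm : ∃ a b, a * s = s * a ∧ b * s = s * b ∧ a * b * a⁻¹ * b⁻¹ = v
  z_comm : ∃ a b, a * s = s * a ∧ b * s = s * b ∧ a * b * a⁻¹ * b⁻¹ = d * v * (d * v)
  comm_T : ∃ D : Subgroup (Perm (Fin n)),
    (∀ a b, a * s = s * a → b * s = s * b → a * b * a⁻¹ * b⁻¹ ∈ D) ∧
      ∀ u, permWord s d v u ∈ D → u.1 = false ∧ u.2.2.1 = false
  ρ_s : ρ * s = s * ρ
  ρ_cube : ρ * ρ * ρ = 1
  ρ_z : ρ * (d * v * (d * v)) * ρ⁻¹ = v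
  ρ_v : ρ * v * ρ⁻¹ = v * (d * v * (d * v))
  ρ_d : d * ρ * d = ρ⁻¹
  π_d : π * d * π⁻¹ = d * (d * v * (d * v))
  π_dz : π * (d * (d * v * (d * v))) * π⁻¹ = s
  π_s : π * s * π⁻¹ = d

/-- The facts about both frames. -/
structure Facts (s d v : Perm (Fin n)) : Prop where
  small : n ≤ 7
  odd : ∃ m, Odd m ∧ n.factorial = 16 * m
  s_sq : s * s = 1
  d_sq : d * d = 1
  v_sq : v * v = 1
  sd : s * d = d * s
  sv : s * v = v * s
  dv4 : d * v * (d * v) * (d * v * (d * v)) = 1
  faithful : ∀ u, permWord s d v u = 1 → u = (false, false, false, false)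
  normT : allPerm n (fun L => !([s, d, v].all fun a => all4.any fun u =>
    cj L a (permWord s d v u)) || all4.any fun u => L == code (permWord s d v u)) = true
  supp_s : s.support.card = 2
  supp_z : (d * v * (d * v)).support.card = 4
  supp_c : (s * (d * v * (d * v))).support.card = 6
  supp_d : d.support.card = 2
  supp_v : v.support.card = 4
  supp_ds : (d * s).support.card = 4
  supp_vs : (v * s).support.card = 6

variable {G : Type*} [Group G]

/-- A copy of `Sym(n)` complementing `t` in its centraliser. -/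
structure Emb (t : G) (n : ℕ) where
  ι : Perm (Fin n) →* G
  injective : Function.Injective ι
  comm : ∀ p, ι p * t = t * ι p
  ne : ∀ p, ι p ≠ t
  sq : t * t = 1
  cover : ∀ x, x * t = t * x → ∃ p, x = ι p ∨ x = t * ι p

namespace Emb

variable {t : G} (e : Emb t n)

lemma map_bp (b : Bool) (p : Perm (Fin n)) : e.ι (bp b p) = bp b (e.ι p) := by
  cases b <;> simp

lemma ev_eq (s d v : Perm (Fin n)) (w : W5) :
    ev t (e.ι s) (e.ι d) (e.ι v) w = bp w.1 t * e.ι (permWord s d v w.2) := by
  simp only [ev, permWord, map_mul, map_bp, mul_assoc]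

lemma pair_inj {a b : Bool} {p q : Perm (Fin n)} (h : bp a t * e.ι p = bp b t * e.ι q) :
    a = b ∧ p = q := by
  have key : ∀ p q, t * e.ι p ≠ e.ι q := fun p q h => e.ne (q * p⁻¹) (by
    rw [map_mul, map_inv, ← h, mul_assoc, mul_inv_cancel, mul_one])
  cases a <;> cases b <;> simp only [bp_true, bp_false, one_mul] at h
  · exact ⟨rfl, e.injective h⟩
  · exact absurd h.symm (key _ _)
  · exact absurd h (key _ _)
  · exact ⟨rfl, e.injective (mul_left_cancel h)⟩

lemma exists_pair {x : G} (hx : x * t = t * x) : ∃ a p, x = bp a t * e.ι p := by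
  obtain ⟨p, hp | hp⟩ := e.cover x hx
  · exact ⟨false, p, by simp [hp]⟩
  · exact ⟨true, p, by simp [hp]⟩

lemma bp_comm_ι (a : Bool) (p : Perm (Fin n)) : Commute (bp a t) (e.ι p) := by
  cases a
  · exact Commute.one_left _
  · exact (e.comm p).symm

lemma conj_pair (a : Bool) (p q : Perm (Fin n)) :
    (bp a t * e.ι p) * e.ι q * (bp a t * e.ι p)⁻¹ = e.ι (p * q * p⁻¹) := by
  have h := (e.bp_comm_ι a (p * q * p⁻¹)).eq
  calc (bp a t * e.ι p) * e.ι q * (bp a t * e.ι p)⁻¹
      = bp a t * e.ι (p * q * p⁻¹) * (bp a t)⁻¹ := by simp only [map_mul, map_inv]; group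
    _ = e.ι (p * q * p⁻¹) := by rw [h]; group

lemma commute_pair {a : Bool} {p q : Perm (Fin n)} :
    (bp a t * e.ι p) * e.ι q = e.ι q * (bp a t * e.ι p) ↔ p * q * p⁻¹ = q := by
  rw [← e.injective.eq_iff, ← e.conj_pair a p q, mul_inv_eq_iff_eq_mul]

lemma pair_t (a : Bool) (p : Perm (Fin n)) :
    bp a t * e.ι p * t = t * (bp a t * e.ι p) := by
  cases a <;> simp only [bp_true, bp_false, one_mul, mul_assoc, e.comm p]

include e in
lemma card_centralizer :
    Nat.card (Subgroup.centralizer ({t} : Set G)) = 2 * n.factorial := by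
  rw [← Nat.card_congr (Equiv.ofBijective
    (fun x : Bool × Perm (Fin n) => (⟨bp x.1 t * e.ι x.2,
      Subgroup.mem_centralizer_singleton_iff.mpr (e.pair_t x.1 x.2)⟩ :
        Subgroup.centralizer ({t} : Set G))) ⟨?_, ?_⟩), Nat.card_prod, Nat.card_perm]
  · simp [Nat.card_eq_fintype_card]
  · rintro ⟨a, p⟩ ⟨b, q⟩ h
    obtain ⟨rfl, rfl⟩ := e.pair_inj (congrArg Subtype.val h)
    rfl
  · rintro ⟨x, hx⟩
    obtain ⟨a, p, rfl⟩ := e.exists_pair (Subgroup.mem_centralizer_singleton_iff.mp hx)
    exact ⟨(a, p), rfl⟩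

lemma conj_exists {p q : Perm (Fin n)} (hp : p * p = 1) (hq : q * q = 1)
    (h : p.support.card = q.support.card) : ∃ g ∈ e.ι.range, g * e.ι p * g⁻¹ = e.ι q := by
  obtain ⟨c, hc⟩ := isConj_iff.mp (isConj_of_support hp hq h)
  exact ⟨e.ι c, ⟨c, rfl⟩, by rw [← hc]; simp only [map_mul, map_inv]⟩

theorem base {s d v : Perm (Fin n)} (F : Facts s d v) :
    Base t e.ι.range (e.ι s) (e.ι d) (e.ι v) where
  t_sq := e.sq
  card_C := by
    obtain ⟨m, hm, h⟩ := F.odd
    exact ⟨m, hm, by rw [e.card_centralizer, h]; ring⟩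
  E_le := by
    rintro _ ⟨p, rfl⟩
    exact Subgroup.mem_centralizer_singleton_iff.mpr (e.comm p)
  t_notMem := by rintro ⟨p, hp⟩; exact e.ne p hp
  cover := by
    intro x hx
    obtain ⟨p, rfl | rfl⟩ := e.cover x hx
    · exact Or.inl ⟨p, rfl⟩
    · exact Or.inr ⟨p, by rw [← mul_assoc, e.sq, one_mul]⟩
  s_mem := ⟨s, rfl⟩
  d_mem := ⟨d, rfl⟩
  v_mem := ⟨v, rfl⟩
  s_sq := by rw [← map_mul, F.s_sq, map_one]
  d_sq := by rw [← map_mul, F.d_sq, map_one]
  v_sq := by rw [← map_mul, F.v_sq, map_one]
  sd := by rw [← map_mul, F.sd, map_mul]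
  sv := by rw [← map_mul, F.sv, map_mul]
  dv4 := by simp only [← map_mul, F.dv4, map_one]
  faithful := by
    intro w hw
    rw [e.ev_eq] at hw
    have h := e.pair_inj (a := w.1) (b := false) (q := 1) (by simpa using hw)
    exact Prod.ext h.1 (F.faithful _ h.2)
  normT := by
    intro x hx h1 h2 h3
    obtain ⟨a, p, rfl⟩ := e.exists_pair hx
    have key : ∀ q, (bp a t * e.ι p) * e.ι q * (bp a t * e.ι p)⁻¹ ∈
        Set.range (ev t (e.ι s) (e.ι d) (e.ι v)) →
        (all4.any fun u => cj (code p) q (permWord s d v u)) = true := by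
      rintro q ⟨w, hw⟩
      rw [e.conj_pair, e.ev_eq] at hw
      have h := e.pair_inj (b := false) (q := p * q * p⁻¹) (by simpa using hw)
      exact List.any_eq_true.mpr ⟨w.2, mem_all4 _, (cj_code _ _ _).mpr h.2.symm⟩
    have hm := of_allPerm F.normT p
    have hs := key s h1
    have hd := key d h2
    have hv := key v h3
    simp only [List.all_cons, List.all_nil, hs, hd, hv, Bool.and_self, Bool.not_true,
      Bool.false_or] at hm
    obtain ⟨u, -, hu⟩ := List.any_eq_true.mp hm
    obtain rfl := code_injective (beq_iff_eq.mp hu)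
    exact ⟨(a, u), by rw [e.ev_eq]⟩
  classes := by
    rintro _ ⟨p, rfl⟩ h2 h1
    have hp : p * p = 1 := e.injective (by rw [map_mul, h2, map_one])
    have hp1 : p ≠ 1 := fun h => h1 (by rw [h, map_one])
    have hcard : p.support.card = 2 ∨ p.support.card = 4 ∨ p.support.card = 6 := by
      have h0 : p.support.card ≠ 0 := by simpa using hp1
      have hle : p.support.card ≤ n := by simpa using p.support.card_le_univ
      have hdvd : 2 ∣ p.support.card := by
        rw [← Perm.sum_cycleType]
        refine Multiset.dvd_sum fun m hm => ?_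
        have h2' : p ^ 2 = 1 := by rw [pow_two, hp]
        have hd : m ∣ 2 := (Perm.dvd_of_mem_cycleType hm).trans (orderOf_dvd_of_pow_eq_one h2')
        have := Perm.two_le_of_mem_cycleType hm
        have := Nat.le_of_dvd (by norm_num) hd
        omega
      have := F.small
      omega
    have hz := F.dv4
    rcases hcard with hc | hc | hc
    · obtain ⟨g, hg, hg'⟩ := e.conj_exists hp F.s_sq (hc.trans F.supp_s.symm)
      exact ⟨g, hg, Or.inl hg'⟩
    · obtain ⟨g, hg, hg'⟩ := e.conj_exists hp hz (hc.trans F.supp_z.symm)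
      refine ⟨g, hg, Or.inr (Or.inl ?_)⟩
      simpa [map_mul] using hg'
    · have hcs : s * (d * v * (d * v)) * (s * (d * v * (d * v))) = 1 := by
        have h1 : Commute s (d * v * (d * v)) :=
          ((show Commute s d from F.sd).mul_right F.sv).mul_right
            ((show Commute s d from F.sd).mul_right F.sv)
        calc _ = s * (d * v * (d * v) * s) * (d * v * (d * v)) := by group
          _ = s * s * (d * v * (d * v) * (d * v * (d * v))) := by rw [← h1.eq]; group
          _ = 1 := by rw [F.s_sq, hz, one_mul]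
      obtain ⟨g, hg, hg'⟩ := e.conj_exists hp hcs (hc.trans F.supp_c.symm)
      refine ⟨g, hg, Or.inr (Or.inr ?_)⟩
      simpa [map_mul] using hg'
  conj_d := e.conj_exists F.d_sq F.s_sq (F.supp_d.trans F.supp_s.symm)
  conj_v := by
    obtain ⟨g, hg, hg'⟩ := e.conj_exists F.v_sq F.dv4 (F.supp_v.trans F.supp_z.symm)
    exact ⟨g, hg, by simpa [map_mul] using hg'⟩
  conj_ds := by
    have h : d * s * (d * s) = 1 := by
      calc d * s * (d * s) = d * (s * d) * s := by group
        _ = d * d * (s * s) := by rw [F.sd]; group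
        _ = 1 := by rw [F.d_sq, F.s_sq, one_mul]
    obtain ⟨g, hg, hg'⟩ := e.conj_exists h F.dv4 (F.supp_ds.trans F.supp_z.symm)
    exact ⟨g, hg, by simpa [map_mul] using hg'⟩
  conj_vs := by
    have h : v * s * (v * s) = 1 := by
      calc v * s * (v * s) = v * (s * v) * s := by group
        _ = v * v * (s * s) := by rw [F.sv]; group
        _ = 1 := by rw [F.v_sq, F.s_sq, one_mul]
    have hcs : s * (d * v * (d * v)) * (s * (d * v * (d * v))) = 1 := by
      have h1 : Commute s (d * v * (d * v)) :=
        ((show Commute s d from F.sd).mul_right F.sv).mul_right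
          ((show Commute s d from F.sd).mul_right F.sv)
      calc _ = s * (d * v * (d * v) * s) * (d * v * (d * v)) := by group
        _ = s * s * (d * v * (d * v) * (d * v * (d * v))) := by rw [← h1.eq]; group
        _ = 1 := by rw [F.s_sq, F.dv4, one_mul]
    obtain ⟨g, hg, hg'⟩ := e.conj_exists h hcs (F.supp_vs.trans F.supp_c.symm)
    exact ⟨g, hg, by simpa [map_mul] using hg'⟩

lemma mem_A1set {s d v : Perm (Fin n)} {a : Bool} {p : Perm (Fin n)} :
    bp a t * e.ι p ∈ A1set t (e.ι s) (e.ι d) (e.ι v) ↔ p ∈ e8 s d v := by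
  constructor
  · rintro ⟨⟨b, u⟩, hu, h⟩
    rw [e.ev_eq] at h
    obtain ⟨-, rfl⟩ := e.pair_inj h
    exact List.mem_map.mpr ⟨u, List.mem_filter.mpr ⟨mem_all4 u, by
      simpa using (hu : u.2.2.2 = false)⟩, rfl⟩
  · intro h
    obtain ⟨u, hu, rfl⟩ := List.mem_map.mp h
    refine ⟨(a, u), ?_, e.ev_eq _ _ _ _⟩
    simpa using (List.mem_filter.mp hu).2

theorem half {s d v ρ π : Perm (Fin n)} (H : HalfFacts s d v ρ π)
    (hB : Base t e.ι.range (e.ι s) (e.ι d) (e.ι v)) [Finite G] :
    Half t e.ι.range (e.ι s) (e.ι d) (e.ι v) (e.ι ρ) (e.ι π) where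
  cn := by
    have hgen : ∀ q ∈ [s, d * v * (d * v), d], ∀ b, e.ι q ∈ A1set t (e.ι s) (e.ι d) (e.ι v) ∧
        bp b t * e.ι q ∈ A1set t (e.ι s) (e.ι d) (e.ι v) := by
      intro q hq b
      have hmem : q ∈ e8 s d v := by
        simp only [List.mem_cons, List.not_mem_nil, or_false] at hq
        rcases hq with rfl | rfl | rfl
        · exact List.mem_map.mpr ⟨(true, false, false, false),
            List.mem_filter.mpr ⟨mem_all4 _, rfl⟩, by simp [permWord]⟩
        · exact List.mem_map.mpr ⟨(false, true, false, false),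
            List.mem_filter.mpr ⟨mem_all4 _, rfl⟩, by simp [permWord]⟩
        · exact List.mem_map.mpr ⟨(false, false, true, false),
            List.mem_filter.mpr ⟨mem_all4 _, rfl⟩, by simp [permWord]⟩
      exact ⟨by simpa using (e.mem_A1set (a := false)).mpr hmem, e.mem_A1set.mpr hmem⟩
    constructor
    · intro x hx hc
      obtain ⟨a, p, rfl⟩ := e.exists_pair hx
      rw [e.mem_A1set]
      have h := of_allPerm H.cent p
      have h1 := (cj_code p s s).mpr (e.commute_pair.mp (hc _ (hgen s (by simp) false).1))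
      have h2 := (cj_code p _ _).mpr (e.commute_pair.mp
        (hc _ (hgen (d * v * (d * v)) (by simp) false).1))
      have h3 := (cj_code p d d).mpr (e.commute_pair.mp (hc _ (hgen d (by simp) false).1))
      simp only [h1, h2, h3, Bool.and_self, Bool.not_true, Bool.false_or] at h
      obtain ⟨q, hq, hq'⟩ := List.any_eq_true.mp h
      exact code_injective (beq_iff_eq.mp hq') ▸ hq
    · set S : Set (Perm (Fin n)) := {p | ∀ q ∈ [s, d * v * (d * v), d], p * q * p⁻¹ ∈ e8 s d v}
      have hS : S.ncard = 48 := by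
        rw [← H.norm, ← Set.ncard_coe_finset, ← Set.ncard_image_of_injective S code_injective]
        congr 1
        ext L
        simp only [Set.mem_image, Finset.mem_coe, List.mem_toFinset, List.mem_filter,
          List.all_eq_true, List.any_eq_true, S, Set.mem_ofPred_eq]
        constructor
        · rintro ⟨p, hp, rfl⟩
          exact ⟨code_mem p, fun q hq => ⟨_, hp q hq, (cj_code _ _ _).mpr rfl⟩⟩
        · rintro ⟨hL, hall⟩
          obtain ⟨p, rfl⟩ := exists_code hL
          refine ⟨p, fun q hq => ?_, rfl⟩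
          obtain ⟨b, hb, hb'⟩ := hall q hq
          rw [(cj_code _ _ _).mp hb']
          exact hb
      set A := A1set t (e.ι s) (e.ι d) (e.ι v)
      have hset : {x | x * t = t * x ∧ ∀ a, a ∈ A ↔ x * a * x⁻¹ ∈ A} =
          (fun y : Bool × Perm (Fin n) => bp y.1 t * e.ι y.2) '' ((Set.univ : Set Bool) ×ˢ S) := by
        ext x
        constructor
        · rintro ⟨hx, hA⟩
          obtain ⟨a, p, rfl⟩ := e.exists_pair hx
          refine ⟨(a, p), ⟨trivial, fun q hq => ?_⟩, rfl⟩
          have h := (hA _).mp (hgen q hq false).1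
          rw [e.conj_pair] at h
          exact e.mem_A1set (a := false) |>.mp (by simpa using h)
        · rintro ⟨⟨a, p⟩, ⟨-, hp⟩, rfl⟩
          refine ⟨e.pair_t a p, fun y => ?_⟩
          have hmaps : ∀ y ∈ hB.A1, (bp a t * e.ι p) * y * (bp a t * e.ι p)⁻¹ ∈ hB.A1 := by
            intro y hy
            obtain ⟨⟨b, m, k, c, f⟩, hf, rfl⟩ := hB.mem_A1.mp hy
            obtain rfl : f = false := hf
            have hq : ∀ (b : Bool) (q : Perm (Fin n)), q ∈ [s, d * v * (d * v), d] →
                (bp a t * e.ι p) * bp b (e.ι q) * (bp a t * e.ι p)⁻¹ ∈ hB.A1 := by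
              intro b q hq
              cases b
              · simp
              · rw [bp_true, e.conj_pair]
                exact hB.mem_A1.mpr (by
                  simpa using (e.mem_A1set (a := false)).mpr (hp q hq))
            have ht : (bp a t * e.ι p) * bp b t * (bp a t * e.ι p)⁻¹ ∈ hB.A1 := by
              cases b
              · simp
              · rw [bp_true, e.pair_t, mul_assoc, mul_inv_cancel, mul_one]
                exact hB.mem_A1.mpr ⟨(true, false, false, false, false), rfl, by simp [ev]⟩
            have h2 := hq k (d * v * (d * v)) (by simp)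
            simp only [map_mul] at h2
            have h1 := hB.A1.mul_mem (hB.A1.mul_mem (hB.A1.mul_mem ht (hq m s (by simp))) h2)
              (hq c d (by simp))
            convert h1 using 1
            simp only [ev, bp_false, mul_one]
            group
          rw [← hB.mem_A1, ← hB.mem_A1]
          exact conj_mem_iff (H := hB.A1) hmaps y
      rw [hset, Set.ncard_image_of_injective _ (fun x y h => by
        obtain ⟨h1, h2⟩ := e.pair_inj h; exact Prod.ext h1 h2), Set.ncard_prod, hS,
        Set.ncard_univ]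
      simp [Nat.card_eq_fintype_card]
  v_comm := by
    obtain ⟨a, b, ha, hb, hab⟩ := H.v_comm
    have hC : ∀ a : Perm (Fin n), a * s = s * a →
        e.ι a ∈ Subgroup.centralizer ({t, e.ι s} : Set G) := by
      intro a ha
      rw [Subgroup.mem_centralizer_iff]
      rintro x (rfl | rfl)
      · exact (e.comm a).symm
      · rw [← map_mul, ← ha, map_mul]
    have := Subgroup.commutator_mem_commutator (hC a ha) (hC b hb)
    rw [← hab]
    simpa [commutatorElement_def] using this
  z_comm := by
    obtain ⟨a, b, ha, hb, hab⟩ := H.z_comm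
    have hC : ∀ a : Perm (Fin n), a * s = s * a →
        e.ι a ∈ Subgroup.centralizer ({t, e.ι s} : Set G) := by
      intro a ha
      rw [Subgroup.mem_centralizer_iff]
      rintro x (rfl | rfl)
      · exact (e.comm a).symm
      · rw [← map_mul, ← ha, map_mul]
    have := Subgroup.commutator_mem_commutator (hC a ha) (hC b hb)
    have hab' := congrArg e.ι hab
    simp only [map_mul, map_inv] at hab'
    rw [← hab']
    simpa [commutatorElement_def] using this
  comm_T := by
    obtain ⟨D, hD, hDT⟩ := H.comm_T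
    intro w hw
    have hle : ⁅Subgroup.centralizer ({t, e.ι s} : Set G),
        Subgroup.centralizer ({t, e.ι s} : Set G)⁆ ≤ D.map e.ι := by
      rw [Subgroup.commutator_le]
      intro x hx y hy
      have hx' := Subgroup.mem_centralizer_iff.mp hx
      have hy' := Subgroup.mem_centralizer_iff.mp hy
      obtain ⟨a, p, rfl⟩ := e.exists_pair (hx' t (Set.mem_insert _ _)).symm
      obtain ⟨b, q, rfl⟩ := e.exists_pair (hy' t (Set.mem_insert _ _)).symm
      have hp : p * s = s * p := by
        have := e.commute_pair.mp (hx' _ (Set.mem_insert_of_mem _ rfl)).symm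
        rwa [mul_inv_eq_iff_eq_mul] at this
      have hq : q * s = s * q := by
        have := e.commute_pair.mp (hy' _ (Set.mem_insert_of_mem _ rfl)).symm
        rwa [mul_inv_eq_iff_eq_mul] at this
      refine ⟨p * q * p⁻¹ * q⁻¹, hD p q hp hq, ?_⟩
      have hcent : ∀ r, Commute (bp b t) (bp a t * e.ι r) := fun r =>
        (bp_comm (Commute.refl t) b a).mul_right (e.bp_comm_ι b r)
      rw [commutatorElement_def, map_mul, ← e.conj_pair a p q]
      calc bp a t * e.ι p * e.ι q * (bp a t * e.ι p)⁻¹ * e.ι q⁻¹
          = bp b t * (bp b t)⁻¹ *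
              (bp a t * e.ι p * e.ι q * (bp a t * e.ι p)⁻¹ * e.ι q⁻¹) := by group
        _ = _ := by
            rw [map_inv]
            have h1 : Commute (bp b t)⁻¹ (bp a t * e.ι p * e.ι q * (bp a t * e.ι p)⁻¹ *
                (e.ι q)⁻¹) :=
              (((((hcent p).mul_right (e.bp_comm_ι b q)).mul_right (hcent p).inv_right).mul_right
                (e.bp_comm_ι b q).inv_right)).inv_left
            rw [mul_assoc (bp b t), h1.eq]
            calc bp b t * (bp a t * e.ι p * e.ι q * (bp a t * e.ι p)⁻¹ * (e.ι q)⁻¹ * (bp b t)⁻¹)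
                = bp b t * (bp a t * e.ι p) * (e.ι q * (bp a t * e.ι p)⁻¹ * (e.ι q)⁻¹ *
                    (bp b t)⁻¹) := by group
              _ = bp a t * e.ι p * bp b t * (e.ι q * (bp a t * e.ι p)⁻¹ * (e.ι q)⁻¹ *
                    (bp b t)⁻¹) := by rw [(hcent p).eq]
              _ = _ := by group
    obtain ⟨r, hr, hr'⟩ := hle hw
    rw [e.ev_eq] at hr'
    have h := e.pair_inj (a := false) (by simpa using hr')
    obtain ⟨h1, h2⟩ := hDT w.2 (h.2 ▸ hr)
    exact ⟨h.1.symm, h1, h2⟩
  ρ_mem := ⟨ρ, rfl⟩
  ρ_s := by rw [← map_mul, H.ρ_s, map_mul]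
  ρ_cube := by rw [← map_mul, ← map_mul, H.ρ_cube, map_one]
  ρ_z := by
    have := congrArg e.ι H.ρ_z
    simpa only [map_mul, map_inv] using this
  ρ_v := by
    have := congrArg e.ι H.ρ_v
    simpa only [map_mul, map_inv] using this
  ρ_d := by
    have := congrArg e.ι H.ρ_d
    simpa only [map_mul, map_inv] using this
  ρ_unique := by
    intro x hx hxs h3 hz hv
    obtain ⟨a, p, rfl⟩ := e.exists_pair hx
    have hp : p * p * p = 1 ∧ a = false := by
      have e3 : bp a t * e.ι p * (bp a t * e.ι p) * (bp a t * e.ι p) =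
          bp a t * e.ι (p * p * p) := by
        have hc := (e.bp_comm_ι a p).eq
        have h2 : bp a t * bp a t = 1 := by rw [bp_mul_bp e.sq]; simp
        calc _ = bp a t * e.ι p * bp a t * e.ι p * (bp a t * e.ι p) := by group
          _ = bp a t * (e.ι p * bp a t) * e.ι p * (bp a t * e.ι p) := by group
          _ = bp a t * (bp a t * e.ι p) * e.ι p * (bp a t * e.ι p) := by rw [hc]
          _ = (bp a t * bp a t) * (e.ι (p * p) * bp a t) * e.ι p := by rw [map_mul]; group
          _ = bp a t * e.ι (p * p) * e.ι p := by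
              rw [← (e.bp_comm_ι a (p * p)).eq, h2, one_mul]
          _ = _ := by rw [mul_assoc, ← map_mul]
      have h' := e.pair_inj (b := false) (q := 1) (e3.symm.trans (by simpa using h3))
      exact ⟨h'.2, h'.1⟩
    obtain ⟨hp3, rfl⟩ := hp
    simp only [← map_mul] at hz hv
    rw [e.conj_pair] at hz hv
    have c1 := (cj_code p s s).mpr (e.commute_pair.mp hxs)
    have c2 := (cj_code p _ _).mpr (e.injective hz)
    have c3 := (cj_code p _ _).mpr (e.injective hv)
    have c4 : ((List.finRange n).all fun i => ap (code p) (ap (code p) (ap (code p) i)) == i) =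
        true := by
      simp only [List.all_eq_true, ap_code, beq_iff_eq]
      intro i _
      have := Equiv.ext_iff.mp hp3 i
      simpa [Perm.mul_apply] using this
    have h := of_allPerm H.ρ_unique p
    simp only [c1, c2, c3, c4, Bool.and_self, Bool.not_true, Bool.false_or] at h
    obtain ⟨w, -, hw⟩ := List.any_eq_true.mp h
    refine ⟨w, ?_⟩
    rw [code_injective (beq_iff_eq.mp hw)]
    simp only [map_mul, map_inv, e.map_bp, bp_false, one_mul]
  π_mem := ⟨π, rfl⟩
  π_d := by
    have := congrArg e.ι H.π_d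
    simpa only [map_mul, map_inv] using this
  π_dz := by
    have := congrArg e.ι H.π_dz
    simpa only [map_mul, map_inv] using this
  π_s := by
    have := congrArg e.ι H.π_s
    simpa only [map_mul, map_inv] using this

/-- Both frames. -/
theorem frame [Finite G] {s d v ρ π ρ' π' : Perm (Fin n)} (F : Facts s d v)
    (H : HalfFacts s d v ρ π)
    (H' : HalfFacts (s * (d * v * (d * v))) (v * s) (d * s) ρ' π') :
    Frame t e.ι.range (e.ι s) (e.ι d) (e.ι v) := by
  refine ⟨e.base F, ⟨_, _, e.half H (e.base F)⟩, ⟨e.ι ρ', e.ι π', ?_⟩⟩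
  have hB := (e.base F).mirror
  have h := e.half H' (by simpa only [map_mul] using hB)
  simpa only [map_mul] using h

/-- Twisting by the sign character. -/
def twist : Emb t n where
  ι :=
    { toFun := fun p => bp (decide (Perm.sign p = -1)) t * e.ι p
      map_one' := by simp
      map_mul' := fun p q => by
        have h : decide (Perm.sign (p * q) = -1) =
            xor (decide (Perm.sign p = -1)) (decide (Perm.sign q = -1)) := by
          rw [map_mul]
          rcases Int.units_eq_one_or (Perm.sign p) with h | h <;>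
            rcases Int.units_eq_one_or (Perm.sign q) with h' | h' <;> rw [h, h'] <;> decide
        rw [h, ← bp_mul_bp e.sq, map_mul]
        calc bp (decide (Perm.sign p = -1)) t * bp (decide (Perm.sign q = -1)) t * (e.ι p * e.ι q)
            = bp (decide (Perm.sign p = -1)) t *
                (bp (decide (Perm.sign q = -1)) t * e.ι p) * e.ι q := by group
          _ = _ := by rw [(e.bp_comm_ι _ p).eq]; group }
  injective := fun p q h => (e.pair_inj h).2
  comm := fun p => e.pair_t _ p
  ne := fun p h => by
    have := e.pair_inj (b := true) (q := 1) (h.trans (by simp))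
    rw [this.2] at this
    simp at this
  sq := e.sq
  cover := fun x hx => by
    obtain ⟨a, p, rfl⟩ := e.exists_pair hx
    refine ⟨p, ?_⟩
    show _ = bp (decide (Perm.sign p = -1)) t * e.ι p ∨
      _ = t * (bp (decide (Perm.sign p = -1)) t * e.ι p)
    cases a <;> cases decide (Perm.sign p = -1) <;>
      simp [← mul_assoc, e.sq]

end Emb

/-- The copy of `Sym(n)` given by an isomorphism of the centraliser. -/
theorem exists_emb {t : G} (ht : orderOf t = 2) (hn : 3 ≤ n)
    (φ : Subgroup.centralizer ({t} : Set G) ≃* Multiplicative (ZMod 2) × Perm (Fin n)) :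
    Nonempty (Emb t n) := by
  set C := Subgroup.centralizer ({t} : Set G)
  have htC : t ∈ C := Subgroup.mem_centralizer_singleton_iff.mpr rfl
  have hcent : Subgroup.center (Perm (Fin n)) = ⊥ := by
    rw [Subgroup.eq_bot_iff_forall]
    intro p hp
    by_contra hne
    obtain ⟨i, hi⟩ : ∃ i, p i ≠ i := by
      by_contra h; push Not at h; exact hne (Equiv.ext h)
    obtain ⟨j, hj⟩ : ∃ j, j ∉ ({i, p i} : Finset (Fin n)) := by
      by_contra h
      push Not at h
      have hc := Finset.card_le_card (s := (Finset.univ : Finset (Fin n)))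
        (t := {i, p i}) (fun x _ => h x)
      have h2 := Finset.card_le_two (a := i) (b := p i)
      simp only [Finset.card_univ, Fintype.card_fin] at hc
      omega
    have h := Subgroup.mem_center_iff.mp hp (Equiv.swap (p i) j)
    have h' := Equiv.ext_iff.mp h i
    simp only [Perm.mul_apply, Equiv.swap_apply_left] at h'
    simp only [Finset.mem_insert, Finset.mem_singleton, not_or] at hj
    rw [Equiv.swap_apply_of_ne_of_ne (fun h => hi h.symm) (fun h => hj.1 h.symm)] at h'
    exact hj.2 h'
  have hφt : (φ ⟨t, htC⟩).2 = 1 := by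
    have hc : (φ ⟨t, htC⟩).2 ∈ Subgroup.center (Perm (Fin n)) := by
      rw [Subgroup.mem_center_iff]
      intro p
      have h : (φ.symm (1, p)) * ⟨t, htC⟩ = ⟨t, htC⟩ * φ.symm (1, p) :=
        Subtype.ext (Subgroup.mem_centralizer_singleton_iff.mp (φ.symm (1, p)).2)
      have h' := congrArg (fun x => (φ x).2) h
      simpa [map_mul] using h'
    rw [hcent, Subgroup.mem_bot] at hc
    exact hc
  have ht1 : t ≠ 1 := fun h => by rw [h, orderOf_one] at ht; omega
  have hφt1 : (φ ⟨t, htC⟩).1 ≠ 1 := fun h => ht1 (by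
    have : φ ⟨t, htC⟩ = 1 := Prod.ext h hφt
    exact congrArg Subtype.val (φ.injective (this.trans (map_one φ).symm)))
  refine ⟨{
    ι := C.subtype.comp (φ.symm.toMonoidHom.comp (MonoidHom.inr _ _))
    injective := fun p q h => by
      have := φ.symm.injective (Subtype.ext h)
      exact congrArg Prod.snd this
    comm := fun p => Subgroup.mem_centralizer_singleton_iff.mp (φ.symm (1, p)).2
    ne := fun p h => hφt1 (by
      have : φ.symm (1, p) = ⟨t, htC⟩ := Subtype.ext h
      rw [← this, φ.apply_symm_apply])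
    sq := by rw [← pow_two, ← ht, pow_orderOf_eq_one]
    cover := fun x hx => ?_ }⟩
  set y := φ ⟨x, Subgroup.mem_centralizer_singleton_iff.mpr hx⟩ with hy
  refine ⟨y.2, ?_⟩
  by_cases hy1 : y.1 = 1
  · left
    have : φ.symm (1, y.2) = ⟨x, Subgroup.mem_centralizer_singleton_iff.mpr hx⟩ := by
      rw [show ((1, y.2) : _ × Perm (Fin n)) = y from Prod.ext hy1.symm rfl, hy, φ.symm_apply_apply]
    exact (congrArg Subtype.val this).symm
  · right
    have h2 : ∀ a b : Multiplicative (ZMod 2), a ≠ 1 → b ≠ 1 → a = b := by decide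
    have : (⟨t, htC⟩ : C) * φ.symm (1, y.2) =
        ⟨x, Subgroup.mem_centralizer_singleton_iff.mpr hx⟩ := by
      apply φ.injective
      rw [map_mul, φ.apply_symm_apply, ← hy]
      exact Prod.ext (by simp [h2 _ _ hφt1 hy1]) (by simp [hφt])
    exact (congrArg Subtype.val this).symm

end CfsgLib.TwoTimesSym
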