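import Cfsg.Agent.Lib.Recognition.TwoTimesSym.Translations

/-!
# The cyclic case: an element inducing the four-cycle `t ↦ t s ↦ t z ↦ t c`

Such an element interchanges the two frames; the conjugates of `t` under `N(A₁)` are the four
elements `t w` with `w ∈ {1, z, s d, s d z}`, and a multiple `η` of its square centralises `T ∩ E`.
-/

set_option linter.unusedSectionVars false

namespace CfsgLib.TwoTimesSym

variable {G : Type*} [Group G] [Finite G] {t : G} {E : Subgroup G} {s d v : G}

omit [Finite G] in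
lemma conj_prod (g a b : G) : g * (a * b) * g⁻¹ = g * a * g⁻¹ * (g * b * g⁻¹) := by group

omit [Finite G] in
lemma conj_comp (g h x : G) : g * h * x * (g * h)⁻¹ = g * (h * x * h⁻¹) * g⁻¹ := by group

omit [Finite G] in
lemma conj_symm {g x x' : G} (h : g * x * g⁻¹ = x') : g⁻¹ * x' * g = x := by rw [← h]; group

omit [Finite G] in
lemma conj_of_commute {g x : G} (h : g * x = x * g) : g * x * g⁻¹ = x := by
  rw [h, mul_assoc, mul_inv_cancel, mul_one]

/-- An element of `N(T)` inducing `t ↦ t s ↦ t z` and interchanging `A₁` and `A₂`. -/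
structure Cyc (t s d v y : G) : Prop where
  norm : ∀ x ∈ Set.range (ev t s d v), y * x * y⁻¹ ∈ Set.range (ev t s d v)
  conj_t : y * t * y⁻¹ = t * s
  conj_ts : y * (t * s) * y⁻¹ = t * (d * v * (d * v))
  conj_z : y * (d * v * (d * v)) * y⁻¹ = d * v * (d * v)
  swap1 : ∀ x ∈ A1set t s d v, y * x * y⁻¹ ∈ A2set t s d v
  swap2 : ∀ x ∈ A2set t s d v, y * x * y⁻¹ ∈ A1set t s d v

/-- A multiple of the square of the cyclic element which centralises `s, d, v`. -/
structure Eta (t s d v y η : G) (a b : Bool) : Prop where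
  sq : η * η = ev t s d v (false, a, b, false, false)
  conj_t : η * t * η⁻¹ = t * (d * v * (d * v))
  conj_s : η * s * η⁻¹ = s
  conj_d : η * d * η⁻¹ = d
  conj_v : η * v * η⁻¹ = v
  conj_z : η * (d * v * (d * v)) * η⁻¹ = d * v * (d * v)
  y_sq : ∃ w : W5, w.1 = false ∧ y * y = ev t s d v w * η

namespace Base

variable (B : Base t E s d v)

include B

lemma cyc_s {y : G} (C : Cyc t s d v y) : y * s * y⁻¹ = s * (d * v * (d * v)) := by
  have e : s = t * (t * s) := by rw [← mul_assoc, B.t_sq, one_mul]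
  conv_lhs => rw [e]
  rw [conj_prod, C.conj_t, C.conj_ts, mul_assoc, ← mul_assoc s t, ← B.ts.eq, mul_assoc t s,
    ← mul_assoc t t, B.t_sq, one_mul]

lemma cyc_c {y : G} (C : Cyc t s d v y) : y * (s * (d * v * (d * v))) * y⁻¹ = s := by
  rw [conj_prod, B.cyc_s C, C.conj_z, mul_assoc, B.z_sq, mul_one]

lemma cyc_tz {y : G} (C : Cyc t s d v y) :
    y * (t * (d * v * (d * v))) * y⁻¹ = t * (s * (d * v * (d * v))) := by
  rw [conj_prod, C.conj_t, C.conj_z, mul_assoc]

lemma cyc_tc {y : G} (C : Cyc t s d v y) : y * (t * (s * (d * v * (d * v)))) * y⁻¹ = t := by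
  rw [← mul_assoc t s, conj_prod, C.conj_ts, C.conj_z, mul_assoc, B.z_sq, mul_one]

/-- An element of `N(T)` with `t ↦ t s ↦ t z` interchanges `A₁` and `A₂`. -/
theorem exists_cyc {ρ π ρ' π' : G} (H : Half t E s d v ρ π)
    (H' : Half t E (s * (d * v * (d * v))) (v * s) (d * s) ρ' π') {y : G}
    (hy : ∀ x ∈ B.T, y * x * y⁻¹ ∈ B.T) (hyt : y * t * y⁻¹ = t * s)
    (hyts : y * (t * s) * y⁻¹ = t * (d * v * (d * v))) : Cyc t s d v y := by
  have hyz := B.normalizer_fix_z hy
  set z := d * v * (d * v) with hz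
  have hmap : ∀ A : Subgroup G, A ≤ B.T → Nat.card A = 16 → (∀ a ∈ A, a * a = 1) →
      A.map (MulAut.conj y).toMonoidHom = B.A1 ∨ A.map (MulAut.conj y).toMonoidHom = B.A2 := by
    intro A hle hc hsq
    refine B.eq_A1_or_A2 ?_ ?_ ?_
    · rintro _ ⟨a, ha, rfl⟩; exact hy a (hle ha)
    · rw [Nat.card_congr (Subgroup.equivMapOfInjective _ _
        (MulAut.conj y).injective).symm.toEquiv, hc]
    · rintro _ ⟨a, ha, rfl⟩; rw [← map_mul, hsq a ha, map_one]
  have h1 := hmap _ B.A1_le_T B.card_A1 fun a ha => B.A1_sq ha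
  have h2 := hmap _ B.A2_le_T B.card_A2 fun a ha => B.A2_sq ha
  have hinj : Function.Injective (Subgroup.map (MulAut.conj y).toMonoidHom) :=
    Subgroup.map_injective (MulAut.conj y).injective
  have hne : B.A1 ≠ B.A2 := fun h => by
    have hd : ev t s d v (false, false, false, true, false) ∈ B.A2 := h ▸ B.ev_mem_A1.mpr rfl
    exact Bool.noConfusion (B.ev_mem_A2.mp hd)
  have hnot : B.A2.map (MulAut.conj y).toMonoidHom ≠ B.A2 := by
    intro h
    set u := y⁻¹ * v * y with hu
    have huv : y * u * y⁻¹ = v := by rw [hu]; group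
    have hvA : v ∈ B.A2 := by
      have := (B.ev_mem_A2 (w := (false, false, false, false, true))).mpr rfl
      rwa [ev_v] at this
    have huA : u ∈ B.A2 := by
      rw [← h] at hvA
      obtain ⟨a, ha, e⟩ := hvA
      have e' : y * a * y⁻¹ = v := e
      have : u = a := by rw [hu, conj_symm e']
      rwa [this]
    have hD := conj_mem_comm_pair (g := y⁻¹) (x := t) (y := t * s)
      (by rw [centralizer_pair_mul]; exact H.v_comm)
    have e1 : y⁻¹ * t * y⁻¹⁻¹ = t * (s * z) := by
      have h' : y * (t * (s * z)) * y⁻¹ = t := by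
        rw [← mul_assoc t s, conj_prod, hyts, hyz, mul_assoc, hz, B.z_sq, mul_one]
      rw [inv_inv, conj_symm h']
    have e2 : y⁻¹ * (t * s) * y⁻¹⁻¹ = t := by rw [inv_inv, conj_symm hyt]
    rw [e1, e2, centralizer_pair_comm, centralizer_pair_mul, inv_inv, ← hu] at hD
    obtain ⟨w, hw, huw⟩ := B.mem_A2.mp huA
    have hum : u ∈ Set.range (ev t (s * z) (v * s) (d * s)) := by
      rw [hz, B.range_mirror]; exact ⟨w, huw⟩
    obtain ⟨w', hw'⟩ := hum
    obtain ⟨f1, f2, f3⟩ := H'.comm_T w' (hw' ▸ hD)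
    rw [hz, B.ev_mirror, ← huw] at hw'
    have hww := B.ev_inj hw'
    obtain ⟨a, m, n, e, g⟩ := w'
    simp only at f1 f2 f3
    subst f1 f2 f3
    have hg : g = false := by
      have := congrArg (fun w : W5 => w.2.2.2.1) hww
      simpa [W5.mirror, show w.2.2.2.1 = false from hw] using this
    subst hg
    have hz' : u = bp n z := by
      rw [← huw, ← hww]; cases n <;> simp [W5.mirror, ev, ← hz]
    rw [hz'] at huv
    have : ev t s d v (false, false, n, false, false) = ev t s d v (false, false, false, false, true) := by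
      rw [ev_v]
      calc ev t s d v (false, false, n, false, false) = bp n z := by
            cases n <;> simp [ev, ← hz]
        _ = v := by rw [← huv]; cases n <;> simp [hyz]
    exact absurd (congrArg (fun w : W5 => w.2.2.2.2) (B.ev_inj this)) (by simp)
  have h2' : B.A2.map (MulAut.conj y).toMonoidHom = B.A1 := h2.resolve_right hnot
  have h1' : B.A1.map (MulAut.conj y).toMonoidHom = B.A2 :=
    h1.resolve_left fun h => hne (hinj (h.trans h2'.symm))
  refine ⟨fun x hx => B.mem_T.mp (hy x (B.mem_T.mpr hx)), hyt, hyts, hyz, fun x hx => ?_,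
    fun x hx => ?_⟩
  · rw [← B.mem_A2, ← h1']; exact ⟨x, B.mem_A1.mpr hx, rfl⟩
  · rw [← B.mem_A1, ← h2']; exact ⟨x, B.mem_A2.mpr hx, rfl⟩

lemma cyc_sq_A1 {y : G} (C : Cyc t s d v y) :
    y * y ∈ Subgroup.normalizer (B.A1 : Set G) := by
  rw [Subgroup.mem_normalizer_iff]
  refine fun u => conj_mem_iff (fun x hx => ?_) u
  rw [conj_comp, B.mem_A1]
  exact C.swap2 _ (C.swap1 _ (B.mem_A1.mp hx))

/-- The inverse is cyclic for the mirrored frame. -/
theorem cyc_mirror {y : G} (C : Cyc t s d v y) :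
    Cyc t (s * (d * v * (d * v))) (v * s) (d * s) y⁻¹ := by
  have hTiff : ∀ x, x ∈ B.T ↔ y * x * y⁻¹ ∈ B.T := fun x => conj_mem_iff
    (fun u hu => B.mem_T.mpr (C.norm u (B.mem_T.mp hu))) x
  have hnorm : ∀ x ∈ B.T, y⁻¹ * x * y ∈ B.T := fun x hx =>
    (hTiff _).mpr (by convert hx using 1; group)
  have h1 := B.cyc_sq_A1 C
  rw [Subgroup.mem_normalizer_iff] at h1
  have h2 : ∀ x, x ∈ B.A2 ↔ (y * y) * x * (y * y)⁻¹ ∈ B.A2 := fun x => conj_mem_iff
    (fun u hu => by
      rw [conj_comp, B.mem_A2]; exact C.swap1 _ (C.swap2 _ (B.mem_A2.mp hu))) x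
  refine ⟨fun x hx => ?_, ?_, ?_, ?_, fun x hx => ?_, fun x hx => ?_⟩
  · rw [B.range_mirror] at hx ⊢
    rw [inv_inv]; exact B.mem_T.mp (hnorm x (B.mem_T.mpr hx))
  · rw [inv_inv, conj_symm (B.cyc_tc C)]
  · rw [inv_inv, B.z_mirror, conj_symm (B.cyc_tz C)]
  · rw [inv_inv, B.z_mirror, conj_symm C.conj_z]
  · rw [B.A1set_mirror] at hx
    rw [B.A2set_mirror, inv_inv, ← B.mem_A1]
    refine (h1 _).mpr ?_
    show y * y * (y⁻¹ * x * y) * (y * y)⁻¹ ∈ B.A1
    rw [show y * y * (y⁻¹ * x * y) * (y * y)⁻¹ = y * x * y⁻¹ by group]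
    exact B.mem_A1.mpr (C.swap2 x hx)
  · rw [B.A2set_mirror] at hx
    rw [B.A1set_mirror, inv_inv, ← B.mem_A2]
    refine (h2 _).mpr ?_
    rw [show y * y * (y⁻¹ * x * y) * (y * y)⁻¹ = y * x * y⁻¹ by group]
    exact B.mem_A2.mpr (C.swap1 x hx)

/-- `N(A₁)` does not map `t` to `t s` or to `t c`. -/
theorem not_orbit_A1 (cn1 : CentNorm t (A1set t s d v)) (cn2 : CentNorm t (A2set t s d v))
    {y : G} (C : Cyc t s d v y) {n x : G} (hn : n ∈ Subgroup.normalizer (B.A1 : Set G))
    (hx : x = t * s ∨ x = t * (s * (d * v * (d * v)))) : n * t * n⁻¹ ≠ x := by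
  intro hnt
  have hxK : IsConj t x := hnt ▸ (isConj_conj t t n).mpr (IsConj.refl t)
  have hxw : ∃ m : Bool, x = ev t s d v (true, true, m, false, false) := by
    rcases hx with rfl | rfl
    · exact ⟨false, by simp [ev]⟩
    · exact ⟨true, by simp [ev, mul_assoc]⟩
  obtain ⟨mx, hxw⟩ := hxw
  have hxA : x ∈ B.A1 := hxw ▸ B.ev_mem_A1.mpr rfl
  set D : Subgroup G := Subgroup.normalizer (B.A1 : Set G) ⊓ Subgroup.centralizer ({x} : Set G)
    with hD
  have hDc : Nat.card D = 96 := by
    rw [← (B.elem16 cn1 cn2 hxK (fun a ha => B.A1_mul_comm ha hxA) B.card_A1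
      (fun a ha => B.A1_sq ha)).2, ← SetLike.coe_sort_coe, Nat.card_coe_set_eq]
    congr 1
    ext u
    simp [hD, Subgroup.mem_normalizer_iff, Subgroup.mem_centralizer_singleton_iff, and_comm]
  have hT1 : B.T ≤ D := by
    intro u hu
    obtain ⟨w, rfl⟩ := B.mem_T.mp hu
    refine ⟨Subgroup.mem_normalizer_iff.mpr fun a => conj_mem_iff (fun b hb => ?_) a, ?_⟩
    · obtain ⟨w', hw', rfl⟩ := B.mem_A1.mp hb
      rw [B.ev_conj]
      refine B.ev_mem_A1.mpr ?_
      have hw'' : w'.2.2.2.2 = false := hw'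
      simp [W5.mul, W5.inv, hw'']
    · show _ ∈ Subgroup.centralizer ({x} : Set G)
      rw [Subgroup.mem_centralizer_singleton_iff, hxw, B.ev_mul, B.ev_mul]
      congr 1
      clear hxw hu hxA hnt
      revert mx w; decide
  set T' : Subgroup G := B.T.map (MulAut.conj n).toMonoidHom with hT'
  have hT2 : T' ≤ D := by
    rintro _ ⟨u, hu, rfl⟩
    show n * u * n⁻¹ ∈ D
    refine ⟨?_, ?_⟩
    · exact Subgroup.mul_mem _ (Subgroup.mul_mem _ hn (hT1 hu).1) (Subgroup.inv_mem _ hn)
    · show _ ∈ Subgroup.centralizer ({x} : Set G)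
      rw [Subgroup.mem_centralizer_singleton_iff, ← hnt]
      calc n * u * n⁻¹ * (n * t * n⁻¹) = n * (u * t) * n⁻¹ := by group
        _ = n * (t * u) * n⁻¹ := by
            rw [Subgroup.mem_centralizer_singleton_iff.mp (B.T_le hu)]
        _ = _ := by group
  have : Fact (Nat.Prime 2) := ⟨Nat.prime_two⟩
  have hcard : ∀ P : Subgroup G, P ≤ D → Nat.card P = 32 →
      Nat.card (P.subgroupOf D) = 2 ^ (Nat.card D).factorization 2 := by
    intro P hP hc
    rw [Nat.card_congr (Subgroup.subgroupOfEquivOfLe hP).toEquiv, hc, hDc,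
      show (96 : ℕ) = 2 ^ 5 * 3 by norm_num, Nat.factorization_mul (by norm_num) (by norm_num),
      Nat.Prime.factorization_pow Nat.prime_two]
    simp [Nat.factorization_eq_zero_of_not_dvd (show ¬ 2 ∣ 3 by norm_num)]
  let S1 : Sylow 2 D := Sylow.ofCard (T'.subgroupOf D) (hcard T' hT2 (by
    rw [hT', Nat.card_congr (Subgroup.equivMapOfInjective _ _
      (MulAut.conj n).injective).symm.toEquiv, B.card_T]))
  let S2 : Sylow 2 D := Sylow.ofCard (B.T.subgroupOf D) (hcard B.T hT1 B.card_T)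
  obtain ⟨h, hh⟩ := MulAction.exists_smul_eq D S1 S2
  have hnorm : ∀ u ∈ B.T, (h.1 * n) * u * (h.1 * n)⁻¹ ∈ B.T := by
    intro u hu
    rw [conj_comp]
    have hu' : n * u * n⁻¹ ∈ D := hT2 ⟨u, hu, rfl⟩
    have h1 : (⟨n * u * n⁻¹, hu'⟩ : D) ∈ (S1 : Subgroup D) := ⟨u, hu, rfl⟩
    have h2 : h * ⟨n * u * n⁻¹, hu'⟩ * h⁻¹ ∈ (S2 : Subgroup D) := by
      rw [← hh, Sylow.coe_subgroup_smul]
      exact ⟨⟨n * u * n⁻¹, hu'⟩, h1, rfl⟩
    exact h2
  set k := h.1 * n with hk
  have hkA : k ∈ Subgroup.normalizer (B.A1 : Set G) := Subgroup.mul_mem _ h.2.1 hn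
  have hkt : k * t * k⁻¹ = x := by
    rw [hk, conj_comp, hnt]
    exact conj_of_commute (Subgroup.mem_centralizer_singleton_iff.mp h.2.2)
  have hyT : ∀ u ∈ B.T, y * u * y⁻¹ ∈ B.T := fun u hu => B.mem_T.mpr (C.norm u (B.mem_T.mp hu))
  have hyT' : ∀ u ∈ B.T, y⁻¹ * u * y⁻¹⁻¹ ∈ B.T := fun u hu =>
    (conj_mem_iff hyT _).mpr (by convert hu using 1; group)
  -- `d` lies in `A₁` but its image does not
  have hd1 : ev t s d v (false, false, false, true, false) ∈ B.A1 := B.ev_mem_A1.mpr rfl
  have hd2 : ev t s d v (false, false, false, true, false) ∉ B.A2 := fun h =>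
    Bool.noConfusion (B.ev_mem_A2.mp h)
  have finish : ∀ g : G, (∀ u ∈ B.A1, g * u * g⁻¹ ∈ B.A2) → (g⁻¹ * k) * t = t * (g⁻¹ * k) →
      (∀ u ∈ B.T, (g⁻¹ * k) * u * (g⁻¹ * k)⁻¹ ∈ B.T) → False := by
    intro g hg hc hnm
    have hu := B.normalizer_T hc hnm
    obtain ⟨a, ha, hda⟩ : ∃ a ∈ B.A1, k * a * k⁻¹ =
        ev t s d v (false, false, false, true, false) :=
      ⟨k⁻¹ * ev t s d v (false, false, false, true, false) * k,
        (Subgroup.mem_normalizer_iff.mp hkA _).mpr (by convert hd1 using 1; group), by group⟩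
    apply hd2
    rw [← hda, show k * a * k⁻¹ = g * ((g⁻¹ * k) * a * (g⁻¹ * k)⁻¹) * g⁻¹ by group]
    exact hg _ ((Subgroup.mem_normalizer_iff.mp (hT1 hu).1 a).mp ha)
  rcases hx with hx | hx
  · refine finish y (fun u hu => B.mem_A2.mpr (C.swap1 u (B.mem_A1.mp hu))) ?_ ?_
    · refine commute_of_conj ?_
      rw [conj_comp, hkt, hx, inv_inv, conj_symm C.conj_t]
    · intro u hu
      rw [conj_comp]; exact hyT' _ (hnorm u hu)
  · refine finish y⁻¹ (fun u hu => ?_) ?_ ?_
    · have := (B.cyc_mirror C).swap2 u (by rw [B.A2set_mirror]; exact B.mem_A1.mp hu)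
      rw [B.A1set_mirror] at this
      exact B.mem_A2.mpr this
    · refine commute_of_conj ?_
      rw [inv_inv, conj_comp, hkt, hx, B.cyc_tc C]
    · intro u hu
      rw [inv_inv, conj_comp]; exact hyT _ (hnorm u hu)

/-- The orbit of `t` under `N(A₁)` lies in `t {1, z, s d, s d z}`. -/
theorem orbit_even (hF : Four t E) (cn1 : CentNorm t (A1set t s d v))
    (cn2 : CentNorm t (A2set t s d v)) {ρ π : G} (H : Half t E s d v ρ π)
    {y : G} (C : Cyc t s d v y) {n : G} (hn : n ∈ Subgroup.normalizer (B.A1 : Set G)) :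
    ∃ m k, n * t * n⁻¹ = ev t s d v (true, m, k, m, false) := by
  have htA : t ∈ B.A1 := by
    have h := (B.ev_mem_A1 (w := (true, false, false, false, false))).mpr rfl
    rwa [ev_t] at h
  obtain ⟨⟨a, m, k, e, f⟩, hw, hnt⟩ :=
    B.mem_A1.mp ((Subgroup.mem_normalizer_iff.mp hn t).mp htA)
  obtain rfl : f = false := hw
  obtain rfl : a = true := ((B.isConj_ev_four hF _).mp
    (hnt ▸ (isConj_conj t t n).mpr (IsConj.refl t))).1
  have hπ := B.π_mem_normalizer H
  have hts : t * s = ev t s d v (true, true, false, false, false) := by simp [ev]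
  have hπ1 : π⁻¹ * ev t s d v (true, false, false, true, false) * π = t * s := by
    rw [hts]; refine conj_symm ?_; rw [B.π_ev H]; rfl
  have hπ2 : π⁻¹ * ev t s d v (true, false, true, true, false) * π =
      ev t s d v (true, false, false, true, false) := by
    refine conj_symm ?_; rw [B.π_ev H]; rfl
  cases m <;> cases e
  · exact ⟨false, k, hnt.symm⟩
  · exfalso
    cases k
    · refine B.not_orbit_A1 cn1 cn2 C (Subgroup.mul_mem _ (Subgroup.inv_mem _ hπ) hn) (.inl rfl) ?_
      rw [conj_comp, ← hnt, inv_inv, hπ1]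
    · refine B.not_orbit_A1 cn1 cn2 C (Subgroup.mul_mem _ (Subgroup.inv_mem _ hπ)
        (Subgroup.mul_mem _ (Subgroup.inv_mem _ hπ) hn)) (.inl rfl) ?_
      rw [conj_comp, conj_comp, ← hnt, inv_inv, hπ2, hπ1]
  · exfalso
    cases k
    · exact B.not_orbit_A1 cn1 cn2 C hn (.inl hts.symm) (by rw [← hnt, ← hts])
    · exact B.not_orbit_A1 cn1 cn2 C hn (.inr rfl) (by rw [← hnt]; simp [ev, mul_assoc])
  · exact ⟨true, k, hnt.symm⟩

/-- The square of the cyclic element fixes `{d, d z}`. -/
theorem cyc_sq_d (hF : Four t E) (cn1 : CentNorm t (A1set t s d v))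
    (cn2 : CentNorm t (A2set t s d v)) {ρ π : G} (H : Half t E s d v ρ π)
    {y : G} (C : Cyc t s d v y) :
    ∃ l : Bool, y * y * d * (y * y)⁻¹ = d * bp l (d * v * (d * v)) := by
  have hy2 := B.cyc_sq_A1 C
  have hπ := B.π_mem_normalizer H
  set g := y * y with hg
  have hgt : g * t * g⁻¹ = ev t s d v (true, false, true, false, false) := by
    rw [hg, conj_comp, C.conj_t, C.conj_ts]; simp [ev]
  have hgs : g * s * g⁻¹ = s := by rw [hg, conj_comp, B.cyc_s C, B.cyc_c C]
  have hgz : g * (d * v * (d * v)) * g⁻¹ = d * v * (d * v) := by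
    rw [hg, conj_comp, C.conj_z, C.conj_z]
  have hd1 : d ∈ B.A1 := by
    have h := (B.ev_mem_A1 (w := (false, false, false, true, false))).mpr rfl
    rwa [ev_d] at h
  obtain ⟨⟨a, m', k', e, f⟩, hw, hgd⟩ :=
    B.mem_A1.mp ((Subgroup.mem_normalizer_iff.mp hy2 d).mp hd1)
  obtain rfl : f = false := hw
  obtain ⟨m, k, hm⟩ := B.orbit_even hF cn1 cn2 H C
    (Subgroup.mul_mem _ hy2 (Subgroup.mul_mem _ (Subgroup.mul_mem _ hπ hπ) hy2))
  have hval : g * (π * π * g) * t * (g * (π * π * g))⁻¹ =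
      ev t s d v (true, false, true, false, false) * ev t s d v (false, true, false, false, false) *
        ev t s d v (a, m', k', e, false) := by
    rw [conj_comp, conj_comp (π * π), hgt, conj_comp π π, B.π_ev H, B.π_ev H]
    show g * ev t s d v (true, true, false, true, false) * g⁻¹ = _
    rw [show ev t s d v (true, true, false, true, false) = t * s * d by simp [ev],
      conj_prod, conj_prod, hgt, hgs, ← hgd, ev_s]
  rw [hval, B.ev_mul, B.ev_mul] at hm
  have hmw := B.ev_inj hm
  obtain ⟨rfl, hme⟩ : a = false ∧ e = !m' := by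
    revert hmw; clear * -; revert a m' k' e m k; decide
  cases m'
  · obtain rfl : e = true := hme
    refine ⟨k', ?_⟩
    rw [← hgd]
    cases k' <;> simp [ev, B.dz.eq]
  · exfalso
    obtain rfl : e = false := hme
    have h1 : g * d * g⁻¹ = g * ev t s d v (false, true, k', false, false) * g⁻¹ := by
      rw [← hgd]
      cases k'
      · simp [ev, hgs]
      · simp only [ev, bp_true, bp_false, one_mul, mul_one]
        rw [conj_prod, hgs, hgz]
    have h2 : d = ev t s d v (false, true, k', false, false) :=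
      (MulAut.conj g).injective (by simpa using h1)
    exact absurd (congrArg (fun w : W5 => w.2.2.2.1) (B.ev_inj (ev_d.trans h2))) (by simp)

/-- The element `η`. -/
theorem exists_eta (hF : Four t E) {ρ π ρ' π' : G} (H : Half t E s d v ρ π)
    (H' : Half t E (s * (d * v * (d * v))) (v * s) (d * s) ρ' π') {y : G}
    (C : Cyc t s d v y) : ∃ η a b, Eta t s d v y η a b := by
  obtain ⟨l, hl⟩ := B.cyc_sq_d hF H.cn (B.A1set_mirror ▸ H'.cn) H C
  obtain ⟨l', hl'⟩ := B.mirror.cyc_sq_d hF H'.cn (B.A2set_mirror.symm ▸ H.cn) H' (B.cyc_mirror C)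
  rw [B.z_mirror] at hl'
  set z := d * v * (d * v) with hz
  have hgz : y * y * z * (y * y)⁻¹ = z := by rw [conj_comp, C.conj_z, C.conj_z]
  have hgs : y * y * s * (y * y)⁻¹ = s := by rw [conj_comp, B.cyc_s C, B.cyc_c C]
  have hbz : ∀ b : Bool, y * y * bp b z * (y * y)⁻¹ = bp b z := by
    intro b; cases b <;> simp only [bp_false, bp_true, hgz]
    group
  have hzz : ∀ b : Bool, bp b z * bp b z = 1 := fun b => by
    rw [bp_mul_bp (hz ▸ B.z_sq)]; simp
  have hv2 : y * y * v * (y * y)⁻¹ = v * bp l' z := by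
    have h1 : y * y * (v * s * bp l' z) * (y * y)⁻¹ = v * s := by
      rw [← hl']; group
    rw [conj_prod, conj_prod, hgs, hbz] at h1
    refine mul_right_cancel (b := s * bp l' z) ?_
    rw [← mul_assoc, h1]
    have hc : Commute s (bp l' z) := by
      cases l'
      · simp
      · exact hz ▸ B.sz
    calc v * s = v * s * (bp l' z * bp l' z) := by rw [hzz, mul_one]
      _ = v * (s * bp l' z) * bp l' z := by group
      _ = v * (bp l' z * s) * bp l' z := by rw [hc.eq]
      _ = _ := by group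
  set u := ev t s d v (false, false, false, l', l) with hu
  set η := y * y * u with hη
  have hηt : η * t * η⁻¹ = t * z := by
    rw [hη, conj_comp (y * y), conj_of_commute (B.commute_ev _).symm.eq, conj_comp, C.conj_t,
      C.conj_ts]
  have hus : u * s * u⁻¹ = s := by
    conv_lhs => rw [hu, ← ev_s (t := t) (s := s) (d := d) (v := v)]
    simp only [ev_s]
    have := B.ev_conj (false, false, false, l', l) (false, true, false, false, false)
    rw [ev_s] at this
    rw [this]
    refine Eq.trans (congrArg _ ?_) ev_s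
    clear * - l l'; revert l l'; decide
  have hηs : η * s * η⁻¹ = s := by rw [hη, conj_comp (y * y), hus, hgs]
  have hud : u * d * u⁻¹ = d * bp l z := by
    have := B.ev_conj (false, false, false, l', l) (false, false, false, true, false)
    rw [ev_d] at this
    rw [hu, this, show d * bp l z =
      ev t s d v (false, false, false, true, false) * ev t s d v (false, false, l, false, false) by
        simp [ev, ← hz], B.ev_mul]
    congr 1
    clear * - l l'; revert l l'; decide
  have huv : u * v * u⁻¹ = v * bp l' z := by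
    have := B.ev_conj (false, false, false, l', l) (false, false, false, false, true)
    rw [ev_v] at this
    rw [hu, this, show v * bp l' z =
      ev t s d v (false, false, false, false, true) * ev t s d v (false, false, l', false, false) by
        simp [ev, ← hz], B.ev_mul]
    congr 1
    clear * - l l'; revert l l'; decide
  have hηd : η * d * η⁻¹ = d := by
    rw [hη, conj_comp (y * y), hud, conj_prod, hl, hbz, mul_assoc, hzz, mul_one]
  have hηv : η * v * η⁻¹ = v := by
    rw [hη, conj_comp (y * y), huv, conj_prod, hv2, hbz, mul_assoc, hzz, mul_one]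
  have hηz : η * z * η⁻¹ = z := by
    rw [hz, conj_prod, conj_prod, hηd, hηv]
  have hηT : ∀ x ∈ B.T, η * x * η⁻¹ ∈ B.T := by
    refine B.normalize_of_gens ?_ ?_ ?_ ?_
    · rw [hηt]; exact B.mem_T.mpr ⟨(true, false, true, false, false), by simp [ev, ← hz]⟩
    · rw [hηs]; exact B.s_mem_T
    · rw [hηd]; exact B.d_mem_T
    · rw [hηv]; exact B.v_mem_T
  have hη2t : η * η * t * (η * η)⁻¹ = t := by
    rw [conj_comp, hηt, conj_prod, hηt, hηz, mul_assoc, hz, B.z_sq, mul_one]
  obtain ⟨⟨a', m, n, e, f⟩, hw⟩ := B.mem_T.mp (B.normalizer_T (commute_of_conj hη2t)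
    (fun x hx => by rw [conj_comp]; exact hηT _ (hηT x hx)))
  have hd' : η * η * d * (η * η)⁻¹ = d := by rw [conj_comp, hηd, hηd]
  have hv' : η * η * v * (η * η)⁻¹ = v := by rw [conj_comp, hηv, hηv]
  rw [← hw, ← ev_d (t := t) (s := s) (d := d) (v := v)] at hd'
  rw [← hw, ← ev_v (t := t) (s := s) (d := d) (v := v)] at hv'
  simp only [ev_d, ev_v] at hd' hv'
  have hd'' := B.ev_conj (a', m, n, e, f) (false, false, false, true, false)
  have hv'' := B.ev_conj (a', m, n, e, f) (false, false, false, false, true)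
  rw [ev_d, hd', ← ev_d (t := t) (s := s) (d := d) (v := v)] at hd''
  rw [ev_v, hv', ← ev_v (t := t) (s := s) (d := d) (v := v)] at hv''
  simp only [ev_d] at hd''
  simp only [ev_v] at hv''
  obtain ⟨rfl, rfl⟩ : e = false ∧ f = false := by
    have h1 := B.ev_inj ((ev_d (t := t) (s := s) (d := d) (v := v)).trans hd'')
    have h2 := B.ev_inj ((ev_v (t := t) (s := s) (d := d) (v := v)).trans hv'')
    revert h1 h2; clear * -; revert a' m n e f; decide
  obtain rfl : a' = false := by
    by_contra ha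
    have ha : a' = true := by simpa using ha
    subst ha
    have h1 : η * (η * η) * η⁻¹ = η * η := by group
    rw [← hw] at h1
    rw [B.conj_word, hηt, hηs, hηz] at h1
    simp only [bp_true, bp_false, mul_one] at h1
    rw [show t * z = ev t s d v (true, false, true, false, false) by simp [ev, ← hz],
      show bp m s = ev t s d v (false, m, false, false, false) by cases m <;> simp [ev],
      show bp n z = ev t s d v (false, false, n, false, false) by cases n <;> simp [ev, ← hz],
      B.ev_mul, B.ev_mul] at h1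
    have h2 := congrArg (fun w : W5 => w.2.2.1) (B.ev_inj h1)
    revert h2; clear * -; revert m n; decide
  refine ⟨η, m, n, hw.symm, hηt, hηs, hηd, hηv, hηz,
    W5.inv (false, false, false, l', l), rfl, ?_⟩
  have hcm : η * u⁻¹ = u⁻¹ * η := by
    refine commute_of_conj ?_
    rw [show η * u⁻¹ * η⁻¹ = (η * u * η⁻¹)⁻¹ by group]
    congr 1
    rw [hu, B.conj_word, hηt, hηs, hηd, hηv, hηz]
    rfl
  rw [← B.ev_inv, ← hu, ← hcm, hη]
  group

end Base

end CfsgLib.TwoTimesSym
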