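import Cfsg.Agent.Lib.Recognition.TwoTimesSym.CyclicTwelve

/-!
# The four classes of conjugates of `t` in `⟨T, η⟩` when `η` is an involution
-/

set_option linter.unusedSectionVars false
set_option synthInstance.maxSize 1000

namespace CfsgLib.TwoTimesSym

namespace W6

/-- A word in the class `p`. -/
def cls (p : Bool × Bool) (m n : Bool) : W6 := ((true, m, n, p.1, p.2), p.1 && p.2)

lemma cls_inj {p q : Bool × Bool} {m n m' n' : Bool} (h : cls p m n = cls q m' n') : p = q := by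
  simp only [cls, Prod.mk.injEq] at h
  exact Prod.ext h.1.2.2.2.1 h.1.2.2.2.2

lemma mem_cls : ∀ w : W6, w.1.1 = true → isInv false false w = true →
    w = cls (w.1.2.2.2.1, w.1.2.2.2.2) w.1.2.1 w.1.2.2.1 := by decide +kernel

lemma cls_mem : ∀ (p : Bool × Bool) (m n : Bool),
    (cls p m n).1.1 = true ∧ isInv false false (cls p m n) = true := by decide +kernel

lemma center : ∀ w : W6, (∀ u ∈ [gt, gη, ((false, false, false, true, false), false),
    ((false, false, false, false, true), false)], mul false false w u = mul false false u w) →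
    w = cen w.1.2.1 w.1.2.2.1 := by decide +kernel

lemma cen_comm : ∀ (m n : Bool) (u : W6),
    mul false false (cen m n) u = mul false false u (cen m n) := by decide +kernel

lemma cls_cen : ∀ (p : Bool × Bool) (m n m' n' : Bool),
    mul false false (cls p m n) (cen m' n') = cls p (xor m m') (xor n n') := by decide +kernel

/-- Words without `t` are products of two class words, apart from one class. -/
lemma pair_cls : ∀ w : W6, w.1.1 = false →
    (w.1.2.2.2.1 || w.1.2.2.2.2 || !w.2) = true →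
    ∃ p q : Bool × Bool, ∃ m n : Bool, mul false false (cls p false false) (cls q m n) = w := by
  decide +kernel

/-- A word moved by exchanging opposite classes. -/
lemma pair_opp : ∀ w : W6, w.1.1 = false → w.1.2.2.2.1 ≠ w.1.2.2.2.2 →
    ∃ p q : Bool × Bool, ∃ m n : Bool, mul false false (cls p false false) (cls q m n) = w ∧
      xor (!p.1 && !p.2) (!q.1 && !q.2) ≠ w.2 := by
  decide +kernel

/-- A word which is odd in `t` and no involution is centralised by a class but not by the opposite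
one. -/
lemma odd_comm : ∀ w : W6, w.1.1 = true → isInv false false w = false →
    ∃ (p : Bool × Bool) (m n : Bool), mul false false w (cls p m n) = mul false false (cls p m n) w ∧
      ∀ m' n', mul false false w (cls (!p.1, !p.2) m' n') ≠
        mul false false (cls (!p.1, !p.2) m' n') w := by
  decide +kernel

end W6

variable {G : Type*} [Group G] [Finite G] {t : G} {E : Subgroup G} {s d v y η : G}

/-- Membership of a class. -/
def InCls (t s d v η : G) (p : Bool × Bool) (x : G) : Prop :=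
  ∃ m n, ev6 t s d v η (W6.cls p m n) = x

/-- An element maps one class into another by conjugation. -/
def Maps (t s d v η g : G) (p q : Bool × Bool) : Prop :=
  ∀ x, InCls t s d v η p x → InCls t s d v η q (g * x * g⁻¹)

omit [Finite G] in
lemma Maps.comp {g h : G} {p q r : Bool × Bool} (h1 : Maps t s d v η h p q)
    (h2 : Maps t s d v η g q r) : Maps t s d v η (g * h) p r := fun x hx => by
  rw [conj_comp]; exact h2 _ (h1 x hx)

omit [Finite G] in
lemma maps_one (p : Bool × Bool) : Maps t s d v η 1 p p := fun x hx => by simpa using hx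

omit [Finite G] in
lemma inCls_rep (p : Bool × Bool) :
    InCls t s d v η p (ev6 t s d v η (W6.cls p false false)) := ⟨false, false, rfl⟩

/-- The normaliser of `⟨T, η⟩`. -/
def Eta.N6 (Y : Eta t s d v y η false false) (B : Base t E s d v) : Subgroup G :=
  Subgroup.normalizer (Y.B6 B : Set G)

namespace Eta

variable (Y : Eta t s d v y η false false) (B : Base t E s d v)

include Y B

lemma mem_N6 {g : G} : g ∈ Y.N6 B ↔ ∀ x ∈ Y.B6 B, g * x * g⁻¹ ∈ Y.B6 B := by
  rw [N6, Subgroup.mem_normalizer_iff]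
  exact ⟨fun h x hx => (h x).mp hx, fun h x => conj_mem_iff h x⟩

lemma B6_le_N6 : Y.B6 B ≤ Y.N6 B := fun _ hb => (Y.mem_N6 B).mpr fun _ hx =>
  (Y.B6 B).mul_mem ((Y.B6 B).mul_mem hb hx) ((Y.B6 B).inv_mem hb)

lemma inCls_unique {p q : Bool × Bool} {x : G} (h1 : InCls t s d v η p x)
    (h2 : InCls t s d v η q x) : p = q := by
  obtain ⟨m, n, rfl⟩ := h1
  obtain ⟨m', n', h⟩ := h2
  exact (W6.cls_inj (Y.ev6_inj B h)).symm

lemma maps_unique {g : G} {p q r : Bool × Bool} (h1 : Maps t s d v η g p q)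
    (h2 : Maps t s d v η g p r) : q = r :=
  Y.inCls_unique B (h1 _ (inCls_rep p)) (h2 _ (inCls_rep p))

lemma conj_cen {g : G} (hg : g ∈ Y.N6 B) (m n : Bool) :
    ∃ m' n', g * ev6 t s d v η (W6.cen m n) * g⁻¹ = ev6 t s d v η (W6.cen m' n') := by
  obtain ⟨w, hw⟩ := (Y.mem_N6 B).mp hg _ (Y.ev6_mem_B6 B (W6.cen m n))
  refine ⟨w.1.2.1, w.1.2.2.1, ?_⟩
  rw [← W6.center w fun u _ => ?_, hw]
  obtain ⟨u', hu'⟩ := (Y.mem_N6 B).mp ((Y.N6 B).inv_mem hg) _ (Y.ev6_mem_B6 B u)
  rw [inv_inv] at hu'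
  refine Y.ev6_inj B ?_
  rw [← Y.ev6_mul B, ← Y.ev6_mul B, hw]
  have hc : ev6 t s d v η (W6.cen m n) * ev6 t s d v η u' =
      ev6 t s d v η u' * ev6 t s d v η (W6.cen m n) := by
    rw [Y.ev6_mul B, Y.ev6_mul B, W6.cen_comm]
  rw [hu'] at hc
  calc g * ev6 t s d v η (W6.cen m n) * g⁻¹ * ev6 t s d v η u
      = g * (ev6 t s d v η (W6.cen m n) * (g⁻¹ * ev6 t s d v η u * g)) * g⁻¹ := by group
    _ = g * (g⁻¹ * ev6 t s d v η u * g * ev6 t s d v η (W6.cen m n)) * g⁻¹ := by rw [hc]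
    _ = _ := by group

lemma isConj_inCls {p : Bool × Bool} {x : G}
    (hK : ∀ w : W6, IsConj t (ev6 t s d v η w) ↔
      w.1.1 = true ∧ W6.isInv false false w = true) (hx : InCls t s d v η p x) : IsConj t x := by
  obtain ⟨m, n, rfl⟩ := hx
  exact (hK _).mpr (W6.cls_mem p m n)

lemma exists_inCls (hK : ∀ w : W6, IsConj t (ev6 t s d v η w) ↔
      w.1.1 = true ∧ W6.isInv false false w = true) {x : G} (hx : x ∈ Y.B6 B)
    (hc : IsConj t x) : ∃ p, InCls t s d v η p x := by
  obtain ⟨w, rfl⟩ := hx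
  obtain ⟨h1, h2⟩ := (hK w).mp hc
  exact ⟨(w.1.2.2.2.1, w.1.2.2.2.2), w.1.2.1, w.1.2.2.1, by rw [← W6.mem_cls w h1 h2]⟩

variable (hK : ∀ w : W6, IsConj t (ev6 t s d v η w) ↔
  w.1.1 = true ∧ W6.isInv false false w = true)

include hK

lemma maps_of {g : G} (hg : g ∈ Y.N6 B) {p q : Bool × Bool} {x : G}
    (hx : InCls t s d v η p x) (hgx : InCls t s d v η q (g * x * g⁻¹)) :
    Maps t s d v η g p q := by
  rintro _ ⟨m', n', rfl⟩
  obtain ⟨m, n, rfl⟩ := hx
  obtain ⟨a, b, hab⟩ := Y.conj_cen B hg (xor m m') (xor n n')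
  obtain ⟨i, j, hij⟩ := hgx
  refine ⟨xor i a, xor j b, ?_⟩
  rw [← W6.cls_cen, ← Y.ev6_mul B, hij, ← hab, ← conj_prod, Y.ev6_mul B, W6.cls_cen]
  congr 3
  rw [← Bool.xor_assoc, ← Bool.xor_assoc]
  simp

lemma maps_total {g : G} (hg : g ∈ Y.N6 B) (p : Bool × Bool) :
    ∃ q, Maps t s d v η g p q := by
  obtain ⟨q, hq⟩ := Y.exists_inCls B hK ((Y.mem_N6 B).mp hg _ (Y.ev6_mem_B6 B _))
    ((isConj_conj t _ g).mpr (Y.isConj_inCls B hK (inCls_rep p)))
  exact ⟨q, Y.maps_of B hK hg (inCls_rep p) hq⟩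

lemma maps_inv {g : G} (hg : g ∈ Y.N6 B) {p q : Bool × Bool} (h : Maps t s d v η g p q) :
    Maps t s d v η g⁻¹ q p := by
  obtain ⟨r, hr⟩ := Y.maps_total B hK ((Y.N6 B).inv_mem hg) q
  have h1 := h.comp hr
  rw [inv_mul_cancel] at h1
  rwa [Y.maps_unique B h1 (maps_one p)] at hr

lemma maps_inj {g : G} (hg : g ∈ Y.N6 B) {p p' q : Bool × Bool} (h : Maps t s d v η g p q)
    (h' : Maps t s d v η g p' q) : p = p' :=
  Y.maps_unique B (Y.maps_inv B hK hg h) (Y.maps_inv B hK hg h')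

lemma maps_B6 {b : G} (hb : b ∈ Y.B6 B) (p : Bool × Bool) : Maps t s d v η b p p := by
  have hbN := Y.B6_le_N6 B hb
  obtain ⟨q, hq⟩ := Y.maps_total B hK hbN p
  obtain ⟨m, n, h⟩ := hq _ (inCls_rep p)
  obtain ⟨w, rfl⟩ := hb
  rw [eq_mul_inv_iff_mul_eq, Y.ev6_mul B, Y.ev6_mul B] at h
  have h := Y.ev6_inj B h
  obtain ⟨-, e1, g1, -⟩ := W6.key_mul false false (W6.cls q m n) w
  obtain ⟨-, e2, g2, -⟩ := W6.key_mul false false w (W6.cls p false false)
  rw [h, e2] at e1
  rw [h, g2] at g1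
  have : q = p := by
    refine Prod.ext ?_ ?_
    · revert e1; simp only [W6.cls]; clear * -; cases w.1.2.2.2.1 <;> cases p.1 <;> cases q.1 <;> simp
    · revert g1; simp only [W6.cls]; clear * -; cases w.1.2.2.2.2 <;> cases p.2 <;> cases q.2 <;> simp
  exact this ▸ hq

/-- `N(⟨T, η⟩)` preserves the subgroup of even words. -/
lemma N6_MB {g : G} (hg : g ∈ Y.N6 B) : ∀ x ∈ Y.MB B, g * x * g⁻¹ ∈ Y.MB B := by
  have hpair : ∀ p q m n, g * ev6 t s d v η (W6.mul false false (W6.cls p false false)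
      (W6.cls q m n)) * g⁻¹ ∈ Y.MB B := by
    intro p q m n
    rw [← Y.ev6_mul B, conj_prod]
    obtain ⟨p', hp'⟩ := Y.maps_total B hK hg p
    obtain ⟨q', hq'⟩ := Y.maps_total B hK hg q
    obtain ⟨a, b, hab⟩ := hp' _ (inCls_rep p)
    obtain ⟨a', b', hab'⟩ := hq' _ ⟨m, n, rfl⟩
    rw [← hab, ← hab', Y.ev6_mul B, Y.ev6_mem_MB B, (W6.key_mul _ _ _ _).1]
    rfl
  have hpw : ∀ w : W6, w.1.1 = false → (w.1.2.2.2.1 || w.1.2.2.2.2 || !w.2) = true →
      g * ev6 t s d v η w * g⁻¹ ∈ Y.MB B := by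
    intro w h1 h2
    obtain ⟨p, q, m, n, h⟩ := W6.pair_cls w h1 h2
    exact h ▸ hpair p q m n
  rintro _ ⟨⟨⟨a, m, n, e, f⟩, k⟩, hw, rfl⟩
  obtain rfl : a = false := hw
  by_cases h2 : (e || f || !k) = true
  · exact hpw _ rfl h2
  · obtain ⟨rfl, rfl, rfl⟩ : e = false ∧ f = false ∧ k = true := by
      revert h2; clear * -; revert e f k; decide
    have hsplit : (((false, m, n, false, false), true) : W6) = W6.mul false false
        ((false, m, n, true, false), true) ((false, false, false, true, false), false) := by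
      clear * -; revert m n; decide
    rw [hsplit, ← Y.ev6_mul B, conj_prod]
    exact (Y.MB B).mul_mem (hpw _ rfl rfl) (hpw _ rfl rfl)

end Eta

end CfsgLib.TwoTimesSym
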