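import Cfsg.Agent.Lib.Recognition.TwoTimesSym.CyclicClasses

/-!
# The case `η² = 1`: the conjugates of `t` in `B = ⟨T, η⟩` and the normaliser of `B`
-/

set_option linter.unusedSectionVars false
set_option synthInstance.maxSize 1000

namespace CfsgLib.TwoTimesSym

variable {G : Type*} [Group G] [Finite G] {t : G} {E : Subgroup G} {s d v y η : G}

/-- The translation `η` and its conjugate under `π`, with the facts used later. -/
structure Shift (t s d v η η1 : G) (Y1 : Prop) : Prop where
  sq : η1 * η1 = 1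
  mem : Y1
  not_conj : ¬ IsConj t η1
  conj_t : η1 * t * η1⁻¹ = ev t s d v (true, true, true, true, false)
  maps00 : Maps t s d v η η1 (false, false) (true, false)
  maps10 : Maps t s d v η η1 (true, false) (false, false)
  maps01 : Maps t s d v η η1 (false, true) (true, true)
  maps11 : Maps t s d v η η1 (true, true) (false, true)

namespace Eta

variable (Y : Eta t s d v y η false false) (B : Base t E s d v) (C : Cyc t s d v y)

include Y B

lemma η_mul (x : W6) : η * ev6 t s d v η x = ev6 t s d v η (W6.mul false false W6.gη x) := by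
  rw [← Y.ev6_mul B, Y.ev6_η B]

lemma mul_η (x : W6) : ev6 t s d v η x * η = ev6 t s d v η (W6.mul false false x W6.gη) := by
  rw [← Y.ev6_mul B, Y.ev6_η B]

include C

/-- With `η² = 1`, the element `η` is not conjugate to `t`. -/
lemma η_not_conj (hG : NoIndexTwo G) (hF : Four t E) : ¬ IsConj t η := by
  intro hη
  obtain ⟨⟨a0, m0, n0, e0, g0⟩, rfl, hw0⟩ := Y.exists_odd B C hF hG
  have heg : e0 = true ∧ g0 = true := by
    have h2 := isConj_sq B.t_sq hw0
    rw [Y.ev6_mul B, ← Y.ev6_one B] at h2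
    have := Y.ev6_inj B h2
    revert this; clear * -; revert m0 n0 e0 g0; decide
  obtain ⟨rfl, rfl⟩ := heg
  set dd : W6 := ((false, false, false, true, false), false) with hdd
  have hsq : ev6 t s d v η dd * ev6 t s d v η dd = 1 := by
    rw [Y.ev6_mul B, ← Y.ev6_one B]; rfl
  have hnd : ¬ IsConj t (ev6 t s d v η dd) := by
    rw [Y.ev6_T B, B.isConj_ev_four hF]; simp
  have hw : IsConj t (ev6 t s d v η ((false, false, false, true, false), true)) := by
    have h := hF.conj_mul B hη hsq hnd (by
      rw [Y.η_mul B, Y.mul_η B]; rfl)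
    rw [Y.η_mul B] at h
    exact h
  set tv : W6 := ((true, false, false, false, true), false) with htv
  have htvK : IsConj t (ev6 t s d v η tv) := by
    rw [Y.ev6_T B, B.isConj_ev_four hF]; exact ⟨rfl, rfl⟩
  have hp := hF.parity B htvK (w := ev6 t s d v η ((false, false, false, true, false), true))
    (isConj_sq B.t_sq hw) (by
      intro h; rw [← Y.ev6_one B] at h; exact absurd (Y.ev6_inj B h) (by decide))
    (fun h => absurd (Y.ev6_inj B h) (by decide))
    (by rw [Y.ev6_mul B, Y.ev6_mul B]; rfl)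
  refine hp.mp ?_ hw
  have hcen : ∃ m n, W6.mul false false ((false, false, false, true, false), true) tv =
      W6.mul false false ((true, m0, n0, true, true), true) (W6.cen m n) := by
    clear * -; revert m0 n0; decide
  obtain ⟨m, n, hmn⟩ := hcen
  rw [Y.ev6_mul B, hmn, ← Y.ev6_mul B]
  refine hF.conj_mul B hw0 ?_ ?_ ?_
  · rw [Y.ev6_mul B, ← Y.ev6_one B]; congr 1; clear * -; revert m n; decide
  · rw [W6.cen, Y.ev6_T B, B.isConj_ev_four hF]; simp
  · rw [Y.ev6_mul B, Y.ev6_mul B, W6.cen_comm]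

/-- The conjugates of `t` in `⟨T, η⟩`. -/
theorem isConj_ev6 (hG : NoIndexTwo G) (hF : Four t E) (w : W6) :
    IsConj t (ev6 t s d v η w) ↔ w.1.1 = true ∧ W6.isInv false false w = true := by
  have hη := Y.η_not_conj B C hG hF
  constructor
  · intro h
    have h2 := isConj_sq B.t_sq h
    rw [Y.ev6_mul B, ← Y.ev6_one B] at h2
    have h2 := Y.ev6_inj B h2
    refine ⟨?_, decide_eq_true h2⟩
    obtain ⟨⟨a, m, n, e, g⟩, k⟩ := w
    cases k
    · rw [Y.ev6_T B] at h
      exact ((B.isConj_ev_four hF _).mp h).1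
    · by_contra ha
      obtain rfl : a = false := by simpa using ha
      have heg : (e && g) = false := by revert h2; clear * -; revert m n e g; decide
      apply hη
      set x : W6 := ((false, m, n, e, g), false) with hx
      have hxs : ev6 t s d v η x * ev6 t s d v η x = 1 := by
        rw [hx, Y.ev6_mul B, ← Y.ev6_one B]
        exact congrArg _ (by clear * - heg; revert heg; revert m n e g; decide)
      have hxK : ¬ IsConj t (ev6 t s d v η x) := by
        rw [Y.ev6_T B, B.isConj_ev_four hF]; simp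
      have e1 : ev6 t s d v η ((false, m, n, e, g), true) = η * ev6 t s d v η x := by
        rw [hx, Y.η_mul B]; congr 1
        clear * - heg; revert heg; revert m n e g; decide
      have hcomm : ev6 t s d v η x * η = η * ev6 t s d v η x := by
        rw [← e1]
        rw [hx, Y.mul_η B]; congr 1
        clear * - heg; revert heg; revert m n e g; decide
      rw [e1] at h
      have := hF.conj_mul B h hxs hxK (by rw [← mul_assoc, hcomm])
      rwa [mul_assoc, hxs, mul_one] at this
  · rintro ⟨ha, hi⟩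
    obtain ⟨⟨a, m, n, e, g⟩, k⟩ := w
    obtain rfl : a = true := ha
    cases k
    · rw [Y.ev6_T B, B.isConj_ev_four hF]
      refine ⟨rfl, ?_⟩
      revert hi; clear * -; revert m n e g; decide
    · obtain ⟨⟨a0, m0, n0, e0, g0⟩, rfl, hw0⟩ := Y.exists_odd B C hF hG
      have h2 := isConj_sq B.t_sq hw0
      rw [Y.ev6_mul B, ← Y.ev6_one B] at h2
      have h2 := Y.ev6_inj B h2
      obtain ⟨a, b, hab⟩ : ∃ a b, (((true, m, n, e, g), true) : W6) =
          W6.mul false false ((true, m0, n0, e0, g0), true) (W6.cen a b) := by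
        revert hi h2; clear * -; revert m n e g m0 n0 e0 g0; decide +kernel
      rw [hab, ← Y.ev6_mul B]
      refine hF.conj_mul B hw0 ?_ ?_ ?_
      · rw [Y.ev6_mul B, ← Y.ev6_one B]; congr 1; clear * -; revert a b; decide
      · rw [W6.cen, Y.ev6_T B, B.isConj_ev_four hF]; simp
      · rw [Y.ev6_mul B, Y.ev6_mul B, W6.cen_comm]

variable (hF : Four t E)

include hF

lemma y_mem_N6 : y ∈ Y.N6 B := (Y.mem_N6 B).mpr (Y.y_B6 B C hF)

variable (hK : ∀ w : W6, IsConj t (ev6 t s d v η w) ↔
  w.1.1 = true ∧ W6.isInv false false w = true)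

include hK

/-- The action of `y` on the classes. -/
lemma y_maps : Maps t s d v η y (false, false) (false, false) ∧
    Maps t s d v η y (true, false) (false, true) ∧
    Maps t s d v η y (false, true) (true, false) ∧
    Maps t s d v η y (true, true) (true, true) := by
  have hyN := Y.y_mem_N6 B C hF
  have h00 : Maps t s d v η y (false, false) (false, false) := by
    refine Y.maps_of B hK hyN (x := t) ⟨false, false, Y.ev6_t B⟩ ⟨true, false, ?_⟩
    rw [C.conj_t]; simp [W6.cls, ev6, ev]
  have hA : ∀ p : Bool × Bool, (p.1 = false ∨ p.2 = false) → p ≠ (false, false) →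
      Maps t s d v η y p (p.2, p.1) := by
    intro p hp hp0
    obtain ⟨q, hq⟩ := Y.maps_total B hK hyN p
    obtain ⟨m, n, hmn⟩ := hq _ (inCls_rep p)
    have hT : ev6 t s d v η (W6.cls p false false) =
        ev t s d v (true, false, false, p.1, p.2) := by
      rw [W6.cls, show (p.1 && p.2) = false by rcases hp with h | h <;> simp [h], Y.ev6_T B]
    rw [hT] at hmn
    have hne : q ≠ (false, false) := fun h => hp0 (Y.maps_inj B hK hyN (h ▸ hq) h00)
    obtain ⟨⟨a, i, j, e, g⟩, -, hu⟩ := Y.y_word B C hF (true, false, false, p.1, p.2)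
    rw [hu, ← Y.ev6_T B] at hmn
    have heq := Y.ev6_inj B hmn
    simp only [W6.cls, Prod.mk.injEq] at heq
    obtain ⟨⟨-, -, -, he, hg⟩, -⟩ := heq
    have hside : (p.2 = false → e = false) ∧ (p.1 = false → g = false) := by
      constructor
      · intro h
        have h1 := C.swap1 _ (B.mem_A1.mp (B.ev_mem_A1 (w := (true, false, false, p.1, p.2)).mpr h))
        rw [hu, ← B.mem_A2] at h1
        exact B.ev_mem_A2.mp h1
      · intro h
        have h1 := C.swap2 _ (B.mem_A2.mp (B.ev_mem_A2 (w := (true, false, false, p.1, p.2)).mpr h))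
        rw [hu, ← B.mem_A1] at h1
        exact B.ev_mem_A1.mp h1
    have : q = (p.2, p.1) := by
      obtain ⟨p1, p2⟩ := p
      obtain ⟨q1, q2⟩ := q
      simp only at he hg hside hp
      subst he hg
      revert hp hp0 hne hside
      clear * -
      revert p1 p2 q1 q2; decide
    exact this ▸ hq
  refine ⟨h00, hA (true, false) (Or.inr rfl) (by decide), hA (false, true) (Or.inl rfl) (by decide),
    ?_⟩
  obtain ⟨q, hq⟩ := Y.maps_total B hK hyN (true, true)
  have h1 : q ≠ (false, false) := fun h => absurd (Y.maps_inj B hK hyN (h ▸ hq) h00) (by decide)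
  have h2 : q ≠ (false, true) := fun h => absurd (Y.maps_inj B hK hyN (h ▸ hq)
    (hA (true, false) (Or.inr rfl) (by decide))) (by decide)
  have h3 : q ≠ (true, false) := fun h => absurd (Y.maps_inj B hK hyN (h ▸ hq)
    (hA (false, true) (Or.inl rfl) (by decide))) (by decide)
  have : q = (true, true) := by revert h1 h2 h3; clear * -; revert q; decide
  exact this ▸ hq

/-- The element `η₁ = π η π⁻¹`. -/
theorem exists_shift (hη : ¬ IsConj t η) (cn2 : CentNorm t (A2set t s d v)) {ρ π : G}
    (H : Half t E s d v ρ π) :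
    ∃ η1, Shift t s d v η η1 (η1 ∈ Y.N6 B) ∧ η1 ∈ B.trans t ∧ π * η1 * π⁻¹ ∈ B.trans t ∧
      π * η1 * π⁻¹ * t * (π * η1 * π⁻¹)⁻¹ = ev t s d v (true, true, false, true, false) ∧
      ¬ IsConj t (π * η1 * π⁻¹) := by
  have cn1 := H.cn
  set η1 := π * η * π⁻¹ with hη1
  have hηt : η * t * η⁻¹ = ev t s d v (true, false, true, false, false) := by
    rw [Y.conj_t]; simp [ev]
  have hηE : ∀ e ∈ B.E1, e * η = η * e := by
    intro e he
    obtain ⟨⟨a, m, n, c, g⟩, h1, h2, rfl⟩ := B.mem_E1.mp he
    obtain rfl : a = false := h1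
    obtain rfl : g = false := h2
    refine (commute_of_conj ?_).symm
    rw [Y.conj_ev B]; simp [W6.sig]
  have hηP : η ∈ B.trans t :=
    B.mem_trans_t hF hηE (by rw [hηt]; exact B.ev_mem_A1.mpr rfl)
  have hπP := B.π_trans_t hF H
  have hπconj : ∀ g ∈ B.trans t, π * g * π⁻¹ ∈ B.trans t := fun g hg =>
    (Subgroup.mem_normalizer_iff.mp hπP g).mp hg
  have hη1P : η1 ∈ B.trans t := hπconj η hηP
  have hη1E := (B.mem_trans.mp hη1P).1
  have hη1t : η1 * t * η1⁻¹ = ev t s d v (true, true, true, true, false) :=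
    B.π_conj_trans H hηt
  have hη2t : π * η1 * π⁻¹ * t * (π * η1 * π⁻¹)⁻¹ = ev t s d v (true, true, false, true, false) :=
    B.π_conj_trans H hη1t
  have hη1K : ¬ IsConj t η1 := fun h => hη ((isConj_conj t η π).mp h)
  have hη2K : ¬ IsConj t (π * η1 * π⁻¹) := fun h => hη1K ((isConj_conj t η1 π).mp h)
  have hηsq : η * η = 1 := by rw [Y.sq]; exact B.ev_one
  have hsq : η1 * η1 = 1 := by
    rw [hη1, show π * η * π⁻¹ * (π * η * π⁻¹) = π * (η * η) * π⁻¹ by group, hηsq]; group
  have h1i : η1⁻¹ = η1 := inv_eq_of_mul_eq_one_right hsq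
  -- conjugation of `A₁` and of `v`
  have hE1gen : ∀ m n e : Bool, ev t s d v (false, m, n, e, false) ∈ B.E1 := fun m n e =>
    B.mem_E1.mpr ⟨_, rfl, rfl, rfl⟩
  have hA1 : ∀ a m n e : Bool, η1 * ev t s d v (a, m, n, e, false) * η1⁻¹ =
      ev t s d v (a, xor m a, xor n a, xor e a, false) := by
    intro a m n e
    cases a
    · rw [B.conj_E1 hη1E (hE1gen m n e)]; simp
    · have h : ev t s d v (true, m, n, e, false) = t * ev t s d v (false, m, n, e, false) := by
        simp [ev, mul_assoc]
      rw [h, conj_prod, hη1t, B.conj_E1 hη1E (hE1gen m n e), B.ev_mul]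
      congr 1
      clear * -; revert m n e; decide
  have hvE : ∀ e ∈ B.E1, v * e * v⁻¹ ∈ B.E1 := by
    intro e he
    obtain ⟨⟨a, m, n, c, g⟩, h1, h2, rfl⟩ := B.mem_E1.mp he
    obtain rfl : a = false := h1
    obtain rfl : g = false := h2
    have := B.ev_conj (false, false, false, false, true) (false, m, n, c, false)
    rw [ev_v] at this
    rw [this]
    refine B.mem_E1.mpr ⟨_, ?_, ?_, rfl⟩ <;> simp [W5.mul, W5.inv]
  have hfix : ∀ g : G, (∀ e ∈ B.E1, e * g = g * e) → g * t * g⁻¹ = t → g ∈ B.A1 := by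
    intro g hgE hgt
    have := B.comm_ax_mem hF cn1 cn2 (IsConj.refl t) B.E1_comm_t (commute_of_conj hgt) hgE
    rwa [B.axSet_t hF] at this
  set u := v * η1 * v * η1 * η with hu
  have huA : u ∈ B.A1 := by
    refine hfix u (fun e he => ?_) ?_
    · refine (commute_of_conj ?_).symm
      rw [hu, conj_comp, conj_comp (v * η1 * v), conj_comp (v * η1), conj_comp v,
        B.conj_E1 hηE he, B.conj_E1 hη1E he, B.conj_E1 hη1E (hvE e he)]
      rw [← conj_comp v v, B.v_sq]; group
    · have hv1 := B.ev_conj (false, false, false, false, true) (true, true, false, true, false)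
      rw [ev_v] at hv1
      have hv2 := B.commute_ev (false, false, false, false, true)
      rw [ev_v] at hv2
      rw [hu, conj_comp, conj_comp (v * η1 * v), conj_comp (v * η1), conj_comp v, hηt, hA1]
      show v * (η1 * (v * ev t s d v (true, true, false, true, false) * v⁻¹) * η1⁻¹) * v⁻¹ = t
      rw [hv1]
      show v * (η1 * ev t s d v (true, true, true, true, false) * η1⁻¹) * v⁻¹ = t
      rw [hA1]
      show v * ev t s d v (true, false, false, false, false) * v⁻¹ = t
      rw [ev_t]; exact conj_of_commute hv2.symm.eq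
  have huB : u ∈ Y.B6 B := Y.T_le_B6 B (B.A1_le_T huA)
  have hv' : η1 * v * η1⁻¹ = v * (u * η) := by
    rw [h1i, hu, show v * (v * η1 * v * η1 * η * η) = v * v * (η1 * v * η1) * (η * η) by group,
      B.v_sq, hηsq]
    group
  set c := η1 * η * η1 * η with hc
  have hcA : c ∈ B.A1 := by
    refine hfix c (fun e he => ?_) ?_
    · refine (commute_of_conj ?_).symm
      rw [hc, conj_comp, conj_comp (η1 * η), conj_comp η1, B.conj_E1 hηE he, B.conj_E1 hη1E he,
        B.conj_E1 hηE he, B.conj_E1 hη1E he]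
    · rw [hc, conj_comp, conj_comp (η1 * η), conj_comp η1, hηt, hA1, Y.conj_ev B]
      show η1 * ev t s d v (true, true, true, true, false) * η1⁻¹ = t
      rw [hA1]; exact ev_t
  have hη' : η1 * η * η1⁻¹ = c * η := by
    rw [h1i, hc, show η1 * η * η1 * η * η = η1 * η * η1 * (η * η) by group, hηsq, mul_one]
  -- `η1` normalises `B`
  have hbp : ∀ (b : Bool) (x : G), η1 * bp b x * η1⁻¹ = bp b (η1 * x * η1⁻¹) := by
    intro b x; cases b <;> simp
  have hbpm : ∀ (b : Bool) (x : G), x ∈ Y.B6 B → bp b x ∈ Y.B6 B := by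
    intro b x hx; cases b <;> simp [hx]
  have hvB : η1 * v * η1⁻¹ ∈ Y.B6 B := by
    rw [hv']
    exact (Y.B6 B).mul_mem (Y.T_le_B6 B B.v_mem_T) ((Y.B6 B).mul_mem huB (Y.η_mem_B6 B))
  have hη1N : η1 ∈ Y.N6 B := by
    refine (Y.mem_N6 B).mpr ?_
    rintro _ ⟨⟨⟨a, m, n, e, g⟩, k⟩, rfl⟩
    have hsplit : ev t s d v (a, m, n, e, g) = ev t s d v (a, m, n, e, false) * bp g v := by
      simp [ev]
    show η1 * (ev t s d v (a, m, n, e, g) * bp k η) * η1⁻¹ ∈ Y.B6 B
    rw [hsplit, conj_prod, conj_prod, hA1, hbp, hbp]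
    refine (Y.B6 B).mul_mem ((Y.B6 B).mul_mem (Y.T_le_B6 B (B.ev_mem_T _)) (hbpm _ _ hvB))
      (hbpm _ _ ?_)
    rw [hη']
    exact (Y.B6 B).mul_mem (Y.T_le_B6 B (B.A1_le_T hcA)) (Y.η_mem_B6 B)
  have m00 : Maps t s d v η η1 (false, false) (true, false) := by
    refine Y.maps_of B hK hη1N (x := t) ⟨false, false, Y.ev6_t B⟩ ⟨true, true, ?_⟩
    rw [hη1t, ← Y.ev6_T B]; rfl
  have m10 : Maps t s d v η η1 (true, false) (false, false) := by
    refine Y.maps_of B hK hη1N (inCls_rep _) ⟨true, true, ?_⟩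
    show _ = η1 * ev6 t s d v η ((true, false, false, true, false), false) * η1⁻¹
    rw [Y.ev6_T B, hA1, ← Y.ev6_T B]; rfl
  have m01 : Maps t s d v η η1 (false, true) (true, true) := by
    obtain ⟨q, hq⟩ := Y.maps_total B hK hη1N (false, true)
    obtain ⟨a, b, hab⟩ := hq _ (inCls_rep _)
    obtain ⟨w, hw, hwu⟩ := B.mem_A1.mp huA
    have h1 : ev6 t s d v η (W6.cls (false, true) false false) = t * v := by
      simp [W6.cls, ev6, ev]
    have h2 : η1 * (t * v) * η1⁻¹ = ev6 t s d v η (W6.mul false false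
        (W6.mul false false ((true, true, true, true, false), false)
          ((false, false, false, false, true), false)) (w, true)) := by
      rw [conj_prod, hη1t, hv', ← Y.ev6_mul B, ← Y.ev6_mul B, Y.ev6_T B, Y.ev6_T B, ev_v, ← hwu]
      simp [ev6, mul_assoc]
    rw [h1, h2] at hab
    have := congrArg (fun w : W6 => w.2) (Y.ev6_inj B hab)
    simp only [(W6.key_mul false false _ _).2.2.2] at this
    have hq' : q = (true, true) := by
      obtain ⟨q1, q2⟩ := q
      revert this; simp only [W6.cls]; clear * -; cases q1 <;> cases q2 <;> simp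
    exact hq' ▸ hq
  have hinv : ∀ p q, Maps t s d v η η1 p q → Maps t s d v η η1 q p := fun p q h => by
    have := Y.maps_inv B hK hη1N h
    rwa [h1i] at this
  exact ⟨η1, ⟨hsq, hη1N, hη1K, hη1t, m00, m10, m01, hinv _ _ m01⟩, hη1P, hπconj _ hη1P, hη2t, hη2K⟩

end Eta

end CfsgLib.TwoTimesSym
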