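import Cfsg.Agent.Lib.Recognition.TwoTimesSym.CyclicBasic

/-!
# The group `⟨T, η⟩` of order 64 and its extension by the cyclic element
-/

set_option linter.unusedSectionVars false

namespace CfsgLib.TwoTimesSym

/-- Words in `⟨T, η⟩`. -/
abbrev W6 := W5 × Bool

namespace W6

/-- Conjugation by a power of `η`. -/
def sig (k : Bool) (x : W5) : W5 := (x.1, x.2.1, xor x.2.2.1 (k && x.1), x.2.2.2.1, x.2.2.2.2)

/-- The product, when `η² = s^α z^β`. -/
def mul (α β : Bool) (x y : W6) : W6 :=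
  (W5.mul (W5.mul x.1 (sig x.2 y.1)) (false, x.2 && y.2 && α, x.2 && y.2 && β, false, false),
    xor x.2 y.2)

/-- The trivial word. -/
def one : W6 := (W5.one, false)

/-- The word of `t`. -/
def gt : W6 := ((true, false, false, false, false), false)

/-- The word of `η`. -/
def gη : W6 := (W5.one, true)

/-- Being an involution or trivial. -/
def isInv (α β : Bool) (x : W6) : Bool := decide (mul α β x x = one)

/-- The central words `s^m z^n`. -/
def cen (m n : Bool) : W6 := ((false, m, n, false, false), false)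

lemma key_mul : ∀ α β : Bool, ∀ x y : W6, (mul α β x y).1.1 = xor x.1.1 y.1.1 ∧
    (mul α β x y).1.2.2.2.1 = xor x.1.2.2.2.1 y.1.2.2.2.1 ∧
    (mul α β x y).1.2.2.2.2 = xor x.1.2.2.2.2 y.1.2.2.2.2 ∧
    (mul α β x y).2 = xor x.2 y.2 := fun α β x y => by
  obtain ⟨⟨a, m, n, e, g⟩, k⟩ := x
  obtain ⟨⟨a', m', n', e', g'⟩, k'⟩ := y
  simp [mul, sig, W5.mul]

end W6

variable {G : Type*} [Group G]

/-- `ev w · η^k`. -/
def ev6 (t s d v η : G) (w : W6) : G := ev t s d v w.1 * bp w.2 η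

variable [Finite G]

/-- The union of a subgroup and one coset, for `g` normalising it with square inside. -/
def adjoinSq (K : Subgroup G) (g : G) (hg : ∀ k ∈ K, g * k * g⁻¹ ∈ K) (hg2 : g * g ∈ K) :
    Subgroup G :=
  subgroupOfMul ((K : Set G) ∪ (fun k => g * k) '' (K : Set G)) (Or.inl K.one_mem) (by
    have hgi : ∀ k ∈ K, g⁻¹ * k * g ∈ K := fun k hk =>
      (conj_mem_iff hg _).mpr (by convert hk using 1; group)
    rintro a (ha | ⟨k, hk, rfl⟩) b (hb | ⟨k', hk', rfl⟩)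
    · exact Or.inl (K.mul_mem ha hb)
    · exact Or.inr ⟨g⁻¹ * a * g * k', K.mul_mem (hgi a ha) hk', by group⟩
    · exact Or.inr ⟨k * b, K.mul_mem hk hb, by group⟩
    · refine Or.inl ?_
      have := K.mul_mem (K.mul_mem hg2 (hgi k hk)) hk'
      show g * k * (g * k') ∈ K
      convert this using 1; group)

lemma mem_adjoinSq {K : Subgroup G} {g : G} {hg : ∀ k ∈ K, g * k * g⁻¹ ∈ K} {hg2 : g * g ∈ K}
    {x : G} : x ∈ adjoinSq K g hg hg2 ↔ x ∈ K ∨ ∃ k ∈ K, g * k = x := Iff.rfl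

lemma card_adjoinSq {K : Subgroup G} {g : G} {hg : ∀ k ∈ K, g * k * g⁻¹ ∈ K} {hg2 : g * g ∈ K}
    (h : g ∉ K) : Nat.card (adjoinSq K g hg hg2) = 2 * Nat.card K := by
  have : (adjoinSq K g hg hg2 : Set G) = (K : Set G) ∪ (fun k => g * k) '' (K : Set G) := rfl
  rw [← SetLike.coe_sort_coe, Nat.card_coe_set_eq, this,
    Set.ncard_union_eq ?_ (Set.toFinite _) (Set.toFinite _),
    Set.ncard_image_of_injective _ (mul_right_injective g), two_mul, ← Nat.card_coe_set_eq,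
    SetLike.coe_sort_coe]
  rw [Set.disjoint_left]
  rintro a ha ⟨k, hk, rfl⟩
  exact h ((K.mul_mem_cancel_right hk).mp ha)

variable {t : G} {E : Subgroup G} {s d v y η : G} {α β : Bool}

namespace Eta

variable (Y : Eta t s d v y η α β) (B : Base t E s d v)

include Y B

lemma conj_ev (w : W5) : η * ev t s d v w * η⁻¹ = ev t s d v (W6.sig true w) := by
  rw [B.conj_word, Y.conj_t, Y.conj_s, Y.conj_d, Y.conj_v, Y.conj_z]
  obtain ⟨a, m, n, e, g⟩ := w
  cases a
  · simp [ev, W6.sig]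
  · have h : ev t s d v (true, m, !n, e, g) = ev t s d v (true, false, true, false, false) *
        ev t s d v (false, m, n, e, g) := by
      rw [B.ev_mul]; simp [W5.mul]
    simp only [W6.sig, Bool.true_and, Bool.xor_true]
    rw [h]
    simp [ev, mul_assoc]

lemma η_notMem : η ∉ B.T := fun h => by
  have h1 := conj_of_commute (Subgroup.mem_centralizer_singleton_iff.mp (B.T_le h))
  rw [Y.conj_t] at h1
  exact B.z_ne_one (mul_left_cancel (a := t) (h1.trans (mul_one t).symm))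

lemma ev6_mul (x x' : W6) :
    ev6 t s d v η x * ev6 t s d v η x' = ev6 t s d v η (W6.mul α β x x') := by
  obtain ⟨w, k⟩ := x
  obtain ⟨w', k'⟩ := x'
  simp only [ev6, W6.mul]
  have hone : W6.sig false w' = w' := by simp [W6.sig]
  cases k <;> simp only [bp_false, bp_true, mul_one, Bool.false_and, Bool.true_and]
  · rw [hone, ← mul_assoc, B.ev_mul]
    congr 2 <;> simp [W5.mul]
  · have h : η * ev t s d v w' = ev t s d v (W6.sig true w') * η := by
      rw [← Y.conj_ev B]; group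
    calc ev t s d v w * η * (ev t s d v w' * bp k' η)
        = ev t s d v w * (η * ev t s d v w') * bp k' η := by group
      _ = ev t s d v w * ev t s d v (W6.sig true w') * (η * bp k' η) := by rw [h]; group
      _ = _ := by
          rw [B.ev_mul]
          cases k'
          · simp [W5.mul]
          · simp only [bp_true, Bool.true_and, Bool.xor_self, bp_false, mul_one]
            rw [Y.sq, B.ev_mul]

lemma ev6_T (w : W5) : ev6 t s d v η (w, false) = ev t s d v w := by simp [ev6]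

lemma ev6_one : ev6 t s d v η W6.one = 1 := by simp [ev6, W6.one, B.ev_one]

lemma ev6_η : ev6 t s d v η W6.gη = η := by simp [ev6, W6.gη, B.ev_one]

lemma ev6_t : ev6 t s d v η W6.gt = t := by simp [ev6, W6.gt, ev]

lemma ev6_inj {x x' : W6} (h : ev6 t s d v η x = ev6 t s d v η x') : x = x' := by
  obtain ⟨w, k⟩ := x
  obtain ⟨w', k'⟩ := x'
  have key : ∀ w w' : W5, ev t s d v w * η ≠ ev t s d v w' := fun w w' h' => Y.η_notMem B (by
    rw [show η = (ev t s d v w)⁻¹ * ev t s d v w' by rw [← h']; group]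
    exact B.T.mul_mem (B.T.inv_mem (B.ev_mem_T _)) (B.ev_mem_T _))
  cases k <;> cases k' <;> simp only [ev6, bp_false, bp_true, mul_one] at h
  · rw [B.ev_inj h]
  · exact absurd h.symm (key _ _)
  · exact absurd h (key _ _)
  · rw [B.ev_inj (mul_right_cancel h)]

/-- The subgroup `⟨T, η⟩`. -/
def B6 : Subgroup G :=
  subgroupOfMul (Set.range (ev6 t s d v η)) ⟨W6.one, Y.ev6_one B⟩ (by
    rintro _ ⟨x, rfl⟩ _ ⟨x', rfl⟩; exact ⟨_, (Y.ev6_mul B x x').symm⟩)

/-- The subgroup of `⟨T, η⟩` of the words without `t`. -/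
def MB : Subgroup G :=
  subgroupOfMul (ev6 t s d v η '' {w | w.1.1 = false}) ⟨W6.one, rfl, Y.ev6_one B⟩ (by
    rintro _ ⟨x, hx, rfl⟩ _ ⟨x', hx', rfl⟩
    refine ⟨_, ?_, (Y.ev6_mul B x x').symm⟩
    show (W6.mul α β x x').1.1 = false
    rw [(W6.key_mul α β x x').1, show x.1.1 = false from hx, show x'.1.1 = false from hx']; rfl)

lemma mem_B6 {x : G} : x ∈ Y.B6 B ↔ x ∈ Set.range (ev6 t s d v η) := Iff.rfl

lemma mem_MB {x : G} : x ∈ Y.MB B ↔ ∃ w : W6, w.1.1 = false ∧ ev6 t s d v η w = x := Iff.rfl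

lemma ev6_mem_B6 (w : W6) : ev6 t s d v η w ∈ Y.B6 B := ⟨w, rfl⟩

lemma ev6_mem_MB {w : W6} : ev6 t s d v η w ∈ Y.MB B ↔ w.1.1 = false :=
  ⟨fun ⟨_, hx, h⟩ => Y.ev6_inj B h ▸ hx, fun h => ⟨w, h, rfl⟩⟩

lemma T_le_B6 : B.T ≤ Y.B6 B := fun x hx => by
  obtain ⟨w, rfl⟩ := B.mem_T.mp hx
  exact ⟨(w, false), Y.ev6_T B w⟩

lemma η_mem_B6 : η ∈ Y.B6 B := ⟨W6.gη, Y.ev6_η B⟩

lemma MB_le_B6 : Y.MB B ≤ Y.B6 B := by
  rintro _ ⟨w, -, rfl⟩; exact ⟨w, rfl⟩

lemma card_B6 : Nat.card (Y.B6 B) = 64 := by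
  have : (Y.B6 B : Set G) = Set.range (ev6 t s d v η) := rfl
  rw [← SetLike.coe_sort_coe, Nat.card_coe_set_eq, this,
    Set.ncard_range_of_injective (fun _ _ => Y.ev6_inj B)]
  simp [Nat.card_eq_fintype_card]

lemma card_MB : Nat.card (Y.MB B) = 32 := by
  have : (Y.MB B : Set G) = ev6 t s d v η '' {w | w.1.1 = false} := rfl
  rw [← SetLike.coe_sort_coe, Nat.card_coe_set_eq, this,
    Set.ncard_image_of_injective _ (fun _ _ => Y.ev6_inj B), Set.ncard_eq_toFinset_card']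
  decide

lemma conj_ev6_t (w : W6) : ev6 t s d v η w * t * (ev6 t s d v η w)⁻¹ =
    ev6 t s d v η ((true, false, w.2, false, false), false) := by
  rw [mul_inv_eq_iff_eq_mul]
  conv_lhs => arg 2; rw [← Y.ev6_t B]
  rw [Y.ev6_mul B, Y.ev6_mul B]
  congr 1
  have : ∀ (a b : Bool) (w : W6), W6.mul a b w W6.gt =
      W6.mul a b ((true, false, w.2, false, false), false) w := by decide
  exact this α β w

variable (C : Cyc t s d v y) (hF : Four t E)

include C hF

lemma y_word (w : W5) : ∃ w' : W5, w'.1 = w.1 ∧ y * ev t s d v w * y⁻¹ = ev t s d v w' := by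
  obtain ⟨w', hw'⟩ := C.norm _ ⟨w, rfl⟩
  refine ⟨w', ?_, hw'.symm⟩
  have hE : ∀ x, (x ∈ B.A1 ∨ x ∈ B.A2) → x ∈ E → y * x * y⁻¹ ∈ E := by
    intro x hx hxE
    by_contra hn
    have hxT : x ∈ B.T := hx.elim (fun h => B.A1_le_T h) (fun h => B.A2_le_T h)
    have hc := Subgroup.mem_centralizer_singleton_iff.mp (B.T_le
      (B.mem_T.mpr (C.norm x (B.mem_T.mp hxT))))
    have h2 : x * x = 1 := hx.elim (fun h => B.A1_sq h) (fun h => B.A2_sq h)
    have hK : IsConj t (y * x * y⁻¹) := (hF _ hc).mpr ⟨hn, by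
      rw [show y * x * y⁻¹ * (y * x * y⁻¹) = y * (x * x) * y⁻¹ by group, h2]; group⟩
    exact ((hF x (Subgroup.mem_centralizer_singleton_iff.mp (B.T_le hxT))).mp
      ((isConj_conj t x y).mp hK)).1 hxE
  have hgen : ∀ u : W5, u.1 = false → y * ev t s d v u * y⁻¹ ∈ E := by
    rintro ⟨a, m, n, e, g⟩ hu
    obtain rfl : a = false := hu
    have hb : ∀ (b : Bool) (x : G), x ∈ E → bp b x ∈ E := by
      intro b x hx; cases b <;> simp [hx]
    rw [B.conj_word]
    simp only [bp_false, one_mul]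
    refine E.mul_mem (E.mul_mem (E.mul_mem (hb _ _ ?_) (hb _ _ ?_)) (hb _ _ ?_)) (hb _ _ ?_)
    · rw [B.cyc_s C]; exact E.mul_mem B.s_mem B.z_mem
    · rw [C.conj_z]; exact B.z_mem
    · refine hE _ (Or.inl ?_) B.d_mem
      have := (B.ev_mem_A1 (w := (false, false, false, true, false))).mpr rfl
      rwa [ev_d] at this
    · refine hE _ (Or.inr ?_) B.v_mem
      have := (B.ev_mem_A2 (w := (false, false, false, false, true))).mpr rfl
      rwa [ev_v] at this
  cases hw1 : w.1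
  · rw [← B.ev_mem_E (w := w'), hw']; exact hgen w hw1
  · by_contra hne
    have hne : w'.1 = false := by simpa using hne
    have h1 := B.ev_mem_E.mpr hne
    rw [hw'] at h1
    obtain ⟨a, m, n, e, g⟩ := w
    obtain rfl : a = true := hw1
    have h2 : ev t s d v (true, m, n, e, g) = t * ev t s d v (false, m, n, e, g) := by
      simp [ev, mul_assoc]
    rw [h2, conj_prod, C.conj_t] at h1
    exact B.t_notMem ((E.mul_mem_cancel_right B.s_mem).mp
      ((E.mul_mem_cancel_right (hgen _ rfl)).mp h1))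

lemma y_η : ∃ w : W5, w.1 = false ∧ y * η * y⁻¹ = ev t s d v w * η := by
  obtain ⟨w0, hw0, hy2⟩ := Y.y_sq
  obtain ⟨w1, hw1, hy1⟩ := Y.y_word B C hF w0
  refine ⟨W5.mul (W5.inv w1) w0, by simp [W5.mul, W5.inv, hw0, hw1], ?_⟩
  have hη : η = (ev t s d v w0)⁻¹ * (y * y) := by rw [hy2]; group
  calc y * η * y⁻¹ = (y * ev t s d v w0 * y⁻¹)⁻¹ * (y * y) := by
        conv_lhs => rw [hη]
        group
    _ = _ := by rw [hy1, hy2, B.ev_inv, ← mul_assoc, B.ev_mul]

lemma y_word6 (w : W6) :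
    ∃ w' : W6, w'.1.1 = w.1.1 ∧ w'.2 = w.2 ∧ y * ev6 t s d v η w * y⁻¹ = ev6 t s d v η w' := by
  obtain ⟨w, k⟩ := w
  obtain ⟨w', hw', hy⟩ := Y.y_word B C hF w
  cases k
  · exact ⟨(w', false), hw', rfl, by rw [Y.ev6_T B, hy, Y.ev6_T B]⟩
  · obtain ⟨u, hu, hyη⟩ := Y.y_η B C hF
    refine ⟨(W5.mul w' u, true), by simp [W5.mul, hw', hu], rfl, ?_⟩
    simp only [ev6, bp_true]
    rw [conj_prod, hy, hyη, ← mul_assoc, B.ev_mul]

lemma y_B6 : ∀ x ∈ Y.B6 B, y * x * y⁻¹ ∈ Y.B6 B := by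
  rintro _ ⟨w, rfl⟩
  obtain ⟨w', -, -, h⟩ := Y.y_word6 B C hF w
  exact ⟨w', h.symm⟩

lemma y_MB : ∀ x ∈ Y.MB B, y * x * y⁻¹ ∈ Y.MB B := by
  rintro _ ⟨w, hw, rfl⟩
  obtain ⟨w', hw', -, h⟩ := Y.y_word6 B C hF w
  exact ⟨w', hw'.trans hw, h.symm⟩

lemma y_sq_MB : y * y ∈ Y.MB B := by
  obtain ⟨w0, hw0, hy2⟩ := Y.y_sq
  exact ⟨(w0, true), hw0, by simp [ev6, hy2]⟩

/-- No element outside `⟨T, η⟩` in `y ⟨T, η⟩` is an involution. -/
lemma no_inv (w : W6) : y * ev6 t s d v η w * (y * ev6 t s d v η w) ≠ 1 := by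
  intro h
  set x := y * ev6 t s d v η w with hx
  have h1 : x * t * x⁻¹ = y * (t * bp w.2 (d * v * (d * v))) * y⁻¹ := by
    rw [hx, conj_comp, Y.conj_ev6_t B]
    congr 2
    cases w.2 <;> simp [ev6, ev]
  have h2 : x * t * x⁻¹ = t * s * bp w.2 (d * v * (d * v)) := by
    rw [h1, conj_prod, C.conj_t]
    cases w.2 <;> simp [C.conj_z]
  have h3 : ev6 t s d v η w * (t * s * bp w.2 (d * v * (d * v))) * (ev6 t s d v η w)⁻¹ = t * s := by
    rw [mul_inv_eq_iff_eq_mul,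
      show t * s * bp w.2 (d * v * (d * v)) =
        ev6 t s d v η ((true, true, w.2, false, false), false) by
          cases w.2 <;> simp [ev6, ev],
      show t * s = ev6 t s d v η ((true, true, false, false, false), false) by simp [ev6, ev],
      Y.ev6_mul B, Y.ev6_mul B]
    congr 1
    have : ∀ (a b : Bool) (w : W6), W6.mul a b w ((true, true, w.2, false, false), false) =
        W6.mul a b ((true, true, false, false, false), false) w := by decide
    exact this α β w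
  have h4 : x * (x * t * x⁻¹) * x⁻¹ = t * (d * v * (d * v)) := by
    rw [h2, hx, conj_comp, h3, C.conj_ts]
  rw [show x * (x * t * x⁻¹) * x⁻¹ = x * x * t * (x * x)⁻¹ by group, h] at h4
  exact B.z_ne_one (mul_left_cancel (a := t) (by simpa using h4.symm))

lemma y_notMem : y ∉ Y.B6 B := by
  rintro ⟨w, hw⟩
  have h1 := Y.conj_ev6_t B w
  rw [hw, C.conj_t, show t * s = ev6 t s d v η ((true, true, false, false, false), false) by
    simp [ev6, ev]] at h1
  exact absurd (congrArg (fun w : W6 => w.1.2.1) (Y.ev6_inj B h1)) (by simp)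

/-- The subgroup `⟨T, η, y⟩` of order 128. -/
def H7 : Subgroup G :=
  adjoinSq (Y.B6 B) y (Y.y_B6 B C hF) (Y.MB_le_B6 B (Y.y_sq_MB B C hF))

lemma card_H7 : Nat.card (Y.H7 B C hF) = 128 := by
  rw [H7, card_adjoinSq (Y.y_notMem B C hF), Y.card_B6 B]

lemma conjIn_H7 : conjIn t (Y.H7 B C hF) =
    ev6 t s d v η '' {w | IsConj t (ev6 t s d v η w)} := by
  ext x
  constructor
  · rintro ⟨hx, hc⟩
    rcases hx with ⟨w, rfl⟩ | ⟨_, ⟨w, rfl⟩, rfl⟩
    · exact ⟨w, hc, rfl⟩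
    · exact absurd (isConj_sq B.t_sq hc) (Y.no_inv B C hF w)
  · rintro ⟨w, hw, rfl⟩
    exact ⟨Or.inl ⟨w, rfl⟩, hw⟩

/-- The coset `η T` contains a conjugate of `t` which is odd in `t`. -/
theorem exists_odd (hG : NoIndexTwo G) :
    ∃ w : W5, w.1 = true ∧ IsConj t (ev6 t s d v η (w, true)) := by
  by_contra hno
  have hno : ∀ w : W5, w.1 = true → ¬ IsConj t (ev6 t s d v η (w, true)) :=
    fun w h1 h2 => hno ⟨w, h1, h2⟩
  have hy2 := Y.y_sq_MB B C hF
  set M := adjoinSq (Y.MB B) y (Y.y_MB B C hF) hy2 with hM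
  have hynot : y ∉ Y.MB B := fun h => Y.y_notMem B C hF (Y.MB_le_B6 B h)
  have hle : M ≤ Y.H7 B C hF := by
    rintro x (hx | ⟨k, hk, rfl⟩)
    · exact Or.inl (Y.MB_le_B6 B hx)
    · exact Or.inr ⟨k, Y.MB_le_B6 B hk, rfl⟩
  have h := dvd_card_conj_diff hG B.t_sq hle (by
    rw [hM, card_adjoinSq hynot, Y.card_MB B, Y.card_H7 B C hF])
  have hset : conjIn t (Y.H7 B C hF) \ (M : Set G) = conjIn t B.T := by
    ext x
    constructor
    · rintro ⟨hx, hxM⟩
      rw [Y.conjIn_H7 B C hF] at hx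
      obtain ⟨⟨w, k⟩, hw, rfl⟩ := hx
      cases k
      · exact ⟨by rw [Y.ev6_T B]; exact B.ev_mem_T w, hw⟩
      · exfalso
        cases hw1 : w.1
        · exact hxM (Or.inl ((Y.ev6_mem_MB B).mpr hw1))
        · exact hno w hw1 hw
    · rintro ⟨hx, hc⟩
      obtain ⟨w, rfl⟩ := B.mem_T.mp hx
      refine ⟨⟨Or.inl (Y.T_le_B6 B hx), hc⟩, ?_⟩
      rintro (hm | ⟨k, hk, hm⟩)
      · rw [← Y.ev6_T B, SetLike.mem_coe, Y.ev6_mem_MB B] at hm
        exact Bool.noConfusion (hm.symm.trans ((B.isConj_ev_four hF w).mp hc).1)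
      · apply Y.y_notMem B C hF
        have : y * k ∈ Y.B6 B := (show y * k = ev t s d v w from hm).symm ▸ Y.T_le_B6 B hx
        exact ((Y.B6 B).mul_mem_cancel_right (Y.MB_le_B6 B hk)).mp this
  obtain ⟨m, hm, hC⟩ := B.card_C
  rw [hset, B.ncard_conjIn_T_four hF, Y.card_H7 B C hF, hC] at h
  have := Nat.odd_iff.mp hm
  omega

end Eta

end CfsgLib.TwoTimesSym
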