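import Cfsg.Agent.Lib.Recognition.TwoTimesSym.CyclicGenerators

/-!
# The case `η² = 1`: `|N(B)| = 512` and the conjugates of `t` in `N(B)` outside `B`
-/

set_option linter.unusedSectionVars false
set_option synthInstance.maxSize 1000

namespace CfsgLib.TwoTimesSym

variable {G : Type*} [Group G] [Finite G] {t : G} {E : Subgroup G} {s d v y η η1 : G}

/-- The setting: `η` is an involution, the conjugates of `t` in `B = ⟨T, η⟩` are known, and
`y, η₁` act on their classes. -/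
structure NoneCtx (t : G) (E : Subgroup G) (s d v y η η1 : G)
    (Y : Eta t s d v y η false false) (B : Base t E s d v) : Prop where
  cyc : Cyc t s d v y
  four : Four t E
  conj_iff : ∀ w : W6, IsConj t (ev6 t s d v η w) ↔
    w.1.1 = true ∧ W6.isInv false false w = true
  shift : Shift t s d v η η1 (η1 ∈ Y.N6 B)

namespace NoneCtx

variable {Y : Eta t s d v y η false false} {B : Base t E s d v}
  (X : NoneCtx t E s d v y η η1 Y B)

include X

lemma yN : y ∈ Y.N6 B := Y.y_mem_N6 B X.cyc X.four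

lemma ηN : η ∈ Y.N6 B := Y.B6_le_N6 B (Y.η_mem_B6 B)

lemma η1_inv : η1⁻¹ = η1 := inv_eq_of_mul_eq_one_right X.shift.sq

lemma yMaps : Maps t s d v η y (false, false) (false, false) ∧
    Maps t s d v η y (true, false) (false, true) ∧
    Maps t s d v η y (false, true) (true, false) ∧
    Maps t s d v η y (true, true) (true, true) := Y.y_maps B X.cyc X.four X.conj_iff

/-- The stabiliser of `t` in `N(B)` is `T`. -/
lemma stab_t {n : G} : n ∈ Y.N6 B ∧ n * t = t * n ↔ n ∈ B.T := by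
  refine ⟨fun ⟨hn, hnt⟩ => B.normalizer_T hnt fun u hu => ?_, fun hn => ⟨?_, ?_⟩⟩
  · obtain ⟨w, hw⟩ := (Y.mem_N6 B).mp hn u (Y.T_le_B6 B hu)
    have hut := Subgroup.mem_centralizer_singleton_iff.mp (B.T_le hu)
    have hc : n * u * n⁻¹ * t * (n * u * n⁻¹)⁻¹ = t := by
      refine conj_of_commute ?_
      have e : n⁻¹ * t * n = t := conj_symm (conj_of_commute hnt)
      calc n * u * n⁻¹ * t = n * (u * (n⁻¹ * t * n)) * n⁻¹ := by group
        _ = n * (t * u) * n⁻¹ := by rw [e, hut]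
        _ = n * t * n⁻¹ * (n * u * n⁻¹) := by group
        _ = _ := by rw [conj_of_commute hnt]
    rw [← hw, Y.conj_ev6_t B] at hc
    have hk : w.2 = false :=
      congrArg (fun w : W6 => w.1.2.2.1) (Y.ev6_inj B (hc.trans (Y.ev6_t B).symm))
    rw [← hw]
    obtain ⟨w, k⟩ := w
    obtain rfl : k = false := hk
    rw [Y.ev6_T B]; exact B.ev_mem_T w
  · exact Y.B6_le_N6 B (Y.T_le_B6 B hn)
  · exact Subgroup.mem_centralizer_singleton_iff.mp (B.T_le hn)

/-- Elements of class `00` are the images of `t` under `1, η, y, y η`. -/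
lemma orbit00 {x : G} (hx : InCls t s d v η (false, false) x) :
    ∃ u, u ∈ Y.N6 B ∧ (u ∈ Y.B6 B ∨ ∃ b ∈ Y.B6 B, u = y * b) ∧ u * t * u⁻¹ = x := by
  have C := X.cyc
  obtain ⟨m, n, rfl⟩ := hx
  cases m <;> cases n
  · exact ⟨1, (Y.N6 B).one_mem, .inl (Y.B6 B).one_mem, by simp [W6.cls, ev6, ev]⟩
  · exact ⟨η, X.ηN, .inl (Y.η_mem_B6 B), by rw [Y.conj_t]; simp [W6.cls, ev6, ev]⟩
  · refine ⟨y, X.yN, .inr ⟨1, (Y.B6 B).one_mem, (mul_one y).symm⟩, ?_⟩
    rw [C.conj_t]; simp [W6.cls, ev6, ev]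
  · refine ⟨y * η, (Y.N6 B).mul_mem X.yN X.ηN, .inr ⟨η, Y.η_mem_B6 B, rfl⟩, ?_⟩
    rw [conj_comp, Y.conj_t, B.cyc_tz C]; simp [W6.cls, ev6, ev, mul_assoc]

/-- `N(B)` is transitive on the conjugates of `t` in `B`. -/
lemma transitive {x : G} (hx : x ∈ conjIn t (Y.B6 B)) :
    ∃ n ∈ Y.N6 B, n * t * n⁻¹ = x := by
  obtain ⟨h1, h2, h3, -⟩ := X.yMaps
  have S := X.shift
  have hn : ∀ p : Bool × Bool, ∃ g ∈ Y.N6 B, Maps t s d v η g (false, false) p := by
    rintro ⟨p1, p2⟩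
    cases p1 <;> cases p2
    · exact ⟨1, (Y.N6 B).one_mem, maps_one _⟩
    · exact ⟨y * η1, (Y.N6 B).mul_mem X.yN S.mem, S.maps00.comp h2⟩
    · exact ⟨η1, S.mem, S.maps00⟩
    · exact ⟨η1 * (y * η1), (Y.N6 B).mul_mem S.mem ((Y.N6 B).mul_mem X.yN S.mem),
        (S.maps00.comp h2).comp S.maps01⟩
  obtain ⟨p, hp⟩ := Y.exists_inCls B X.conj_iff hx.1 hx.2
  obtain ⟨g, hg, hgm⟩ := hn p
  have h00 := Y.maps_inv B X.conj_iff hg hgm x hp
  obtain ⟨u, hu, -, hut⟩ := X.orbit00 h00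
  exact ⟨g * u, (Y.N6 B).mul_mem hg hu, by rw [conj_comp, hut]; group⟩

lemma ncard_conjIn_B6 : (conjIn t (Y.B6 B)).ncard = 16 := by
  have : conjIn t (Y.B6 B) = ev6 t s d v η ''
      {w | w.1.1 = true ∧ W6.isInv false false w = true} := by
    ext x
    constructor
    · rintro ⟨⟨w, rfl⟩, hc⟩; exact ⟨w, (X.conj_iff w).mp hc, rfl⟩
    · rintro ⟨w, hw, rfl⟩; exact ⟨⟨w, rfl⟩, (X.conj_iff w).mpr hw⟩
  rw [this, Set.ncard_image_of_injective _ (fun _ _ => Y.ev6_inj B), Set.ncard_eq_toFinset_card']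
  decide +kernel

/-- `|N(B)| = 512`. -/
theorem card_N6 : Nat.card (Y.N6 B) = 512 := by
  set N := Y.N6 B with hN
  set Ω := conjIn t (Y.B6 B) with hΩ
  have hinv : ∀ n ∈ N, ∀ x ∈ Ω, n * x * n⁻¹ ∈ Ω := fun n hn x hx =>
    ⟨(Y.mem_N6 B).mp hn x hx.1, (isConj_conj t x n).mpr hx.2⟩
  have htΩ : t ∈ Ω := ⟨Y.T_le_B6 B B.t_mem_T, IsConj.refl t⟩
  have horb : (fun n => n * t * n⁻¹) '' (N : Set G) = Ω := by
    ext x
    exact ⟨fun ⟨n, hn, h⟩ => h ▸ hinv n hn t htΩ, fun hx => X.transitive hx⟩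
  have hstab : ∀ x ∈ Ω, {n | n ∈ N ∧ n * x = x * n}.ncard = 32 := by
    intro x hx
    obtain ⟨g, hg, rfl⟩ := X.transitive hx
    have hT : {n | n ∈ N ∧ n * t = t * n} = (B.T : Set G) := Set.ext fun n => X.stab_t
    rw [← B.card_T, ← SetLike.coe_sort_coe, Nat.card_coe_set_eq, ← hT,
      ← Set.ncard_image_of_injective {n | n ∈ N ∧ n * t = t * n} (MulAut.conj g).injective]
    congr 1
    ext n
    simp only [Set.mem_image, Set.mem_ofPred_eq, MulAut.conj_apply]
    constructor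
    · rintro ⟨hn, hnx⟩
      refine ⟨g⁻¹ * n * g, ⟨N.mul_mem (N.mul_mem (N.inv_mem hg) hn) hg, ?_⟩, by group⟩
      calc g⁻¹ * n * g * t = g⁻¹ * (n * (g * t * g⁻¹)) * g := by group
        _ = g⁻¹ * (g * t * g⁻¹ * n) * g := by rw [hnx]
        _ = t * (g⁻¹ * n * g) := by group
    · rintro ⟨u, ⟨hu, hut⟩, rfl⟩
      refine ⟨N.mul_mem (N.mul_mem hg hu) (N.inv_mem hg), ?_⟩
      calc g * u * g⁻¹ * (g * t * g⁻¹) = g * (u * t) * g⁻¹ := by group
        _ = g * t * g⁻¹ * (g * u * g⁻¹) := by rw [hut]; group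
  have h := (orbit_card hinv hstab htΩ).1
  rw [horb, hΩ, X.ncard_conjIn_B6] at h
  rw [← h]

/-- An element fixing class `00` lies in `B ∪ y B`. -/
lemma fix00 {n : G} (hn : n ∈ Y.N6 B) (h : Maps t s d v η n (false, false) (false, false)) :
    n ∈ Y.B6 B ∨ ∃ b ∈ Y.B6 B, n = y * b := by
  obtain ⟨u, hu, hu', hut⟩ := X.orbit00 (h t ⟨false, false, Y.ev6_t B⟩)
  have hT : u⁻¹ * n ∈ B.T := X.stab_t.mp ⟨(Y.N6 B).mul_mem ((Y.N6 B).inv_mem hu) hn, by
    refine commute_of_conj ?_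
    rw [conj_comp, inv_inv, ← hut]; group⟩
  rcases hu' with hb | ⟨b, hb, rfl⟩
  · exact .inl (((Y.B6 B).mul_mem_cancel_left ((Y.B6 B).inv_mem hb)).mp (Y.T_le_B6 B hT))
  · exact .inr ⟨b * ((y * b)⁻¹ * n), (Y.B6 B).mul_mem hb (Y.T_le_B6 B hT), by group⟩

lemma mem_B6_of_fix {n : G} (hn : n ∈ Y.N6 B)
    (h : Maps t s d v η n (false, false) (false, false))
    (h' : Maps t s d v η n (true, false) (true, false)) : n ∈ Y.B6 B := by
  rcases X.fix00 hn h with hb | ⟨b, hb, rfl⟩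
  · exact hb
  · exfalso
    have := Y.maps_unique B h' ((Y.maps_B6 B X.conj_iff hb _).comp X.yMaps.2.1)
    exact absurd this (by decide)

variable {π : G} (hη2P : π * η1 * π⁻¹ ∈ B.trans t) (hη1P : η1 ∈ B.trans t)
  (hη2t : π * η1 * π⁻¹ * t * (π * η1 * π⁻¹)⁻¹ = ev t s d v (true, true, false, true, false))
  (hη2K : ¬ IsConj t (π * η1 * π⁻¹)) (hη1t2 : π * η1 * π⁻¹ * (π * η1 * π⁻¹) = 1)
  (cn1 : CentNorm t (A1set t s d v)) (cn2 : CentNorm t (A2set t s d v))

include hη2P hη1P hη2t hη2K hη1t2 cn1 cn2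

/-- The coset `η₁ B` contains no conjugate of `t`. -/
lemma not_conj_η1B {b : G} (hb : b ∈ Y.B6 B) : ¬ IsConj t (η1 * b) := by
  intro hxK
  have hF := X.four
  obtain ⟨⟨⟨a, m, n, e, g⟩, k⟩, rfl⟩ := hb
  set b := ev6 t s d v η ((a, m, n, e, g), k) with hb
  set x := η1 * b with hx
  have hx2 := isConj_sq B.t_sq hxK
  have hη1E := (B.mem_trans.mp hη1P).1
  have hE1gen : ∀ m n e : Bool, ev t s d v (false, m, n, e, false) ∈ B.E1 := fun m n e =>
    B.mem_E1.mpr ⟨_, rfl, rfl, rfl⟩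
  have hA1 : ∀ a m n e : Bool, η1 * ev t s d v (a, m, n, e, false) * η1⁻¹ =
      ev t s d v (a, xor m a, xor n a, xor e a, false) := by
    intro a m n e
    cases a
    · rw [B.conj_E1 hη1E (hE1gen m n e)]; simp
    · have h : ev t s d v (true, m, n, e, false) = t * ev t s d v (false, m, n, e, false) := by
        simp [ev, mul_assoc]
      rw [h, conj_prod, X.shift.conj_t, B.conj_E1 hη1E (hE1gen m n e), B.ev_mul]
      congr 1
      clear * -; revert m n e; decide
  have hxt : x * t * x⁻¹ = ev t s d v (true, true, !k, true, false) := by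
    rw [hx, conj_comp, hb, Y.conj_ev6_t B, Y.ev6_T B, hA1]
    cases k <;> rfl
  obtain rfl : g = false := by
    have h1 : b * ev t s d v (true, true, !k, true, false) * b⁻¹ =
        ev t s d v (true, true, !g, true, false) := by
      rw [mul_inv_eq_iff_eq_mul, ← Y.ev6_T B, ← Y.ev6_T B, hb, Y.ev6_mul B, Y.ev6_mul B]
      congr 1
      clear * -; revert a m n e g k; decide +kernel
    have h2 : x * (x * t * x⁻¹) * x⁻¹ = ev t s d v (true, false, g, false, false) := by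
      rw [hxt, hx, conj_comp, h1, hA1]
      cases g <;> rfl
    rw [show x * (x * t * x⁻¹) * x⁻¹ = x * x * t * (x * x)⁻¹ by group, hx2] at h2
    simp only [one_mul, inv_one, mul_one] at h2
    have := congrArg (fun w : W5 => w.2.2.1) (B.ev_inj (ev_t.trans h2))
    exact this.symm
  have hbE : ∀ u ∈ B.E1, u * b = b * u := by
    intro u hu
    obtain ⟨⟨a', m', n', c', g'⟩, h1, h2, rfl⟩ := B.mem_E1.mp hu
    obtain rfl : a' = false := h1
    obtain rfl : g' = false := h2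
    rw [← Y.ev6_T B, hb, Y.ev6_mul B, Y.ev6_mul B]
    congr 1
    clear * -; revert a m n e k m' n' c'; decide +kernel
  -- the element with the same translation
  obtain ⟨R, hR2, hRE, hRK, hRt⟩ : ∃ R, R * R = 1 ∧ (∀ u ∈ B.E1, u * R = R * u) ∧
      ¬ IsConj t R ∧ R * t * R⁻¹ = ev t s d v (true, true, !k, true, false) := by
    cases k
    · exact ⟨η1, X.shift.sq, hη1E, X.shift.not_conj, X.shift.conj_t⟩
    · exact ⟨_, hη1t2, (B.mem_trans.mp hη2P).1, hη2K, hη2t⟩
  have hRi : R⁻¹ = R := inv_eq_of_mul_eq_one_right hR2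
  have hxE : ∀ u ∈ B.E1, u * x = x * u := fun u hu => by
    calc u * x = u * η1 * b := by rw [hx]; group
      _ = η1 * (u * b) := by rw [hη1E u hu]; group
      _ = x * u := by rw [hbE u hu, hx]; group
  have hRx : R * x ∈ B.axSet t := by
    refine B.comm_ax_mem hF cn1 cn2 (IsConj.refl t) B.E1_comm_t (commute_of_conj ?_) fun u hu => ?_
    · rw [conj_comp, hxt, ← hRt, hRi, show R * (R * t * R) * R = R * R * t * (R * R) by group, hR2]
      group
    · rw [← mul_assoc, hRE u hu, mul_assoc, hxE u hu, ← mul_assoc]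
  rcases hRx with hu | ⟨u, hu, hxu⟩
  · have hxR : x = R * (R * x) := by rw [← mul_assoc, hR2, one_mul]
    apply hRK
    have h := hF.conj_mul B (x := x) (a := R * x) hxK (B.E1_sq hu) (B.E1_not_conj hF hu)
      (hxE _ hu)
    have e : x * (R * x) = R := by
      calc x * (R * x) = R * (R * x) * (R * x) := by rw [← hxR]
        _ = R := by rw [mul_assoc, B.E1_sq hu, mul_one]
    rwa [e] at h
  · have hxu : t * u = R * x := hxu
    have hxe : x = R * (t * u) := by rw [hxu, ← mul_assoc, hR2, one_mul]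
    have h2 : x * x = R * t * R⁻¹ * t := by
      rw [hxe, hRi]
      calc R * (t * u) * (R * (t * u)) = R * t * (u * R) * (t * u) := by group
        _ = R * t * R * (u * t) * u := by rw [hRE u hu]; group
        _ = R * t * R * t * (u * u) := by rw [B.E1_comm_t u hu]; group
        _ = _ := by rw [B.E1_sq hu, mul_one]
    rw [hx2, hRt] at h2
    nth_rewrite 2 [← ev_t (t := t) (s := s) (d := d) (v := v)] at h2
    rw [B.ev_mul, ← B.ev_one] at h2
    have h3 := congrArg (fun w : W5 => w.2.1) (B.ev_inj h2)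
    simp [W5.one, W5.mul] at h3

/-- Conjugates of `t` in `N(B) ∖ B` interchange opposite classes. -/
theorem outside {x : G} (hx : x ∈ Y.N6 B) (hxK : IsConj t x) (hxB : x ∉ Y.B6 B) :
    ∀ p : Bool × Bool, Maps t s d v η x p (!p.1, !p.2) := by
  have hK := X.conj_iff
  obtain ⟨y00, y10, y01, y11⟩ := X.yMaps
  have S := X.shift
  have hnB := fun b hb => X.not_conj_η1B hη2P hη1P hη2t hη2K hη1t2 cn1 cn2 (b := b) hb
  have hself : ∀ {z : G}, z ∈ Y.N6 B → IsConj t z → ∀ {p q}, Maps t s d v η z p q →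
      Maps t s d v η z q p := by
    intro z hz hzK p q h
    have := Y.maps_inv B hK hz h
    rwa [inv_eq_of_mul_eq_one_right (isConj_sq B.t_sq hzK)] at this
  have hfix : ∀ z ∈ Y.N6 B, IsConj t z → Maps t s d v η z (false, false) (false, false) →
      z ∈ Y.B6 B := by
    intro z hz hzK h
    rcases X.fix00 hz h with hb | ⟨_, ⟨w, rfl⟩, rfl⟩
    · exact hb
    · exact absurd (isConj_sq B.t_sq hzK) (Y.no_inv B X.cyc X.four w)
  have h10 : ∀ z ∈ Y.N6 B, IsConj t z → ¬ Maps t s d v η z (false, false) (true, false) := by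
    intro z hz hzK h
    have he : z = η1 * (η1 * z) := by rw [← mul_assoc, S.sq, one_mul]
    rcases X.fix00 ((Y.N6 B).mul_mem S.mem hz) (h.comp S.maps10) with hb | ⟨b, hb, hzb⟩
    · exact hnB _ hb (he ▸ hzK)
    · rw [hzb] at he
      have h1 : Maps t s d v η z (true, false) (true, true) := by
        rw [he]; exact ((Y.maps_B6 B hK hb _).comp y10).comp S.maps01
      exact absurd (Y.maps_unique B h1 (hself hz hzK h)) (by decide)
  have hyB : ∀ z, z ∈ Y.B6 B ↔ y * z * y⁻¹ ∈ Y.B6 B := fun z =>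
    conj_mem_iff (Y.y_B6 B X.cyc X.four) z
  obtain ⟨q, hq⟩ := Y.maps_total B hK hx (false, false)
  obtain rfl : q = (true, true) := by
    obtain ⟨q1, q2⟩ := q
    cases q1 <;> cases q2
    · exact absurd (hfix x hx hxK hq) hxB
    · exfalso
      refine h10 (y * x * y⁻¹) ((Y.mem_N6 B).mpr ?_) ((isConj_conj t x y).mpr hxK) ?_
      · exact (Y.mem_N6 B).mp ((Y.N6 B).mul_mem ((Y.N6 B).mul_mem X.yN hx) ((Y.N6 B).inv_mem X.yN))
      · exact (Y.maps_inv B hK X.yN y00).comp (hq.comp y01)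
    · exact absurd hq (h10 x hx hxK)
    · rfl
  have h11 := hself hx hxK hq
  obtain ⟨r, hr⟩ := Y.maps_total B hK hx (true, false)
  obtain rfl : r = (false, true) := by
    obtain ⟨r1, r2⟩ := r
    cases r1 <;> cases r2
    · exact absurd (Y.maps_inj B hK hx hr h11) (by decide)
    · rfl
    · exfalso
      have hz : η1 * x * η1⁻¹ ∈ Y.N6 B :=
        (Y.N6 B).mul_mem ((Y.N6 B).mul_mem S.mem hx) ((Y.N6 B).inv_mem S.mem)
      have hzm : Maps t s d v η (η1 * x * η1⁻¹) (false, false) (false, false) :=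
        (Y.maps_inv B hK S.mem S.maps10).comp (hr.comp S.maps10)
      have := hfix _ hz ((isConj_conj t x η1).mpr hxK) hzm
      refine hxB ?_
      have := (Y.mem_N6 B).mp S.mem _ this
      rw [X.η1_inv, show η1 * (η1 * x * η1) * η1 = η1 * η1 * x * (η1 * η1) by group, S.sq] at this
      simpa using this
    · exact absurd (Y.maps_inj B hK hx hr hq) (by decide)
  rintro ⟨p1, p2⟩
  cases p1 <;> cases p2
  · exact hq
  · exact hself hx hxK hr
  · exact hr
  · exact h11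

/-- The centraliser in `N(B)` of such an element has at most eight conjugates of `t`. -/
theorem centralizer_outside {x : G} (hx : x ∈ Y.N6 B) (hxK : IsConj t x) (hxB : x ∉ Y.B6 B) :
    {z | z ∈ Y.N6 B ∧ IsConj t z ∧ z * x = x * z}.ncard ≤ 8 := by
  have hK := X.conj_iff
  have hxm := X.outside hη2P hη1P hη2t hη2K hη1t2 cn1 cn2 hx hxK hxB
  have hx2 := isConj_sq B.t_sq hxK
  set S8 : Finset W6 :=
    Finset.univ.filter fun w => w.1.1 = false ∧ w.1.2.2.2.1 = false ∧ w.1.2.2.2.2 = false with hS8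
  refine le_trans (Set.ncard_le_ncard (t := (fun w => x * ev6 t s d v η w) '' (S8 : Set W6)) ?_
    (Set.toFinite _)) ?_
  swap
  · refine (Set.ncard_image_le (Set.toFinite _)).trans ?_
    rw [Set.ncard_coe_finset, hS8]; decide +kernel
  have hcls : ∀ z, z * x = x * z → ∀ p, InCls t s d v η p z → False := by
    intro z hc p hp
    have h := hxm p z hp
    rw [conj_of_commute hc.symm] at h
    have := Y.inCls_unique B hp h
    obtain ⟨p1, p2⟩ := p
    simp at this
  rintro z ⟨hz, hzK, hzc⟩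
  have hzB : z ∉ Y.B6 B := fun h => by
    obtain ⟨p, hp⟩ := Y.exists_inCls B hK h hzK
    exact hcls z hzc p hp
  have hzm := X.outside hη2P hη1P hη2t hη2K hη1t2 cn1 cn2 hz hzK hzB
  have hb : x * z ∈ Y.B6 B := X.mem_B6_of_fix ((Y.N6 B).mul_mem hx hz)
    ((hzm _).comp (hxm _)) ((hzm _).comp (hxm _))
  obtain ⟨w, hw⟩ := hb
  refine ⟨w, ?_, by show x * ev6 t s d v η w = z; rw [hw, ← mul_assoc, hx2, one_mul]⟩
  have hwc : ev6 t s d v η w * x = x * ev6 t s d v η w := by
    rw [hw, mul_assoc, hzc]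
  have hw2 : W6.mul false false w w = W6.one := by
    refine Y.ev6_inj B ?_
    rw [← Y.ev6_mul B, Y.ev6_one B, hw]
    calc x * z * (x * z) = x * (z * x) * z := by group
      _ = x * x * (z * z) := by rw [hzc]; group
      _ = 1 := by rw [hx2, isConj_sq B.t_sq hzK, one_mul]
  have ha : w.1.1 = false := by
    by_contra ha
    obtain ⟨p, hp⟩ := Y.exists_inCls B hK (Y.ev6_mem_B6 B w)
      ((hK w).mpr ⟨by simpa using ha, decide_eq_true hw2⟩)
    exact hcls _ hwc p hp
  have heg : w.1.2.2.2.1 = w.1.2.2.2.2 := by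
    by_contra hne
    obtain ⟨p, q, m, n, hpq, hk⟩ := W6.pair_opp w ha hne
    obtain ⟨i, j, hij⟩ := hxm p _ (inCls_rep p)
    obtain ⟨i', j', hij'⟩ := hxm q _ ⟨m, n, rfl⟩
    have h := conj_of_commute hwc.symm
    rw [← hpq, ← Y.ev6_mul B, conj_prod, ← hij, ← hij', Y.ev6_mul B, Y.ev6_mul B, hpq] at h
    have := congrArg (fun w : W6 => w.2) (Y.ev6_inj B h)
    simp only [(W6.key_mul false false _ _).2.2.2, W6.cls] at this
    exact hk this
  simp only [hS8, Finset.coe_filter, Finset.mem_univ, true_and, Set.mem_ofPred_eq]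
  refine ⟨ha, ?_⟩
  revert hw2 heg ha; clear * -; revert w; decide +kernel

end NoneCtx

end CfsgLib.TwoTimesSym
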