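import Cfsg.Agent.Lib.Recognition.TwoTimesSym.CyclicModel

/-!
# The cyclic case with `η² = z`
-/

set_option linter.unusedSectionVars false

namespace CfsgLib.TwoTimesSym

variable {G : Type*} [Group G] [Finite G] {t : G} {E : Subgroup G} {s d v : G}

namespace Base

variable (B : Base t E s d v)

include B

lemma t_mem_A1 : t ∈ B.A1 := by
  have h := (B.ev_mem_A1 (w := (true, false, false, false, false))).mpr rfl
  rwa [ev_t] at h

lemma E1_comm_t : ∀ e ∈ B.E1, e * t = t * e := fun _ he =>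
  Subgroup.mem_centralizer_singleton_iff.mp (B.T_le (B.A1_le_T he.1))

lemma axSet_t (hF : Four t E) : B.axSet t = (B.A1 : Set G) := by
  refine Set.eq_of_subset_of_ncard_le ?_ ?_ (Set.toFinite _)
  · rintro y (hy | ⟨e, he, rfl⟩)
    · exact hy.1
    · exact B.A1.mul_mem B.t_mem_A1 he.1
  · rw [(B.ax_props hF (IsConj.refl t) B.E1_comm_t).2.2, ← Nat.card_coe_set_eq]
    exact le_of_eq B.card_A1

lemma conj_E1 {g e : G} (hg : ∀ e ∈ B.E1, e * g = g * e) (he : e ∈ B.E1) : g * e * g⁻¹ = e :=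
  conj_of_commute (hg e he).symm

lemma mem_trans_t (hF : Four t E) {g : G} (hgE : ∀ e ∈ B.E1, e * g = g * e)
    (hgt : g * t * g⁻¹ ∈ B.A1) : g ∈ B.trans t := by
  refine B.mem_trans.mpr ⟨hgE, fun y hy => ?_⟩
  rw [B.axSet_t hF]
  rcases hy with he | ⟨e, he, rfl⟩
  · rw [B.conj_E1 hgE he]; exact he.1
  · show g * (t * e) * g⁻¹ ∈ B.A1
    rw [conj_prod, B.conj_E1 hgE he]; exact B.A1.mul_mem hgt he.1

lemma trans_t_le (hF : Four t E) : B.trans t ≤ Subgroup.normalizer (B.A1 : Set G) := by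
  intro g hg
  refine Subgroup.mem_normalizer_iff.mpr fun u => conj_mem_iff (fun x hx => ?_) u
  have := (B.mem_trans.mp hg).2 x (by rw [B.axSet_t hF]; exact hx)
  rwa [B.axSet_t hF] at this

lemma π_trans_t (hF : Four t E) {ρ π : G} (H : Half t E s d v ρ π) :
    π ∈ Subgroup.normalizer (B.trans t : Set G) := by
  have hπN := B.π_mem_normalizer H
  refine Subgroup.mem_normalizer_iff.mpr fun u => conj_mem_iff (fun g hg => ?_) u
  obtain ⟨hgE, hgA⟩ := B.mem_trans.mp hg
  have hA : ∀ y ∈ B.A1, π⁻¹ * y * π ∈ B.A1 := fun y hy =>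
    (Subgroup.mem_normalizer_iff.mp hπN _).mpr (by convert hy using 1; group)
  refine B.mem_trans_t hF (fun e he => ?_) ?_
  · have he' : π⁻¹ * e * π ∈ B.E1 :=
      ⟨hA e he.1, E.mul_mem (E.mul_mem (E.inv_mem H.π_mem) he.2) H.π_mem⟩
    calc e * (π * g * π⁻¹) = π * (π⁻¹ * e * π * g) * π⁻¹ := by group
      _ = π * (g * (π⁻¹ * e * π)) * π⁻¹ := by rw [hgE _ he']
      _ = π * g * π⁻¹ * e := by group
  · have h1 := hgA _ (show π⁻¹ * t * π ∈ B.axSet t by rw [B.axSet_t hF]; exact hA t B.t_mem_A1)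
    rw [B.axSet_t hF] at h1
    have := (Subgroup.mem_normalizer_iff.mp hπN _).mp h1
    convert this using 1; group

lemma π_conj_trans {ρ π : G} (H : Half t E s d v ρ π) {g : G} {a m n e : Bool}
    (hg : g * t * g⁻¹ = ev t s d v (a, m, n, e, false)) :
    π * g * π⁻¹ * t * (π * g * π⁻¹)⁻¹ = ev t s d v (a, n, xor n e, xor (xor m n) e, false) := by
  have hπt : π⁻¹ * t * π = t :=
    conj_symm (conj_of_commute (B.mem_C_of_mem H.π_mem))
  calc π * g * π⁻¹ * t * (π * g * π⁻¹)⁻¹ = π * (g * (π⁻¹ * t * π) * g⁻¹) * π⁻¹ := by group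
    _ = _ := by rw [hπt, hg, B.π_ev H]

/-- All translation groups of elements of `t^G` centralising `E₁` have the same order. -/
lemma card_trans_eq (hF : Four t E) {y : G} (C : Cyc t s d v y) {x : G} (hx : IsConj t x)
    (hxE : ∀ e ∈ B.E1, e * x = x * e) : Nat.card (B.trans x) = Nat.card (B.trans t) := by
  obtain ⟨hsq, hcomm, hcard⟩ := B.ax_props hF hx hxE
  have hxm : x ∈ B.axSet x := Or.inr ⟨1, B.E1.one_mem, mul_one x⟩
  obtain ⟨g, -, h⟩ := B.exists_conj_elem16 hx (A := B.ax hF hx hxE)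
    (fun a ha => hcomm a ha x hxm)
    (by rw [← SetLike.coe_sort_coe, Nat.card_coe_set_eq]; exact hcard) hsq
  obtain ⟨h, hA⟩ : ∃ h : G, ∀ a, a ∈ B.axSet x ↔ h⁻¹ * a * h ∈ B.A1 := by
    rcases h with h | h
    · exact ⟨g, h⟩
    · refine ⟨g * y, fun a => (h a).trans ⟨fun ha => ?_, fun ha => ?_⟩⟩
      · have := (B.cyc_mirror C).swap1 _ (by rw [B.A1set_mirror]; exact B.mem_A2.mp ha)
        rw [B.A2set_mirror, ← B.mem_A1] at this
        convert this using 1; group
      · have := B.mem_A2.mpr (C.swap1 _ (B.mem_A1.mp ha))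
        convert this using 1; group
  have hE : ∀ e ∈ B.E1, h * e * h⁻¹ ∈ B.E1 := by
    intro e he
    have hm : h * e * h⁻¹ ∈ B.axSet x := (hA _).mpr (by rw [show h⁻¹ * (h * e * h⁻¹) * h = e by group]; exact he.1)
    by_contra hn
    exact B.E1_not_conj hF he ((isConj_conj t e h).mp ((B.isConj_axSet hF hx hxE hm).mpr hn))
  have hEi : ∀ e, e ∈ B.E1 ↔ h * e * h⁻¹ ∈ B.E1 := fun e => conj_mem_iff hE e
  have hax : ∀ a, a ∈ B.A1 ↔ h * a * h⁻¹ ∈ B.axSet x := fun a => by
    rw [hA]; exact Iff.of_eq (by congr 1; group)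
  have hmap : B.trans x = (B.trans t).map (MulAut.conj h).toMonoidHom := by
    ext u
    rw [Subgroup.mem_map_equiv]
    simp only [MulAut.conj_symm_apply]
    rw [B.mem_trans, B.mem_trans, B.axSet_t hF]
    constructor
    · rintro ⟨h1, h2⟩
      refine ⟨fun e he => ?_, fun a ha => ?_⟩
      · have := h1 _ (hE e he)
        calc e * (h⁻¹ * u * h) = h⁻¹ * (h * e * h⁻¹ * u) * h := by group
          _ = h⁻¹ * (u * (h * e * h⁻¹)) * h := by rw [this]
          _ = h⁻¹ * u * h * e := by group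
      · refine (hax _).mpr ?_
        have := h2 _ ((hax a).mp ha)
        convert this using 1; group
    · rintro ⟨h1, h2⟩
      refine ⟨fun e he => ?_, fun a ha => ?_⟩
      · have := h1 (h⁻¹ * e * h) ((hEi _).mpr (by convert he using 1; group))
        calc e * u = h * ((h⁻¹ * e * h) * (h⁻¹ * u * h)) * h⁻¹ := by group
          _ = h * (h⁻¹ * u * h * (h⁻¹ * e * h)) * h⁻¹ := by rw [this]
          _ = u * e := by group
      · have := (hax _).mp (h2 _ ((hA a).mp ha))
        convert this using 1; group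
  rw [hmap, Nat.card_congr (Subgroup.equivMapOfInjective _ _
    (MulAut.conj h).injective).symm.toEquiv]

end Base

variable {y η : G}

/-- The case `η² = z` is impossible. -/
theorem Eta.not_twelve (Y : Eta t s d v y η false true) (B : Base t E s d v)
    (C : Cyc t s d v y) (hG : NoIndexTwo G) (hF : Four t E) {ρ π : G} (H : Half t E s d v ρ π)
    (cn2 : CentNorm t (A2set t s d v)) : False := by
  classical
  have cn1 := H.cn
  obtain ⟨w0, hw01, hw0K⟩ := Y.exists_odd B C hF hG
  obtain ⟨a0, m0, n0, e0, g0⟩ := w0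
  obtain rfl : a0 = true := hw01
  set η' := ev6 t s d v η ((true, false, false, false, false), true) with hη'
  have hη'2 : η' * η' = 1 := by
    rw [hη', Y.ev6_mul B, ← Y.ev6_one B]; rfl
  have hx0 : ∀ m n e g : Bool, (e && g) = false →
      ev6 t s d v η ((false, m, n, e, g), false) * η' =
        η' * ev6 t s d v η ((false, m, n, e, g), false) ∧
      ev6 t s d v η ((false, m, n, e, g), false) * ev6 t s d v η ((false, m, n, e, g), false) = 1 ∧
      η' * ev6 t s d v η ((false, m, n, e, g), false) =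
        ev6 t s d v η ((true, m, n, e, g), true) ∧
      ¬ IsConj t (ev6 t s d v η ((false, m, n, e, g), false)) := by
    intro m n e g heg
    refine ⟨?_, ?_, ?_, ?_⟩
    · rw [hη', Y.ev6_mul B, Y.ev6_mul B]; congr 1; clear * - heg; revert heg; revert m n e g; decide
    · rw [Y.ev6_mul B, ← Y.ev6_one B]; congr 1; clear * - heg; revert heg; revert m n e g; decide
    · rw [hη', Y.ev6_mul B]; congr 1; clear * - heg; revert heg; revert m n e g; decide
    · rw [Y.ev6_T B, B.isConj_ev_four hF]; simp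
  have heg0 : (e0 && g0) = false := by
    have h2 := isConj_sq B.t_sq hw0K
    rw [Y.ev6_mul B, ← Y.ev6_one B] at h2
    have := Y.ev6_inj B h2
    revert this; clear * -; revert m0 n0 e0 g0; decide
  obtain ⟨hc0, hsq0, hmul0, hnc0⟩ := hx0 m0 n0 e0 g0 heg0
  have hη'K : IsConj t η' := by
    have h := hF.conj_mul B hw0K hsq0 hnc0 (by rw [← hmul0, ← mul_assoc, hc0])
    rwa [← hmul0, mul_assoc, hsq0, mul_one] at h
  -- the count in the group of order 128
  have hlow : ∀ w : W6, w.1.1 = true → W6.isInv false true w = true →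
      IsConj t (ev6 t s d v η w) := by
    rintro ⟨⟨a, m, n, e, g⟩, k⟩ ha hi
    obtain rfl : a = true := ha
    cases k
    · rw [Y.ev6_T B, B.isConj_ev_four hF]
      refine ⟨rfl, ?_⟩
      revert hi; clear * -; revert m n e g; decide
    · obtain ⟨hc, hsq, hmul, hnc⟩ := hx0 m n e g (by
        revert hi; clear * -; revert m n e g; decide)
      rw [← hmul]
      exact hF.conj_mul B hη'K hsq hnc hc
  have hup : ∀ w : W6, IsConj t (ev6 t s d v η w) →
      W6.isInv false true w = true ∧ (w.1.1 || w.2) = true := by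
    rintro ⟨w, k⟩ hw
    have h2 := isConj_sq B.t_sq hw
    rw [Y.ev6_mul B, ← Y.ev6_one B] at h2
    refine ⟨decide_eq_true (Y.ev6_inj B h2), ?_⟩
    cases k
    · rw [Y.ev6_T B] at hw
      simp [((B.isConj_ev_four hF w).mp hw).1]
    · simp
  have hk : 24 ≤ (conjIn t (Y.H7 B C hF)).ncard ∧ (conjIn t (Y.H7 B C hF)).ncard ≤ 28 := by
    rw [Y.conjIn_H7 B C hF, Set.ncard_image_of_injective _ (fun _ _ => Y.ev6_inj B)]
    constructor
    · refine le_trans ?_ (Set.ncard_le_ncard (s := ((Finset.univ.filter fun w : W6 =>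
        w.1.1 && W6.isInv false true w) : Set W6)) ?_ (Set.toFinite _))
      · rw [Set.ncard_coe_finset]; decide +kernel
      · intro w hw
        simp only [Finset.coe_filter, Finset.mem_univ, true_and, Set.mem_ofPred_eq,
          Bool.and_eq_true] at hw
        exact hlow w hw.1 hw.2
    · refine le_trans (Set.ncard_le_ncard (t := ((Finset.univ.filter fun w : W6 =>
        W6.isInv false true w && (w.1.1 || w.2)) : Set W6)) ?_ (Set.toFinite _)) ?_
      · intro w hw
        simp only [Finset.coe_filter, Finset.mem_univ, true_and, Set.mem_ofPred_eq,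
          Bool.and_eq_true]
        exact hup w hw
      · rw [Set.ncard_coe_finset]; decide +kernel
  -- the translation group
  set P := B.trans t with hP
  have hE1η' : ∀ e ∈ B.E1, e * η' = η' * e := by
    intro e he
    obtain ⟨⟨a, m, n, c, g⟩, h1, h2, rfl⟩ := B.mem_E1.mp he
    obtain rfl : a = false := h1
    obtain rfl : g = false := h2
    rw [← Y.ev6_T B]
    exact (hx0 m n c false (by simp)).1
  have hη't : η' * t * η'⁻¹ = ev t s d v (true, false, true, false, false) := by
    rw [hη', Y.conj_ev6_t B, Y.ev6_T B]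
  have hη'P : η' ∈ P := B.mem_trans_t hF hE1η' (by rw [hη't]; exact B.ev_mem_A1.mpr rfl)
  have hπP := B.π_trans_t hF H
  have hπconj : ∀ g ∈ P, π * g * π⁻¹ ∈ P := fun g hg =>
    (Subgroup.mem_normalizer_iff.mp hπP g).mp hg
  set η1 := π * η' * π⁻¹ with hη1
  set η2 := π * η1 * π⁻¹ with hη2
  have hη1P : η1 ∈ P := hπconj _ hη'P
  have hη2P : η2 ∈ P := hπconj _ hη1P
  have hη1t : η1 * t * η1⁻¹ = ev t s d v (true, true, true, true, false) :=
    B.π_conj_trans H hη't
  have hη2t : η2 * t * η2⁻¹ = ev t s d v (true, true, false, true, false) :=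
    B.π_conj_trans H hη1t
  have hη1K : IsConj t η1 := (isConj_conj t η' π).mpr hη'K
  have hη2K : IsConj t η2 := (isConj_conj t η1 π).mpr hη1K
  have hreps : ∀ i : Bool × Bool, ∃ r ∈ P, IsConj t r ∧
      r * t * r⁻¹ = ev t s d v (true, i.1, i.2, i.1, false) := by
    rintro ⟨m, k⟩
    cases m <;> cases k
    · exact ⟨t, B.E1_le_trans hF (IsConj.refl t) B.E1_comm_t
        (Or.inr ⟨1, B.E1.one_mem, mul_one t⟩), IsConj.refl t, by
          rw [conj_of_commute rfl]; exact ev_t.symm⟩
    · exact ⟨η', hη'P, hη'K, hη't⟩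
    · exact ⟨η2, hη2P, hη2K, hη2t⟩
    · exact ⟨η1, hη1P, hη1K, hη1t⟩
  choose r hrP hrK hrt using hreps
  have horb : (fun n => n * t * n⁻¹) '' (P : Set G) =
      (fun i : Bool × Bool => ev t s d v (true, i.1, i.2, i.1, false)) '' Set.univ := by
    ext x
    constructor
    · rintro ⟨g, hg, rfl⟩
      obtain ⟨m, k, h⟩ := B.orbit_even hF cn1 cn2 H C (B.trans_t_le hF hg)
      exact ⟨(m, k), trivial, h.symm⟩
    · rintro ⟨i, -, rfl⟩
      exact ⟨r i, hrP i, hrt i⟩
  have hcardP : Nat.card P = 64 := by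
    have h := (B.card_trans hF cn1 cn2 (IsConj.refl t) B.E1_comm_t).1
    rw [horb, Set.ncard_image_of_injective _ (fun i j hij => by
      have := B.ev_inj hij
      simp only [Prod.mk.injEq] at this
      exact Prod.ext this.2.1 this.2.2.1), Set.ncard_univ, Nat.card_eq_fintype_card] at h
    rw [← h]; rfl
  have hPE : ∀ p ∈ P, ∀ e ∈ B.E1, e * p = p * e := fun p hp => (B.mem_trans.mp hp).1
  have hPtrans : ∀ x ∈ P, IsConj t x → B.trans x = P := fun x hx hxt =>
    B.trans_eq hF cn1 cn2 (IsConj.refl t) B.E1_comm_t hx hxt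
      (le_of_eq (B.card_trans_eq hF C hxt (hPE x hx)))
  have hfix : ∀ g ∈ P, g * t = t * g → g ∈ B.A1 := fun g hg hgt => by
    have := B.comm_ax_mem hF cn1 cn2 (IsConj.refl t) B.E1_comm_t hgt (hPE g hg)
    rwa [B.axSet_t hF] at this
  have hEP : B.E1 ≤ P := fun e he =>
    B.E1_le_trans hF (IsConj.refl t) B.E1_comm_t (Or.inl he)
  have hZ : ∀ a ∈ P, (∀ p ∈ P, a * p = p * a) → a ∈ B.E1 := by
    intro a ha hc
    have htP : t ∈ P := B.E1_le_trans hF (IsConj.refl t) B.E1_comm_t
      (Or.inr ⟨1, B.E1.one_mem, mul_one t⟩)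
    have haA := hfix a ha (hc t htP)
    have : a ∈ B.axSet t := by rw [B.axSet_t hF]; exact haA
    rcases this with h | ⟨e, he, rfl⟩
    · exact h
    · exfalso
      have h1 : η' * (t * e) * η'⁻¹ = t * e := conj_of_commute (hc η' hη'P).symm
      rw [conj_prod, B.conj_E1 hE1η' he, hη't] at h1
      have h2 : ev t s d v (true, false, true, false, false) =
          ev t s d v (true, false, false, false, false) := (mul_right_cancel h1).trans ev_t.symm
      exact absurd (B.ev_inj h2) (by decide)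
  -- the conjugates of `t` in `P` form four cosets of `E₁`
  have hinj : ∀ i j : Bool × Bool, ∀ e ∈ B.E1, ∀ f ∈ B.E1, r i * e = r j * f → i = j := by
    intro i j e he f hf h
    have hconj : ∀ i : Bool × Bool, ∀ e ∈ B.E1, r i * e * t * (r i * e)⁻¹ =
        ev t s d v (true, i.1, i.2, i.1, false) := fun i e he => by
      rw [conj_comp, conj_of_commute (B.E1_comm_t e he), hrt]
    have h' := hconj i e he
    rw [h, hconj j f hf] at h'
    have := B.ev_inj h'
    simp only [Prod.mk.injEq] at this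
    exact Prod.ext this.2.1.symm this.2.2.1.symm
  have hΩ : conjIn t P = (fun p : (Bool × Bool) × G => r p.1 * p.2) ''
      ((Set.univ : Set (Bool × Bool)) ×ˢ (B.E1 : Set G)) := by
    ext x
    constructor
    · rintro ⟨hx, hxK⟩
      obtain ⟨m, k, hxt⟩ := B.orbit_even hF cn1 cn2 H C (B.trans_t_le hF hx)
      set i : Bool × Bool := (m, k) with hi
      have hxt' : x * t * x⁻¹ = r i * t * (r i)⁻¹ := hxt.trans (hrt i).symm
      have hu : (r i)⁻¹ * x ∈ B.axSet t := by
        rw [B.axSet_t hF]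
        refine hfix _ (P.mul_mem (P.inv_mem (hrP i)) hx) (commute_of_conj ?_)
        rw [conj_comp, hxt', inv_inv]
        group
      rcases hu with hu | ⟨e, he, hu⟩
      · exact ⟨(i, (r i)⁻¹ * x), ⟨trivial, hu⟩, by group⟩
      · exfalso
        have hu : t * e = (r i)⁻¹ * x := hu
        have hxe : x = r i * (t * e) := by rw [hu]; group
        have hr2 := isConj_sq B.t_sq (hrK i)
        have hri : (r i)⁻¹ = r i := inv_eq_of_mul_eq_one_right hr2
        have hre := hPE _ (hrP i) e he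
        have hte := B.E1_comm_t e he
        have h2 : x * x = r i * t * (r i)⁻¹ * t := by
          rw [hxe, hri]
          calc r i * (t * e) * (r i * (t * e)) = r i * t * (e * r i) * (t * e) := by group
            _ = r i * t * r i * (e * t) * e := by rw [hre]; group
            _ = r i * t * r i * t * (e * e) := by rw [hte]; group
            _ = _ := by rw [B.E1_sq he, mul_one]
        rw [isConj_sq B.t_sq hxK, hrt] at h2
        nth_rewrite 2 [← ev_t (t := t) (s := s) (d := d) (v := v)] at h2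
        rw [B.ev_mul, ← B.ev_one] at h2
        have h3 := B.ev_inj h2
        obtain ⟨rfl, rfl⟩ : m = false ∧ k = false := by
          have h3' : W5.one = W5.mul (true, m, k, m, false) (true, false, false, false, false) := h3
          revert h3'; clear * -; revert m k; decide
        have hr1 : (r i) * t = t * r i := commute_of_conj ((hrt i).trans ev_t)
        have hrA : r i ∈ B.axSet t := by rw [B.axSet_t hF]; exact hfix _ (hrP i) hr1
        rcases hrA with hrA | ⟨f, hf, hrf⟩
        · exact B.E1_not_conj hF hrA (hrK i)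
        · have hrf : t * f = r i := hrf
          have : x = f * e := by
            rw [hxe, ← hrf]
            calc t * f * (t * e) = t * (f * t) * e := by group
              _ = t * t * (f * e) := by rw [B.E1_comm_t f hf]; group
              _ = _ := by rw [B.t_sq, one_mul]
          exact B.E1_not_conj hF (this ▸ B.E1.mul_mem hf he) hxK
    · rintro ⟨⟨i, e⟩, ⟨-, he⟩, rfl⟩
      exact ⟨P.mul_mem (hrP i) (hEP he), hF.conj_mul B (hrK i) (B.E1_sq he)
        (B.E1_not_conj hF he) (hPE _ (hrP i) e he)⟩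
  have hΩc : (conjIn t P).ncard = 32 := by
    have h8 : (B.E1 : Set G).ncard = 8 := by rw [← Nat.card_coe_set_eq]; exact B.card_E1
    rw [hΩ, Set.InjOn.ncard_image, Set.ncard_prod, Set.ncard_univ, h8]
    · simp [Nat.card_eq_fintype_card]
    · rintro ⟨i, e⟩ ⟨-, he⟩ ⟨j, f⟩ ⟨-, hf⟩ h
      have h : r i * e = r j * f := h
      obtain rfl := hinj i j e he f hf h
      rw [mul_left_cancel h]
  obtain ⟨h96, hdvd⟩ := B.orbit_trans hF cn1 cn2 hPtrans hPE hEP hZ hη'P hη'K
  rw [hΩc] at hdvd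
  set N := Subgroup.normalizer (P : Set G) with hN
  have hPN : P ≤ N := fun p hp => Subgroup.le_normalizer hp
  set O : G → Set G := fun x => (fun n => n * x * n⁻¹) '' (P : Set G) with hO
  have hO4 : ∀ x ∈ P, IsConj t x → (O x).ncard = 4 := by
    intro x hx hxt
    have h := (B.card_trans hF cn1 cn2 hxt (hPE x hx)).1
    rw [hPtrans x hx hxt, hcardP] at h
    show ((fun n => n * x * n⁻¹) '' (P : Set G)).ncard = 4
    omega
  have hOt : ∀ x ∈ P, IsConj t x → ∀ u ∈ O x, u * t * u⁻¹ = x * t * x⁻¹ := by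
    rintro x hx hxt _ ⟨p, hp, rfl⟩
    obtain ⟨e, he, h⟩ :=
      B.conj_mem_coset hF cn1 cn2 (IsConj.refl t) B.E1_comm_t hp hx hxt
    show p * x * p⁻¹ * t * (p * x * p⁻¹)⁻¹ = x * t * x⁻¹
    rw [h, conj_comp, conj_of_commute (B.E1_comm_t e he)]
  have hdisj : ∀ x ∈ P, IsConj t x → ∀ x' ∈ P, IsConj t x' →
      x * t * x⁻¹ ≠ x' * t * x'⁻¹ → Disjoint (O x) (O x') := by
    intro x hx hxt x' hx' hxt' hne
    rw [Set.disjoint_left]
    exact fun u hu hu' => hne ((hOt x hx hxt u hu).symm.trans (hOt x' hx' hxt' u hu'))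
  have hsub : O η' ∪ O η1 ∪ O η2 ⊆ (fun n => n * η' * n⁻¹) '' (N : Set G) := by
    rintro u ((⟨p, hp, rfl⟩ | ⟨p, hp, rfl⟩) | ⟨p, hp, rfl⟩)
    · exact ⟨p, hPN hp, rfl⟩
    · refine ⟨p * π, N.mul_mem (hPN hp) hπP, ?_⟩
      exact conj_comp p π η'
    · refine ⟨p * (π * π), N.mul_mem (hPN hp) (N.mul_mem hπP hπP), ?_⟩
      show p * (π * π) * η' * (p * (π * π))⁻¹ = p * η2 * p⁻¹
      rw [conj_comp p, conj_comp π]
  have hne : ∀ w w' : W5, w ≠ w' → ev t s d v w ≠ ev t s d v w' := fun w w' h h' => h (B.ev_inj h')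
  have hS12 := Set.ncard_le_ncard hsub (Set.toFinite _)
  rw [Set.ncard_union_eq (Disjoint.union_left
      (hdisj _ hη'P hη'K _ hη2P hη2K (by rw [hη't, hη2t]; exact hne _ _ (by decide)))
      (hdisj _ hη1P hη1K _ hη2P hη2K (by rw [hη1t, hη2t]; exact hne _ _ (by decide))))
      (Set.toFinite _) (Set.toFinite _),
    Set.ncard_union_eq (hdisj _ hη'P hη'K _ hη1P hη1K
      (by rw [hη't, hη1t]; exact hne _ _ (by decide))) (Set.toFinite _) (Set.toFinite _),
    hO4 _ hη'P hη'K, hO4 _ hη1P hη1K, hO4 _ hη2P hη2K] at hS12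
  set S := ((fun n => n * η' * n⁻¹) '' (N : Set G)).ncard with hS
  have h512 : 512 ∣ Nat.card G := by
    refine Dvd.dvd.trans ?_ (Subgroup.card_subgroup_dvd_card N)
    rw [← h96]
    obtain ⟨j, hj, hSj⟩ := (Nat.dvd_prime_pow Nat.prime_two).mp
      (show S ∣ 2 ^ 5 by norm_num; exact hdvd)
    rw [hSj] at hS12 ⊢
    interval_cases j <;> omega
  have hmod := modEq_sign hG B.t_sq (Y.H7 B C hF)
  obtain ⟨m, hm, hC⟩ := B.card_C
  rw [Y.card_H7 B C hF, hC] at hmod
  obtain ⟨q, hq⟩ := h512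
  rw [hq] at hmod
  have h16 : 16 ∣ m * (conjIn t (Y.H7 B C hF)).ncard := by
    unfold Nat.ModEq at hmod
    rw [show 32 * m * (conjIn t (Y.H7 B C hF)).ncard =
      32 * (m * (conjIn t (Y.H7 B C hF)).ncard) by ring] at hmod
    omega
  have hcop : Nat.Coprime 16 m :=
    by simpa using Nat.Coprime.pow_left 4 (Nat.coprime_two_left.mpr hm)
  have := hcop.dvd_of_dvd_mul_left h16
  omega

end CfsgLib.TwoTimesSym
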