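import Cfsg.Agent.Lib.Recognition.TwoTimesSym.Fusion

/-!
# Consequences of `Four`: parity on commuting pairs, `N(T)` on the four central conjugates
-/

set_option linter.unusedSectionVars false

namespace CfsgLib.TwoTimesSym

variable {G : Type*} [Group G] [Finite G] {t : G} {E : Subgroup G} {s d v : G}

/-- If `y` is conjugate to `t` and `w ≠ y` is a commuting involution, exactly one of `w, w y` is
conjugate to `t`. -/
theorem Four.parity (hF : Four t E) (B : Base t E s d v) {y w : G} (hy : IsConj t y)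
    (hw : w * w = 1) (hw1 : w ≠ 1) (hwy : w ≠ y) (hc : w * y = y * w) :
    IsConj t (w * y) ↔ ¬ IsConj t w := by
  obtain ⟨g, rfl⟩ := isConj_iff.mp hy
  set a := g⁻¹ * w * g with ha
  have hac : a * t = t * a := by
    calc g⁻¹ * w * g * t = g⁻¹ * (w * (g * t * g⁻¹)) * g := by group
      _ = g⁻¹ * (g * t * g⁻¹ * w) * g := by rw [hc]
      _ = t * (g⁻¹ * w * g) := by group
  have ha2 : a * a = 1 := by
    calc g⁻¹ * w * g * (g⁻¹ * w * g) = g⁻¹ * (w * w) * g := by group
      _ = 1 := by rw [hw]; group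
  have ha1 : a ≠ 1 := fun h => hw1 (by
    rw [show w = g * a * g⁻¹ by rw [ha]; group, h]; group)
  have hat : a ≠ t := fun h => hwy (by rw [← h, ha]; group)
  have hat2 : a * t * (a * t) = 1 := by
    calc a * t * (a * t) = a * (t * a) * t := by group
      _ = a * a * (t * t) := by rw [← hac]; group
      _ = 1 := by rw [ha2, B.t_sq, one_mul]
  have hatc : a * t * t = t * (a * t) := by rw [← mul_assoc, hac]
  have e1 : IsConj t (w * (g * t * g⁻¹)) ↔ IsConj t (a * t) := by
    rw [show w * (g * t * g⁻¹) = g * (a * t) * g⁻¹ by rw [ha]; group, isConj_conj]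
  have e2 : IsConj t w ↔ IsConj t a := by
    rw [show w = g * a * g⁻¹ by rw [ha]; group, isConj_conj]
  rw [e1, e2, hF _ hatc, hF _ hac]
  simp only [hat2, ha2, and_true, not_not]
  constructor
  · intro h
    rcases B.cover a hac with hE | hE
    · exact hE
    · exact absurd (hac ▸ hE) h
  · intro hE hEat
    exact B.t_notMem ((E.mul_mem_cancel_left hE).mp hEat)

/-- If `x` is conjugate to `t` and `a` is a commuting involution not conjugate to `t`, then
`x a` is conjugate to `t`. -/
theorem Four.conj_mul (hF : Four t E) (B : Base t E s d v) {x a : G} (hx : IsConj t x)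
    (ha2 : a * a = 1) (ha : ¬ IsConj t a) (hc : a * x = x * a) : IsConj t (x * a) := by
  by_cases h1 : a = 1
  · rwa [h1, mul_one]
  · have hne : a ≠ x := fun h => ha (h ▸ hx)
    rw [← hc]
    exact (hF.parity B hx ha2 h1 hne hc).mpr ha

namespace Base

variable (B : Base t E s d v)

include B

lemma isConj_ev_four (hF : Four t E) (w : W5) :
    IsConj t (ev t s d v w) ↔ w.1 = true ∧ W5.mul w w = W5.one := by
  have hsq : ev t s d v w * ev t s d v w = 1 ↔ W5.mul w w = W5.one := by
    rw [B.ev_mul, ← B.ev_one]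
    exact ⟨fun h => B.ev_inj h, fun h => by rw [h]⟩
  rw [hF _ (B.commute_ev w).symm.eq, B.ev_mem_E, hsq, Bool.not_eq_false]

lemma mem_conjIn_A1 (hF : Four t E) {x : G} (hx : x ∈ B.A1) : IsConj t x ↔ x ∉ E := by
  rw [hF x (Subgroup.mem_centralizer_singleton_iff.mp (B.T_le (B.A1_le_T hx)))]
  simp [B.A1_sq hx]

lemma ncard_conjIn_T_four (hF : Four t E) : (conjIn t B.T).ncard = 12 := by
  have : conjIn t B.T = ev t s d v '' {w | w.1 = true ∧ W5.mul w w = W5.one} := by
    ext x
    constructor
    · rintro ⟨hx, hc⟩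
      obtain ⟨w, rfl⟩ := B.mem_T.mp hx
      exact ⟨w, (B.isConj_ev_four hF w).mp hc, rfl⟩
    · rintro ⟨w, hw, rfl⟩
      exact ⟨B.ev_mem_T w, (B.isConj_ev_four hF w).mpr hw⟩
  rw [this, Set.ncard_image_of_injective _ (fun _ _ => B.ev_inj), Set.ncard_eq_toFinset_card']
  decide

lemma conj_inv_of_commute {g x : G} (h : g * x * g⁻¹ = x) : g * x = x * g := by
  calc g * x = g * x * g⁻¹ * g := by group
    _ = x * g := by rw [h]

/-- The regular action of `N(T)` on `t, t z, t s, t c`. -/
theorem exists_dichotomy (hF : Four t E) :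
    ∃ g h, (∀ y ∈ B.T, g * y * g⁻¹ ∈ B.T) ∧ (∀ y ∈ B.T, h * y * h⁻¹ ∈ B.T) ∧
      g * t * g⁻¹ = t * s ∧ h * t * h⁻¹ = t * (d * v * (d * v)) ∧
      (g * (t * s) * g⁻¹ = t ∧
          g * h * t * (g * h)⁻¹ = t * (s * (d * v * (d * v))) ∧
          g * h * (t * (s * (d * v * (d * v)))) * (g * h)⁻¹ = t ∨
        g * (t * s) * g⁻¹ = t * (d * v * (d * v))) := by
  set z := d * v * (d * v) with hz
  have hts : t * s = ev t s d v (true, true, false, false, false) := by simp [ev]
  have htz : t * z = ev t s d v (true, false, true, false, false) := by simp [ev, ← hz]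
  have hcent : ∀ w : W5, w.2.2.2.1 = false → w.2.2.2.2 = false → ∀ y ∈ B.T,
      ev t s d v w * y = y * ev t s d v w := by
    intro w he hg y hy
    obtain ⟨u, rfl⟩ := B.mem_T.mp hy
    rw [B.ev_mul, B.ev_mul]
    congr 1
    have : ∀ w u : W5, w.2.2.2.1 = false → w.2.2.2.2 = false →
        W5.mul w u = W5.mul u w := by decide
    exact this w u he hg
  obtain ⟨g, hg, hgt⟩ := B.exists_normalizer_conj
    ((B.isConj_ev_four hF _).mpr ⟨rfl, by decide⟩) (hcent (true, true, false, false, false) rfl rfl)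
  obtain ⟨h, hh, hht⟩ := B.exists_normalizer_conj
    ((B.isConj_ev_four hF _).mpr ⟨rfl, by decide⟩) (hcent (true, false, true, false, false) rfl rfl)
  rw [← hts] at hgt
  rw [← htz] at hht
  have hg' : ∀ y ∈ B.T, g * y * g⁻¹ ∈ B.T := fun y hy => (hg y).mp hy
  have hh' : ∀ y ∈ B.T, h * y * h⁻¹ ∈ B.T := fun y hy => (hh y).mp hy
  refine ⟨g, h, hg', hh', hgt, hht, ?_⟩
  have hgz := B.normalizer_fix_z hg'
  have hhz := B.normalizer_fix_z hh'
  rw [← hz] at hgz hhz
  have himg : ∀ k : G, (∀ y ∈ B.T, k * y * k⁻¹ ∈ B.T) →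
      k * (t * s) * k⁻¹ = t ∨ k * (t * s) * k⁻¹ = t * z ∨
      k * (t * s) * k⁻¹ = t * s ∨ k * (t * s) * k⁻¹ = t * (s * z) := by
    intro k hk
    obtain ⟨⟨a, m, n, e, f⟩, hw⟩ := B.mem_T.mp (hk _ (hts ▸ B.ev_mem_T _))
    have hc : IsConj t (k * (t * s) * k⁻¹) := by
      rw [isConj_conj, hts]; exact (B.isConj_ev_four hF _).mpr ⟨rfl, by decide⟩
    have hcen : ∀ u : W5, W5.mul (a, m, n, e, f) u = W5.mul u (a, m, n, e, f) := by
      intro u
      refine B.ev_inj ?_
      rw [← B.ev_mul, ← B.ev_mul, hw]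
      have hu := (conj_mem_iff (H := B.T) hk (k⁻¹ * ev t s d v u * k)).mpr (by
        convert B.ev_mem_T u using 1; group)
      have h1 : t * s * (k⁻¹ * ev t s d v u * k) = k⁻¹ * ev t s d v u * k * (t * s) := by
        rw [hts]; exact hcent _ rfl rfl _ hu
      calc k * (t * s) * k⁻¹ * ev t s d v u
          = k * (t * s * (k⁻¹ * ev t s d v u * k)) * k⁻¹ := by group
        _ = k * (k⁻¹ * ev t s d v u * k * (t * s)) * k⁻¹ := by rw [h1]
        _ = ev t s d v u * (k * (t * s) * k⁻¹) := by group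
    obtain ⟨rfl, rfl⟩ : e = false ∧ f = false := by
      have h1 := congrArg (fun w : W5 => w.2.2.1) (hcen (false, false, false, true, false))
      have h2 := congrArg (fun w : W5 => w.2.2.1) (hcen (false, false, false, false, true))
      revert h1 h2; clear * -; revert a m n e f; decide
    obtain ⟨rfl, -⟩ : a = true ∧ _ := (B.isConj_ev_four hF _).mp (hw ▸ hc)
    rw [← hw]
    cases m <;> cases n <;> simp [ev, ← hz, mul_assoc]
  have hinj : ∀ k a b : G, k * a * k⁻¹ = k * b * k⁻¹ → a = b := fun k a b hab =>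
    (MulAut.conj k).injective hab
  have hs1 : s ≠ 1 := fun e => by
    have := B.faithful (false, true, false, false, false) (by simp [ev, e])
    simp [W5.one] at this
  have hgtz : g * (t * z) * g⁻¹ = t * (s * z) := by
    calc g * (t * z) * g⁻¹ = g * t * g⁻¹ * (g * z * g⁻¹) := by group
      _ = _ := by rw [hgt, hgz, mul_assoc]
  have hsz : s ≠ z := fun e => by
    have := B.faithful (false, true, true, false, false) (by simp [ev, ← hz, e, hz ▸ B.z_sq])
    simp [W5.one] at this
  rcases himg g hg' with e | e | e | e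
  · left
    refine ⟨e, ?_⟩
    have hhs : h * (t * s) * h⁻¹ = t * (s * z) := by
      rcases himg h hh' with e' | e' | e' | e'
      · exfalso
        have : h * (t * s) * h⁻¹ = h * (t * z) * h⁻¹ := by
          rw [e']
          calc t = t * z * z := by rw [mul_assoc, B.z_sq, mul_one]
            _ = h * (t * z) * h⁻¹ := by
                conv_lhs => rw [← hht]
                calc h * t * h⁻¹ * z = h * t * h⁻¹ * (h * z * h⁻¹) := by rw [hhz]
                  _ = _ := by group
        exact hsz (mul_left_cancel (hinj _ _ _ this))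
      · exact absurd (mul_left_cancel (a := t) ((hinj _ _ _ (e'.trans hht.symm)).trans
          (mul_one t).symm)) hs1
      · exfalso
        have hk1 : g⁻¹ * h * g * t = t * (g⁻¹ * h * g) := by
          refine B.conj_inv_of_commute ?_
          calc g⁻¹ * h * g * t * (g⁻¹ * h * g)⁻¹ = g⁻¹ * (h * (g * t * g⁻¹) * h⁻¹) * g := by group
            _ = g⁻¹ * (g * t * g⁻¹) * g := by rw [hgt, e']
            _ = t := by group
        have hk2 : ∀ y ∈ B.T, g⁻¹ * h * g * y * (g⁻¹ * h * g)⁻¹ ∈ B.T := fun y hy => by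
          refine (hg _).mpr ?_
          have := hh' _ (hg' y hy)
          convert this using 1; group
        obtain ⟨u, hu, hu'⟩ : ∃ u ∈ B.T, h = g * u * g⁻¹ :=
          ⟨_, B.normalizer_T hk1 hk2, by group⟩
        have : h * t = t * h :=
          (Subgroup.mem_centralizer_singleton_iff.mp (B.T_le (hu' ▸ hg' u hu)))
        have h1 : h * t * h⁻¹ = t := by rw [this]; group
        rw [hht] at h1
        exact B.z_ne_one (mul_left_cancel (a := t) (h1.trans (mul_one t).symm))
      · exact e'
    constructor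
    · calc g * h * t * (g * h)⁻¹ = g * (h * t * h⁻¹) * g⁻¹ := by group
        _ = _ := by rw [hht, hgtz]
    · have hh2 : h * (t * (s * z)) * h⁻¹ = t * s := by
        calc h * (t * (s * z)) * h⁻¹ = h * (t * s) * h⁻¹ * (h * z * h⁻¹) := by group
          _ = t * (s * z) * z := by rw [hhs, hhz]
          _ = _ := by rw [mul_assoc, mul_assoc s, B.z_sq, mul_one]
      calc g * h * (t * (s * z)) * (g * h)⁻¹ = g * (h * (t * (s * z)) * h⁻¹) * g⁻¹ := by group
        _ = _ := by rw [hh2, e]
  · exact Or.inr e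
  · exact absurd (mul_left_cancel (a := t) ((hinj _ _ _ (e.trans hgt.symm)).trans
      (mul_one t).symm)) hs1
  · exact absurd (mul_left_cancel (hinj _ _ _ (e.trans hgtz.symm))) hsz

end Base

end CfsgLib.TwoTimesSym
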