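import Cfsg.Agent.Lib.Recognition.TwoTimesSym.SignCount

/-!
# Coordinates in the centralizer `⟨t⟩ × E`, `E ≅ S₆` or `S₇`

A Sylow `2`-subgroup of `E` is `⟨s⟩ × ⟨d, v⟩` with `⟨d, v⟩` dihedral of order eight, with centre
`⟨z⟩`, `z = (d v)²`.  In `S₆`: `s = (56)`, `d = (12)`, `v = (13)(24)`.
-/

set_option linter.unusedSectionVars false

namespace CfsgLib.TwoTimesSym

variable {G : Type*} [Group G]

/-- `if b then x else 1`. -/
def bp (b : Bool) (x : G) : G := if b then x else 1

@[simp] lemma bp_false (x : G) : bp false x = 1 := rfl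
@[simp] lemma bp_true (x : G) : bp true x = x := rfl

lemma bp_comm {x y : G} (h : Commute x y) (a b : Bool) : Commute (bp a x) (bp b y) := by
  cases a <;> cases b <;> simp [h]

lemma bp_mul_bp {x : G} (h : x * x = 1) (a b : Bool) : bp a x * bp b x = bp (xor a b) x := by
  cases a <;> cases b <;> simp [h]

/-- Exponents of `t, s, z, d, v`. -/
abbrev W5 := Bool × Bool × Bool × Bool × Bool

namespace W5

/-- The product of two words. -/
def mul (x y : W5) : W5 :=
  (xor x.1 y.1, xor x.2.1 y.2.1, xor (xor x.2.2.1 y.2.2.1) (x.2.2.2.2 && y.2.2.2.1),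
    xor x.2.2.2.1 y.2.2.2.1, xor x.2.2.2.2 y.2.2.2.2)

/-- The trivial word. -/
def one : W5 := (false, false, false, false, false)

/-- The inverse of a word. -/
def inv (x : W5) : W5 :=
  (x.1, x.2.1, xor x.2.2.1 (x.2.2.2.1 && x.2.2.2.2), x.2.2.2.1, x.2.2.2.2)

lemma mul_inv (x : W5) : mul x (inv x) = one := by revert x; decide

lemma eq_of_mul_inv {x y : W5} (h : mul y (inv x) = one) : x = y := by
  revert h; revert x y; decide

/-- Exponents of a word in the mirrored frame `(c, v s, d s)`. -/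
def mirror (w : W5) : W5 :=
  (w.1, xor (xor w.2.1 w.2.2.2.1) w.2.2.2.2,
    xor (xor w.2.2.1 w.2.1) (w.2.2.2.1 && w.2.2.2.2), w.2.2.2.2, w.2.2.2.1)

lemma mirror_spec : ∀ a m n e g : Bool,
    ((((mul (a, false, false, false, false) (false, m, m, false, false)).mul
      (false, false, n, false, false)).mul (false, e, false, false, e)).mul
        (false, g, false, g, false)) = mirror (a, m, n, e, g) := by decide

end W5

/-- The element `t^a s^μ z^ν d^e v^g` with `z = d v d v`. -/
def ev (t s d v : G) (w : W5) : G :=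
  bp w.1 t * bp w.2.1 s * bp w.2.2.1 (d * v * (d * v)) * bp w.2.2.2.1 d * bp w.2.2.2.2 v

/-- The facts about `C = C(t) = ⟨t⟩ × E` which are symmetric in the two frames. -/
structure Base (t : G) (E : Subgroup G) (s d v : G) : Prop where
  t_sq : t * t = 1
  card_C : ∃ m, Odd m ∧ Nat.card (Subgroup.centralizer ({t} : Set G)) = 32 * m
  E_le : E ≤ Subgroup.centralizer ({t} : Set G)
  t_notMem : t ∉ E
  cover : ∀ x, x * t = t * x → x ∈ E ∨ t * x ∈ E
  s_mem : s ∈ E
  d_mem : d ∈ E
  v_mem : v ∈ E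
  s_sq : s * s = 1
  d_sq : d * d = 1
  v_sq : v * v = 1
  sd : s * d = d * s
  sv : s * v = v * s
  dv4 : d * v * (d * v) * (d * v * (d * v)) = 1
  faithful : ∀ w, ev t s d v w = 1 → w = W5.one
  normT : ∀ x, x * t = t * x → x * s * x⁻¹ ∈ Set.range (ev t s d v) →
    x * d * x⁻¹ ∈ Set.range (ev t s d v) → x * v * x⁻¹ ∈ Set.range (ev t s d v) →
    x ∈ Set.range (ev t s d v)
  classes : ∀ x ∈ E, x * x = 1 → x ≠ 1 → ∃ h ∈ E,
    h * x * h⁻¹ = s ∨ h * x * h⁻¹ = d * v * (d * v) ∨ h * x * h⁻¹ = s * (d * v * (d * v))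
  conj_d : ∃ h ∈ E, h * d * h⁻¹ = s
  conj_v : ∃ h ∈ E, h * v * h⁻¹ = d * v * (d * v)
  conj_ds : ∃ h ∈ E, h * (d * s) * h⁻¹ = d * v * (d * v)
  conj_vs : ∃ h ∈ E, h * (v * s) * h⁻¹ = s * (d * v * (d * v))

/-- The set of words with no `v`-part: the group `A₁ = ⟨t, s, z, d⟩`. -/
def A1set (t s d v : G) : Set G := ev t s d v '' {w | w.2.2.2.2 = false}

/-- The set of words with no `d`-part: the group `A₂ = ⟨t, s, z, v⟩`. -/
def A2set (t s d v : G) : Set G := ev t s d v '' {w | w.2.2.2.1 = false}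

/-- `C_C(A) = A` and `|N_C(A)| = 96`. -/
structure CentNorm (t : G) (A : Set G) : Prop where
  cent : ∀ x, x * t = t * x → (∀ a ∈ A, x * a = a * x) → x ∈ A
  card_norm : {x | x * t = t * x ∧ ∀ a, a ∈ A ↔ x * a * x⁻¹ ∈ A}.ncard = 96

/-- The facts about one of the two frames. -/
structure Half (t : G) (E : Subgroup G) (s d v ρ π : G) : Prop where
  cn : CentNorm t (A1set t s d v)
  v_comm : v ∈ ⁅Subgroup.centralizer ({t, s} : Set G), Subgroup.centralizer ({t, s} : Set G)⁆
  z_comm : d * v * (d * v) ∈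
    ⁅Subgroup.centralizer ({t, s} : Set G), Subgroup.centralizer ({t, s} : Set G)⁆
  comm_T : ∀ w, ev t s d v w ∈
    ⁅Subgroup.centralizer ({t, s} : Set G), Subgroup.centralizer ({t, s} : Set G)⁆ →
      w.1 = false ∧ w.2.1 = false ∧ w.2.2.2.1 = false
  ρ_mem : ρ ∈ E
  ρ_s : ρ * s = s * ρ
  ρ_cube : ρ * ρ * ρ = 1
  ρ_z : ρ * (d * v * (d * v)) * ρ⁻¹ = v
  ρ_v : ρ * v * ρ⁻¹ = v * (d * v * (d * v))
  ρ_d : d * ρ * d = ρ⁻¹
  ρ_unique : ∀ x, x * t = t * x → x * s = s * x → x * x * x = 1 →
    x * (d * v * (d * v)) * x⁻¹ = v → x * v * x⁻¹ = v * (d * v * (d * v)) →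
    ∃ w : Bool × Bool, x = bp w.1 (d * v * (d * v)) * bp w.2 v * ρ *
      (bp w.1 (d * v * (d * v)) * bp w.2 v)⁻¹
  π_mem : π ∈ E
  π_d : π * d * π⁻¹ = d * (d * v * (d * v))
  π_dz : π * (d * (d * v * (d * v))) * π⁻¹ = s
  π_s : π * s * π⁻¹ = d

namespace Base

variable {t : G} {E : Subgroup G} {s d v : G} (B : Base t E s d v)

include B

lemma mem_C_of_mem {x : G} (hx : x ∈ E) : x * t = t * x :=
  Subgroup.mem_centralizer_singleton_iff.mp (B.E_le hx)

lemma ts : Commute t s := (B.mem_C_of_mem B.s_mem).symm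
lemma td : Commute t d := (B.mem_C_of_mem B.d_mem).symm
lemma tv : Commute t v := (B.mem_C_of_mem B.v_mem).symm

lemma z_mem : d * v * (d * v) ∈ E :=
  E.mul_mem (E.mul_mem B.d_mem B.v_mem) (E.mul_mem B.d_mem B.v_mem)

lemma vd : v * d = d * v * (d * v * (d * v)) := by
  have h : (v * d) * (d * v) = 1 := by
    rw [mul_assoc, ← mul_assoc d d v, B.d_sq, one_mul, B.v_sq]
  calc v * d = v * d * (d * v * (d * v) * (d * v * (d * v))) := by rw [B.dv4, mul_one]
    _ = v * d * (d * v) * (d * v * (d * v * (d * v))) := by group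
    _ = d * v * (d * v * (d * v)) := by rw [h, one_mul]

lemma z_eq' : v * d * (v * d) = d * v * (d * v) := by
  rw [B.vd]
  calc d * v * (d * v * (d * v)) * (d * v * (d * v * (d * v))) =
      d * v * (d * v) * (d * v * (d * v) * (d * v * (d * v))) := by group
    _ = d * v * (d * v) := by rw [B.dv4, mul_one]

lemma z_sq : d * v * (d * v) * (d * v * (d * v)) = 1 := B.dv4

lemma dz : Commute d (d * v * (d * v)) := by
  show d * (d * v * (d * v)) = d * v * (d * v) * d
  calc d * (d * v * (d * v)) = d * (v * d * (v * d)) := by rw [B.z_eq']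
    _ = d * v * (d * v) * d := by group

lemma vz : Commute v (d * v * (d * v)) := by
  show v * (d * v * (d * v)) = d * v * (d * v) * v
  calc v * (d * v * (d * v)) = v * d * (v * d) * v := by group
    _ = d * v * (d * v) * v := by rw [B.z_eq']

lemma sz : Commute s (d * v * (d * v)) :=
  have h1 : Commute s d := B.sd
  have h2 : Commute s v := B.sv
  (h1.mul_right h2).mul_right (h1.mul_right h2)

lemma tz : Commute t (d * v * (d * v)) := (B.mem_C_of_mem B.z_mem).symm

/-- The product formula for words. -/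
theorem ev_mul (x y : W5) : ev t s d v x * ev t s d v y = ev t s d v (W5.mul x y) := by
  obtain ⟨a, m, n, e, g⟩ := x
  obtain ⟨a', m', n', e', g'⟩ := y
  simp only [ev, W5.mul]
  set z := d * v * (d * v) with hz
  have hts := bp_comm B.ts
  have htd := bp_comm B.td
  have htv := bp_comm B.tv
  have htz := bp_comm (x := t) (y := z) B.tz
  have hsd := bp_comm (x := s) (y := d) B.sd
  have hsv := bp_comm (x := s) (y := v) B.sv
  have hsz := bp_comm (x := s) (y := z) B.sz
  have hdz := bp_comm (x := d) (y := z) B.dz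
  have hvz := bp_comm (x := v) (y := z) B.vz
  have hswap : bp g v * bp e' d = bp (g && e') z * (bp e' d * bp g v) := by
    cases g <;> cases e' <;> simp
    rw [B.vd, ← hz, ← (B.dz.mul_left B.vz).eq]
  calc bp a t * bp m s * bp n z * bp e d * bp g v *
        (bp a' t * bp m' s * bp n' z * bp e' d * bp g' v)
      = bp a t * (bp m s * bp n z * bp e d * bp g v * bp a' t) *
          bp m' s * bp n' z * bp e' d * bp g' v := by group
    _ = bp a t * bp a' t * (bp m s * (bp n z * bp e d * bp g v * bp m' s)) *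
          bp n' z * bp e' d * bp g' v := by
        rw [← ((((hts a' m).mul_right (htz a' n)).mul_right (htd a' e)).mul_right
          (htv a' g)).eq]
        group
    _ = bp a t * bp a' t * (bp m s * bp m' s) * (bp n z * (bp e d * bp g v * bp n' z)) *
          bp e' d * bp g' v := by
        rw [← (((hsz m' n).mul_right (hsd m' e)).mul_right (hsv m' g)).eq]
        group
    _ = bp a t * bp a' t * (bp m s * bp m' s) * (bp n z * bp n' z) * bp e d *
          (bp g v * bp e' d) * bp g' v := by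
        rw [((hdz e n').mul_left (hvz g n')).eq]
        group
    _ = bp a t * bp a' t * (bp m s * bp m' s) * (bp n z * bp n' z) *
          (bp e d * bp (g && e') z) * bp e' d * (bp g v * bp g' v) := by
        rw [hswap]; group
    _ = bp a t * bp a' t * (bp m s * bp m' s) * (bp n z * bp n' z * bp (g && e') z) *
          (bp e d * bp e' d) * (bp g v * bp g' v) := by
        rw [(hdz e (g && e')).eq]; group
    _ = _ := by
        rw [bp_mul_bp B.t_sq, bp_mul_bp B.s_sq, bp_mul_bp B.z_sq, bp_mul_bp B.z_sq,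
          bp_mul_bp B.d_sq, bp_mul_bp B.v_sq]

theorem ev_inj {x y : W5} (h : ev t s d v x = ev t s d v y) : x = y := by
  have h1 : ev t s d v x * ev t s d v (W5.inv x) = 1 := by
    rw [B.ev_mul, W5.mul_inv]; simp [ev, W5.one]
  rw [h, B.ev_mul] at h1
  exact W5.eq_of_mul_inv (B.faithful _ h1)

lemma ev_one : ev t s d v W5.one = 1 := by simp [ev, W5.one]

lemma ev_inv (w : W5) : (ev t s d v w)⁻¹ = ev t s d v (W5.inv w) :=
  inv_eq_of_mul_eq_one_right (by rw [B.ev_mul, W5.mul_inv, B.ev_one])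

lemma ev_conj (x w : W5) : ev t s d v x * ev t s d v w * (ev t s d v x)⁻¹ =
    ev t s d v (W5.mul (W5.mul x w) (W5.inv x)) := by
  rw [B.ev_inv, B.ev_mul, B.ev_mul]

/-- The subgroup of words satisfying a predicate closed under products and inverses. -/
def wordSubgroup (P : W5 → Bool) (h1 : P W5.one = true)
    (hm : ∀ x y, P x = true → P y = true → P (W5.mul x y) = true)
    (hi : ∀ x, P x = true → P (W5.inv x) = true) : Subgroup G where
  carrier := ev t s d v '' {w | P w = true}
  one_mem' := ⟨W5.one, h1, B.ev_one⟩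
  mul_mem' := by
    rintro _ _ ⟨x, hx, rfl⟩ ⟨y, hy, rfl⟩
    exact ⟨_, hm x y hx hy, (B.ev_mul x y).symm⟩
  inv_mem' := by
    rintro _ ⟨x, hx, rfl⟩
    exact ⟨_, hi x hx, (B.ev_inv x).symm⟩

/-- The Sylow `2`-subgroup `T = ⟨t, s, d, v⟩` of `C(t)`. -/
def T : Subgroup G := B.wordSubgroup (fun _ => true) rfl (fun _ _ _ _ => rfl) fun _ _ => rfl

/-- `A₁ = ⟨t, s, z, d⟩`. -/
def A1 : Subgroup G := B.wordSubgroup (fun w => !w.2.2.2.2) rfl (by decide) (by decide)

/-- `A₂ = ⟨t, s, z, v⟩`. -/
def A2 : Subgroup G := B.wordSubgroup (fun w => !w.2.2.2.1) rfl (by decide) (by decide)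

lemma mem_T {x : G} : x ∈ B.T ↔ x ∈ Set.range (ev t s d v) := by
  show x ∈ ev t s d v '' {w | (true : Bool) = true} ↔ _
  simp [Set.mem_range]

lemma ev_mem_T (w : W5) : ev t s d v w ∈ B.T := B.mem_T.mpr ⟨w, rfl⟩

lemma mem_A1 {x : G} : x ∈ B.A1 ↔ x ∈ A1set t s d v := by
  show x ∈ ev t s d v '' {w | (!w.2.2.2.2) = true} ↔ _
  simp [A1set]

lemma mem_A2 {x : G} : x ∈ B.A2 ↔ x ∈ A2set t s d v := by
  show x ∈ ev t s d v '' {w | (!w.2.2.2.1) = true} ↔ _
  simp [A2set]

lemma ev_mem_A1 {w : W5} : ev t s d v w ∈ B.A1 ↔ w.2.2.2.2 = false := by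
  rw [B.mem_A1]
  exact ⟨fun ⟨x, hx, h⟩ => B.ev_inj h ▸ hx, fun h => ⟨w, h, rfl⟩⟩

lemma ev_mem_A2 {w : W5} : ev t s d v w ∈ B.A2 ↔ w.2.2.2.1 = false := by
  rw [B.mem_A2]
  exact ⟨fun ⟨x, hx, h⟩ => B.ev_inj h ▸ hx, fun h => ⟨w, h, rfl⟩⟩

lemma A1_le_T : B.A1 ≤ B.T := by
  rintro _ ⟨w, -, rfl⟩; exact B.ev_mem_T w

lemma A2_le_T : B.A2 ≤ B.T := by
  rintro _ ⟨w, -, rfl⟩; exact B.ev_mem_T w

lemma commute_ev (w : W5) : Commute t (ev t s d v w) :=
  ((((bp_comm (Commute.refl t) true w.1).mul_right (bp_comm B.ts true w.2.1)).mul_right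
    (bp_comm B.tz true w.2.2.1)).mul_right (bp_comm B.td true w.2.2.2.1)).mul_right
    (bp_comm B.tv true w.2.2.2.2)

lemma ev_mem_E {w : W5} : ev t s d v w ∈ E ↔ w.1 = false := by
  have hrest : ∀ m n e g, ev t s d v (false, m, n, e, g) ∈ E := by
    intro m n e g
    have hb : ∀ (b : Bool) (x : G), x ∈ E → bp b x ∈ E := by
      intro b x hx; cases b <;> simp [hx]
    simp only [ev, bp_false, one_mul]
    exact E.mul_mem (E.mul_mem (E.mul_mem (hb _ _ B.s_mem) (hb _ _ B.z_mem)) (hb _ _ B.d_mem))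
      (hb _ _ B.v_mem)
  obtain ⟨a, m, n, e, g⟩ := w
  refine ⟨fun h => ?_, fun h => by simp only at h; subst h; exact hrest m n e g⟩
  cases a
  · rfl
  · exfalso
    have h' := hrest m n e g
    simp only [ev, bp_true, bp_false, one_mul] at h h'
    rw [mul_assoc, mul_assoc, mul_assoc, ← mul_assoc _ (bp e d), ← mul_assoc (bp m s)] at h
    rw [← mul_assoc] at h'
    exact B.t_notMem ((E.mul_mem_cancel_right (by simpa [mul_assoc] using h')).mp h)

/-- In the mirrored frame `(c, v s, d s)` the element `z` is unchanged. -/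
lemma z_mirror : v * s * (d * s) * (v * s * (d * s)) = d * v * (d * v) := by
  have hd : Commute s d := B.sd
  have hv : Commute s v := B.sv
  have h : v * s * (d * s) = v * d := by
    calc v * s * (d * s) = v * (s * d) * s := by group
      _ = v * d * (s * s) := by rw [B.sd]; group
      _ = v * d := by rw [B.s_sq, mul_one]
  rw [h, B.z_eq']

lemma ev_mirror (w : W5) :
    ev t (s * (d * v * (d * v))) (v * s) (d * s) w = ev t s d v (W5.mirror w) := by
  obtain ⟨a, m, n, e, g⟩ := w
  have h1 : bp a t = ev t s d v (a, false, false, false, false) := by cases a <;> simp [ev]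
  have h2 : bp m (s * (d * v * (d * v))) = ev t s d v (false, m, m, false, false) := by
    cases m <;> simp [ev]
  have h3 : bp n (d * v * (d * v)) = ev t s d v (false, false, n, false, false) := by
    cases n <;> simp [ev]
  have h4 : bp e (v * s) = ev t s d v (false, e, false, false, e) := by
    cases e <;> simp [ev, B.sv]
  have h5 : bp g (d * s) = ev t s d v (false, g, false, g, false) := by
    cases g <;> simp [ev, B.sd]
  calc ev t (s * (d * v * (d * v))) (v * s) (d * s) (a, m, n, e, g)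
      = bp a t * bp m (s * (d * v * (d * v))) * bp n (d * v * (d * v)) * bp e (v * s) *
          bp g (d * s) := by simp only [ev, B.z_mirror]
    _ = _ := by
        rw [h1, h2, h3, h4, h5, B.ev_mul, B.ev_mul, B.ev_mul, B.ev_mul]
        rw [W5.mirror_spec]

lemma range_mirror :
    Set.range (ev t (s * (d * v * (d * v))) (v * s) (d * s)) = Set.range (ev t s d v) := by
  ext x
  constructor
  · rintro ⟨w, rfl⟩; exact ⟨_, (B.ev_mirror w).symm⟩
  · rintro ⟨w, rfl⟩
    refine ⟨(w.1, xor (xor w.2.1 w.2.2.2.1) w.2.2.2.2,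
      xor (xor (xor (xor w.2.2.1 w.2.1) w.2.2.2.1) w.2.2.2.2) (w.2.2.2.1 && w.2.2.2.2),
      w.2.2.2.2, w.2.2.2.1), ?_⟩
    rw [B.ev_mirror]
    congr 1
    revert w; decide

/-- The mirrored frame. -/
theorem mirror : Base t E (s * (d * v * (d * v))) (v * s) (d * s) where
  t_sq := B.t_sq
  card_C := B.card_C
  E_le := B.E_le
  t_notMem := B.t_notMem
  cover := B.cover
  s_mem := E.mul_mem B.s_mem B.z_mem
  d_mem := E.mul_mem B.v_mem B.s_mem
  v_mem := E.mul_mem B.d_mem B.s_mem
  s_sq := by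
    have h := B.ev_mul (false, true, true, false, false) (false, true, true, false, false)
    simpa [ev, W5.mul] using h
  d_sq := by
    have h := B.ev_mul (false, true, false, false, true) (false, true, false, false, true)
    simpa [ev, W5.mul, B.sv] using h
  v_sq := by
    have h := B.ev_mul (false, true, false, true, false) (false, true, false, true, false)
    simpa [ev, W5.mul, B.sd] using h
  sd := by
    have h := B.ev_mul (false, true, true, false, false) (false, true, false, false, true)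
    have h' := B.ev_mul (false, true, false, false, true) (false, true, true, false, false)
    simp [ev, W5.mul, B.sv] at h h' ⊢
    exact h.trans h'.symm
  sv := by
    have h := B.ev_mul (false, true, true, false, false) (false, true, false, true, false)
    have h' := B.ev_mul (false, true, false, true, false) (false, true, true, false, false)
    simp [ev, W5.mul, B.sd] at h h' ⊢
    exact h.trans h'.symm
  dv4 := by rw [B.z_mirror]; exact B.dv4
  faithful := by
    intro w hw
    rw [B.ev_mirror] at hw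
    have := B.faithful _ hw
    revert this
    clear hw
    revert w
    decide
  normT := by
    intro x hx h1 h2 h3
    rw [B.range_mirror] at h1 h2 h3 ⊢
    rw [← B.mem_T] at h1 h2 h3
    have hz : x * (d * v * (d * v)) * x⁻¹ ∈ B.T := by
      rw [← B.z_mirror]
      have := B.T.mul_mem (B.T.mul_mem h2 h3) (B.T.mul_mem h2 h3)
      convert this using 1; group
    have hs : x * s * x⁻¹ ∈ B.T := by
      have := B.T.mul_mem h1 hz
      convert this using 1
      calc x * s * x⁻¹ = x * (s * (d * v * (d * v) * (d * v * (d * v)))) * x⁻¹ := by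
            rw [B.z_sq, mul_one]
        _ = _ := by group
    refine B.normT x hx (B.mem_T.mp hs) (B.mem_T.mp ?_) (B.mem_T.mp ?_)
    · have := B.T.mul_mem h3 hs
      convert this using 1
      calc x * d * x⁻¹ = x * (d * (s * s)) * x⁻¹ := by rw [B.s_sq, mul_one]
        _ = _ := by group
    · have := B.T.mul_mem h2 hs
      convert this using 1
      calc x * v * x⁻¹ = x * (v * (s * s)) * x⁻¹ := by rw [B.s_sq, mul_one]
        _ = _ := by group
  classes := by
    intro x hx h2 h1
    obtain ⟨h, hh, hc⟩ := B.classes x hx h2 h1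
    rw [B.z_mirror]
    rcases hc with hc | hc | hc
    · exact ⟨h, hh, Or.inr (Or.inr (by rw [hc, mul_assoc, B.z_sq, mul_one]))⟩
    · exact ⟨h, hh, Or.inr (Or.inl hc)⟩
    · exact ⟨h, hh, Or.inl hc⟩
  conj_d := B.conj_vs
  conj_v := by rw [B.z_mirror]; exact B.conj_ds
  conj_ds := by
    rw [B.z_mirror]
    obtain ⟨h, hh, hc⟩ := B.conj_v
    refine ⟨h * d, E.mul_mem hh B.d_mem, Eq.trans ?_ hc⟩
    have h' : v * s * (s * (d * v * (d * v))) = v * (d * v * (d * v)) := by
      rw [mul_assoc, ← mul_assoc s, B.s_sq, one_mul]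
    have hd : d⁻¹ = d := inv_eq_of_mul_eq_one_right B.d_sq
    calc h * d * (v * s * (s * (d * v * (d * v)))) * (h * d)⁻¹
        = h * (d * (v * (d * v * (d * v))) * d⁻¹) * h⁻¹ := by rw [h']; group
      _ = h * v * h⁻¹ := by
          congr 2
          rw [hd]
          calc d * (v * (d * v * (d * v))) * d = (d * v * (d * v)) * (d * v * d) := by group
            _ = (d * v * (d * v)) * (d * (d * v * (d * v * (d * v)))) := by
                rw [← B.vd]; group
            _ = (d * v * (d * v)) * (v * (d * v * (d * v))) := by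
                rw [← mul_assoc d (d * v), ← mul_assoc d d v, B.d_sq, one_mul]
            _ = v * (d * v * (d * v) * (d * v * (d * v))) := by
                rw [← mul_assoc, ← B.vz.eq]; group
            _ = v := by rw [B.z_sq, mul_one]
  conj_vs := by
    rw [B.z_mirror]
    obtain ⟨h, hh, hc⟩ := B.conj_d
    refine ⟨h * v, E.mul_mem hh B.v_mem, ?_⟩
    have h' : d * s * (s * (d * v * (d * v))) = d * (d * v * (d * v)) := by
      rw [mul_assoc, ← mul_assoc s, B.s_sq, one_mul]
    have h'' : s * (d * v * (d * v)) * (d * v * (d * v)) = s := by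
      rw [mul_assoc, B.z_sq, mul_one]
    have hv : v⁻¹ = v := inv_eq_of_mul_eq_one_right B.v_sq
    rw [h'']
    refine Eq.trans ?_ hc
    calc h * v * (d * s * (s * (d * v * (d * v)))) * (h * v)⁻¹
        = h * (v * (d * (d * v * (d * v))) * v⁻¹) * h⁻¹ := by rw [h']; group
      _ = h * d * h⁻¹ := by
          congr 2
          rw [hv]
          calc v * (d * (d * v * (d * v))) * v = (v * d) * ((d * v * (d * v)) * v) := by group
            _ = d * v * (d * v * (d * v)) * (v * (d * v * (d * v))) := by rw [B.vd, B.vz.eq]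
            _ = d * v * (d * v * (d * v) * v) * (d * v * (d * v)) := by group
            _ = d * v * (v * (d * v * (d * v))) * (d * v * (d * v)) := by rw [B.vz.eq]
            _ = d * (v * v) * (d * v * (d * v) * (d * v * (d * v))) := by group
            _ = d := by rw [B.v_sq, B.z_sq, mul_one, mul_one]

lemma A1set_mirror :
    A1set t (s * (d * v * (d * v))) (v * s) (d * s) = A2set t s d v := by
  ext x
  constructor
  · rintro ⟨w, hw, rfl⟩
    exact ⟨W5.mirror w, hw, (B.ev_mirror w).symm⟩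
  · rintro ⟨w, hw, rfl⟩
    refine ⟨(w.1, xor (xor w.2.1 w.2.2.2.1) w.2.2.2.2,
      xor (xor (xor (xor w.2.2.1 w.2.1) w.2.2.2.1) w.2.2.2.2) (w.2.2.2.1 && w.2.2.2.2),
      w.2.2.2.2, w.2.2.2.1), hw, ?_⟩
    rw [B.ev_mirror]
    congr 1
    revert w; decide

lemma A2set_mirror :
    A2set t (s * (d * v * (d * v))) (v * s) (d * s) = A1set t s d v := by
  ext x
  constructor
  · rintro ⟨w, hw, rfl⟩
    exact ⟨W5.mirror w, hw, (B.ev_mirror w).symm⟩
  · rintro ⟨w, hw, rfl⟩
    refine ⟨(w.1, xor (xor w.2.1 w.2.2.2.1) w.2.2.2.2,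
      xor (xor (xor (xor w.2.2.1 w.2.1) w.2.2.2.1) w.2.2.2.2) (w.2.2.2.1 && w.2.2.2.2),
      w.2.2.2.2, w.2.2.2.1), hw, ?_⟩
    rw [B.ev_mirror]
    congr 1
    revert w; decide

end Base

end CfsgLib.TwoTimesSym
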