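import Cfsg.Agent.Lib.Recognition.TwoTimesSym.FourLemmas

/-!
# Lifts of the Klein four group `N(T)/T`
-/

set_option linter.unusedSectionVars false

namespace CfsgLib.TwoTimesSym

variable {G : Type*} [Group G] [Finite G] {t : G} {E : Subgroup G} {s d v : G}

/-- An involution normalising `T` which interchanges `t` and `t s`. -/
structure Swap (t s d v q : G) (i : Bool) : Prop where
  sq : q * q = 1
  conj_t : q * t * q⁻¹ = t * s
  conj_s : q * s * q⁻¹ = s
  conj_z : q * (d * v * (d * v)) * q⁻¹ = d * v * (d * v)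
  conj_d : q * d * q⁻¹ = d * bp i s
  conj_v : q * v * q⁻¹ = v

omit [Finite G] in
lemma ev_t : ev t s d v (true, false, false, false, false) = t := by simp [ev]

omit [Finite G] in
lemma ev_s : ev t s d v (false, true, false, false, false) = s := by simp [ev]

omit [Finite G] in
lemma ev_d : ev t s d v (false, false, false, true, false) = d := by simp [ev]

omit [Finite G] in
lemma ev_v : ev t s d v (false, false, false, false, true) = v := by simp [ev]

namespace Base

variable (B : Base t E s d v)

include B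

omit [Finite G] in
lemma d_inv : d⁻¹ = d := inv_eq_of_mul_eq_one_right B.d_sq

omit [Finite G] in
lemma v_inv : v⁻¹ = v := inv_eq_of_mul_eq_one_right B.v_sq

/-- Conjugation of a word by an element with known action on the generators. -/
lemma conj_word {g : G} (w : W5) :
    g * ev t s d v w * g⁻¹ = bp w.1 (g * t * g⁻¹) * bp w.2.1 (g * s * g⁻¹) *
      bp w.2.2.1 (g * (d * v * (d * v)) * g⁻¹) * bp w.2.2.2.1 (g * d * g⁻¹) *
        bp w.2.2.2.2 (g * v * g⁻¹) := by
  have hbp : ∀ (b : Bool) (x : G), g * bp b x * g⁻¹ = bp b (g * x * g⁻¹) := by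
    intro b x; cases b <;> simp
  simp only [ev, ← hbp]
  group

lemma normalize_of_gens {g : G} (ht : g * t * g⁻¹ ∈ B.T) (hs : g * s * g⁻¹ ∈ B.T)
    (hd : g * d * g⁻¹ ∈ B.T) (hv : g * v * g⁻¹ ∈ B.T) : ∀ y ∈ B.T, g * y * g⁻¹ ∈ B.T := by
  intro y hy
  obtain ⟨w, rfl⟩ := B.mem_T.mp hy
  rw [B.conj_word]
  have hbp : ∀ (b : Bool) (x : G), x ∈ B.T → bp b x ∈ B.T := by
    intro b x hx; cases b <;> simp [hx]
  have hz : g * (d * v * (d * v)) * g⁻¹ ∈ B.T := by
    have := B.T.mul_mem (B.T.mul_mem hd hv) (B.T.mul_mem hd hv)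
    convert this using 1; group
  exact B.T.mul_mem (B.T.mul_mem (B.T.mul_mem (B.T.mul_mem (hbp _ _ ht) (hbp _ _ hs))
    (hbp _ _ hz)) (hbp _ _ hd)) (hbp _ _ hv)

/-- The existence of a swapping involution. -/
theorem exists_swap (hF : Four t E) {ρ π : G} (H : Half t E s d v ρ π) {g : G}
    (hg : ∀ y ∈ B.T, g * y * g⁻¹ ∈ B.T) (hgt : g * t * g⁻¹ = t * s)
    (hgts : g * (t * s) * g⁻¹ = t) : ∃ q i, Swap t s d v q i := by
  set z := d * v * (d * v) with hz
  have hzz : z * z = 1 := hz ▸ B.z_sq
  have hdz : Commute d z := hz ▸ B.dz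
  have hgz := B.normalizer_fix_z hg
  rw [← hz] at hgz
  have hgs : g * s * g⁻¹ = s := by
    have e : s = t * (t * s) := by rw [← mul_assoc, B.t_sq, one_mul]
    conv_lhs => rw [e]
    calc g * (t * (t * s)) * g⁻¹ = g * t * g⁻¹ * (g * (t * s) * g⁻¹) := by group
      _ = t * s * t := by rw [hgt, hgts]
      _ = t * (t * s) := by rw [mul_assoc, ← B.ts.eq]
      _ = s := e.symm
  -- the image of `v`
  obtain ⟨⟨a, m, n, e, f⟩, hwv⟩ := B.mem_T.mp (hg v B.v_mem_T)
  obtain ⟨rfl, rfl, rfl, rfl⟩ : a = false ∧ m = false ∧ e = false ∧ f = true := by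
    have hv' := conj_mem_comm_pair (g := g) (x := t) (y := t * s)
      (by rw [centralizer_pair_mul]; exact H.v_comm)
    rw [hgt, hgts, centralizer_pair_comm, centralizer_pair_mul, ← hwv] at hv'
    obtain ⟨h1, h2, h3⟩ := H.comm_T _ hv'
    simp only at h1 h2 h3
    subst h1 h2 h3
    refine ⟨rfl, rfl, rfl, ?_⟩
    cases f
    · exfalso
      have hv1 : v = bp n z := by
        apply (MulAut.conj g).injective
        rw [MulAut.conj_apply, MulAut.conj_apply, ← hwv]
        cases n <;> simp [ev, ← hz, hgz]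
      cases n
      · exact absurd (B.faithful (false, false, false, false, true) (by simp [ev, hv1]))
          (by decide)
      · have h := B.faithful (false, false, true, false, true) (by
          simp only [ev, bp_true, bp_false, one_mul, mul_one, ← hz]
          rw [hv1, bp_true]; exact hz ▸ B.z_sq)
        exact absurd h (by decide)
    · rfl
  -- make `v` fixed
  obtain ⟨g1, hg1, h1t, h1s, h1z, h1v⟩ : ∃ g1, (∀ y ∈ B.T, g1 * y * g1⁻¹ ∈ B.T) ∧
      g1 * t * g1⁻¹ = t * s ∧ g1 * s * g1⁻¹ = s ∧ g1 * z * g1⁻¹ = z ∧ g1 * v * g1⁻¹ = v := by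
    cases n
    · exact ⟨g, hg, hgt, hgs, hgz, by rw [← hwv]; simp [ev]⟩
    · refine ⟨d * g, fun y hy => ?_, ?_, ?_, ?_, ?_⟩
      · have := B.T.mul_mem (B.T.mul_mem B.d_mem_T (hg y hy)) (B.T.inv_mem B.d_mem_T)
        convert this using 1; group
      · calc d * g * t * (d * g)⁻¹ = d * (g * t * g⁻¹) * d⁻¹ := by group
          _ = t * s := by
              rw [hgt, ((B.td.symm).mul_right (show Commute d s from B.sd.symm)).eq]; group
      · calc d * g * s * (d * g)⁻¹ = d * (g * s * g⁻¹) * d⁻¹ := by group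
          _ = s := by rw [hgs, ← B.sd]; group
      · calc d * g * z * (d * g)⁻¹ = d * (g * z * g⁻¹) * d⁻¹ := by group
          _ = z := by rw [hgz, hdz.eq]; group
      · calc d * g * v * (d * g)⁻¹ = d * (g * v * g⁻¹) * d⁻¹ := by group
          _ = v := by
              rw [← hwv, B.d_inv]
              have ed : d = ev t s d v (false, false, false, true, false) := by simp [ev]
              have ev' : v = ev t s d v (false, false, false, false, true) := by simp [ev]
              calc d * ev t s d v (false, false, true, false, true) * d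
                  = ev t s d v (false, false, false, true, false) *
                      ev t s d v (false, false, true, false, true) *
                      ev t s d v (false, false, false, true, false) := by rw [← ed]
                _ = ev t s d v (false, false, false, false, true) := by
                    rw [B.ev_mul, B.ev_mul]; rfl
                _ = v := ev'.symm
  -- the image of `d`
  obtain ⟨⟨a, i, k, e, f⟩, hwd⟩ := B.mem_T.mp (hg1 d B.d_mem_T)
  obtain rfl : f = false := by
    by_contra hf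
    have hd2 := congrArg (fun x => x) hwd
    have hsq : ev t s d v (a, i, k, e, f) * ev t s d v (a, i, k, e, f) = 1 := by
      rw [hwd]
      calc g1 * d * g1⁻¹ * (g1 * d * g1⁻¹) = g1 * (d * d) * g1⁻¹ := by group
        _ = 1 := by rw [B.d_sq]; group
    rw [B.ev_mul, ← B.ev_one] at hsq
    have h2 := B.ev_inj hsq
    obtain rfl : e = false := by
      revert h2 hf; clear * -; revert a i k e f; decide
    have hcm : g1 * d * g1⁻¹ * (g1 * v * g1⁻¹) = g1 * v * g1⁻¹ * (g1 * d * g1⁻¹) := by
      have h : ev t s d v (a, i, k, false, f) * ev t s d v (false, false, false, false, true) =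
          ev t s d v (false, false, false, false, true) * ev t s d v (a, i, k, false, f) := by
        rw [B.ev_mul, B.ev_mul]
        congr 1; clear * -; revert a i k f; decide
      rw [hwd, ev_v] at h
      rw [h1v]
      exact h
    have h' : d * v = v * d := by
      apply (MulAut.conj g1).injective
      rw [MulAut.conj_apply, MulAut.conj_apply]
      calc g1 * (d * v) * g1⁻¹ = g1 * d * g1⁻¹ * (g1 * v * g1⁻¹) := by group
        _ = g1 * v * g1⁻¹ * (g1 * d * g1⁻¹) := hcm
        _ = _ := by group
    exact B.z_ne_one (mul_left_cancel (a := d * v) (by rw [← B.vd, mul_one, h']))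
  obtain rfl : e = true := by
    by_contra he
    have he' : e = false := by simpa using he
    subst he'
    have hcm : g1 * d * g1⁻¹ * (g1 * v * g1⁻¹) = g1 * v * g1⁻¹ * (g1 * d * g1⁻¹) := by
      have h : ev t s d v (a, i, k, false, false) * ev t s d v (false, false, false, false, true) =
          ev t s d v (false, false, false, false, true) * ev t s d v (a, i, k, false, false) := by
        rw [B.ev_mul, B.ev_mul]
        congr 1; clear * -; revert a i k; decide
      rw [hwd, ev_v] at h
      rw [h1v]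
      exact h
    have h' : d * v = v * d := by
      apply (MulAut.conj g1).injective
      rw [MulAut.conj_apply, MulAut.conj_apply]
      calc g1 * (d * v) * g1⁻¹ = g1 * d * g1⁻¹ * (g1 * v * g1⁻¹) := by group
        _ = g1 * v * g1⁻¹ * (g1 * d * g1⁻¹) := hcm
        _ = _ := by group
    exact B.z_ne_one (mul_left_cancel (a := d * v) (by rw [← B.vd, mul_one, h']))
  obtain rfl : a = false := by
    by_contra ha
    have ha' : a = true := by simpa using ha
    subst ha'
    have hK : IsConj t (g1 * d * g1⁻¹) := by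
      rw [← hwd]; exact (B.isConj_ev_four hF _).mpr ⟨rfl, by clear * -; revert i k; decide⟩
    rw [isConj_conj, show d = ev t s d v (false, false, false, true, false) by simp [ev]] at hK
    exact Bool.false_ne_true ((B.isConj_ev_four hF _).mp hK).1
  -- normalise by the element of order three
  set ρ' := g1 * ρ * g1⁻¹ with hρ'
  have hρt : ρ * t = t * ρ := B.mem_C_of_mem H.ρ_mem
  have hρts : ρ * (t * s) = t * s * ρ := by
    rw [← mul_assoc, hρt, mul_assoc, H.ρ_s, mul_assoc]
  have h1ts : g1 * (t * s) * g1⁻¹ = t := by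
    calc g1 * (t * s) * g1⁻¹ = g1 * t * g1⁻¹ * (g1 * s * g1⁻¹) := by group
      _ = t := by rw [h1t, h1s, mul_assoc, B.s_sq, mul_one]
  have hρ'v : ρ' * v * ρ'⁻¹ = v * z := by
    conv_lhs => rw [← h1v]
    calc ρ' * (g1 * v * g1⁻¹) * ρ'⁻¹ = g1 * (ρ * v * ρ⁻¹) * g1⁻¹ := by rw [hρ']; group
      _ = g1 * v * g1⁻¹ * (g1 * z * g1⁻¹) := by rw [H.ρ_v, ← hz]; group
      _ = _ := by rw [h1v, h1z]
  obtain ⟨⟨w1, w2⟩, hw⟩ := H.ρ_unique ρ' (by
      conv_lhs => rw [← h1ts]
      calc ρ' * (g1 * (t * s) * g1⁻¹) = g1 * (ρ * (t * s)) * g1⁻¹ := by rw [hρ']; group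
        _ = g1 * (t * s) * g1⁻¹ * ρ' := by rw [hρts, hρ']; group
        _ = t * ρ' := by rw [h1ts]) (by
      conv_lhs => rw [← h1s]
      calc ρ' * (g1 * s * g1⁻¹) = g1 * (ρ * s) * g1⁻¹ := by rw [hρ']; group
        _ = g1 * s * g1⁻¹ * ρ' := by rw [H.ρ_s, hρ']; group
        _ = s * ρ' := by rw [h1s]) (by
      calc ρ' * ρ' * ρ' = g1 * (ρ * ρ * ρ) * g1⁻¹ := by rw [hρ']; group
        _ = 1 := by rw [H.ρ_cube]; group) (by
      rw [← hz]
      conv_lhs => rw [← h1z]
      calc ρ' * (g1 * z * g1⁻¹) * ρ'⁻¹ = g1 * (ρ * z * ρ⁻¹) * g1⁻¹ := by rw [hρ']; group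
        _ = v := by rw [hz, H.ρ_z, h1v]) hρ'v
  simp only [← hz] at hw
  set w := bp w1 z * bp w2 v with hwdef
  have ew : w = ev t s d v (false, false, w1, false, w2) := by simp [hwdef, ev, ← hz]
  have hwinv : w⁻¹ = w := by
    rw [ew, B.ev_inv]; congr 1; clear * -; revert w1 w2; decide
  set q0 := w * g1 with hq0
  have hconjw : ∀ x : W5, w * ev t s d v x * w⁻¹ =
      ev t s d v (W5.mul (W5.mul (false, false, w1, false, w2) x)
        (W5.inv (false, false, w1, false, w2))) := fun x => by rw [ew, B.ev_conj]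
  have hqc : ∀ x : G, q0 * x * q0⁻¹ = w * (g1 * x * g1⁻¹) * w⁻¹ := fun x => by
    rw [hq0]; group
  have et : t * s = ev t s d v (true, true, false, false, false) := by simp [ev]
  have es : s = ev t s d v (false, true, false, false, false) := by simp [ev]
  have ez : z = ev t s d v (false, false, true, false, false) := by simp [ev, ← hz]
  have evv : v = ev t s d v (false, false, false, false, true) := by simp [ev]
  have q_t : q0 * t * q0⁻¹ = t * s := by
    rw [hqc, h1t, et, hconjw]; congr 1; clear * -; revert w1 w2; decide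
  have q_s : q0 * s * q0⁻¹ = s := by
    rw [hqc, h1s]; nth_rewrite 1 [es]; rw [hconjw]; conv_rhs => rw [es]
    congr 1; clear * -; revert w1 w2; decide
  have q_z : q0 * z * q0⁻¹ = z := by
    rw [hqc, h1z, ez, hconjw]; congr 1; clear * -; revert w1 w2; decide
  have q_v : q0 * v * q0⁻¹ = v := by
    rw [hqc, h1v]; nth_rewrite 1 [evv]; rw [hconjw]; conv_rhs => rw [evv]
    congr 1; clear * -; revert w1 w2; decide
  have q_d0 : q0 * d * q0⁻¹ = ev t s d v (false, i, xor k w2, true, false) := by
    rw [hqc, ← hwd, hconjw]; congr 1; clear * -; revert w1 w2 i k; decide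
  have q_ρ : q0 * ρ * q0⁻¹ = ρ := by
    rw [hqc, ← hρ', hw]
    calc w * (w * ρ * w⁻¹) * w⁻¹ = w * w * ρ * (w * w)⁻¹ := by group
      _ = ρ := by
          have : w * w = 1 := by conv_lhs => arg 1; rw [← hwinv]
                                 group
          rw [this]; group
  have hzρ : z * ρ * z ≠ ρ := fun h => by
    have h' : ρ * z * ρ⁻¹ = z := by
      calc ρ * z * ρ⁻¹ = z * ρ * z * z * ρ⁻¹ := by rw [h]
        _ = z * ρ * (z * z) * ρ⁻¹ := by group
        _ = z := by rw [hzz]; group
    rw [hz, H.ρ_z, ← hz] at h'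
    have := B.faithful (false, false, true, false, true) (by
      simp only [ev, bp_true, bp_false, one_mul, mul_one, ← hz]
      rw [h']; exact hz ▸ B.z_sq)
    exact absurd this (by decide)
  have q_d : q0 * d * q0⁻¹ = d * bp i s := by
    have hk : xor k w2 = false := by
      by_contra hk
      have hk' : xor k w2 = true := by simpa using hk
      rw [hk'] at q_d0
      apply hzρ
      have hd' : q0 * d * q0⁻¹ = bp i s * z * d := by rw [q_d0]; simp [ev, ← hz]
      have hsρ : Commute (bp i s) ρ := by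
        cases i
        · exact Commute.one_left _
        · exact H.ρ_s.symm
      have hsd : Commute (bp i s) d := by
        cases i
        · exact Commute.one_left _
        · exact B.sd
      have hsz : Commute (bp i s) z := by
        cases i
        · exact Commute.one_left _
        · exact hz ▸ B.sz
      have hss : bp i s * bp i s = 1 := by rw [bp_mul_bp B.s_sq]; simp
      have key : q0 * (d * ρ * d) * q0⁻¹ = ρ⁻¹ := by
        rw [H.ρ_d, show q0 * ρ⁻¹ * q0⁻¹ = (q0 * ρ * q0⁻¹)⁻¹ by group, q_ρ]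
      have key2 : bp i s * z * d * ρ * (bp i s * z * d) = d * ρ * d := by
        rw [← hd', H.ρ_d, ← key]
        conv_lhs => arg 1; arg 2; rw [← q_ρ]
        group
      calc z * ρ * z = d * d * (z * ρ * z) * (d * d) := by rw [B.d_sq, one_mul, mul_one]
        _ = d * (d * (z * ρ * z) * d) * d := by group
        _ = d * (bp i s * z * d * ρ * (bp i s * z * d)) * d := by
            congr 2
            calc d * (z * ρ * z) * d = (d * z) * ρ * (z * d) := by group
              _ = (bp i s * bp i s) * ((z * d) * ρ * (z * d)) := by rw [hss, one_mul, hdz.eq]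
              _ = bp i s * ((bp i s * z) * d * ρ * (z * d)) := by group
              _ = bp i s * (z * d * ρ * (bp i s * (z * d))) := by
                  have h3 : Commute (bp i s) (z * d * ρ) := (hsz.mul_right hsd).mul_right hsρ
                  calc bp i s * ((bp i s * z) * d * ρ * (z * d))
                      = bp i s * (bp i s * (z * d * ρ) * (z * d)) := by group
                    _ = _ := by rw [h3.eq]; group
              _ = _ := by group
        _ = d * (d * ρ * d) * d := by rw [key2]
        _ = d * d * ρ * (d * d) := by group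
        _ = ρ := by rw [B.d_sq, one_mul, mul_one]
    rw [q_d0, hk]
    simp [ev]
    cases i
    · simp
    · simpa using B.sd
  -- the square
  set u := q0 * q0 with hu
  have hcomm : ∀ x, q0 * (q0 * x * q0⁻¹) * q0⁻¹ = x → u * x = x * u := fun x hx => by
    refine B.conj_inv_of_commute ?_
    calc u * x * u⁻¹ = q0 * (q0 * x * q0⁻¹) * q0⁻¹ := by rw [hu]; group
      _ = x := hx
  have q_ts : q0 * (t * s) * q0⁻¹ = t := by
    calc q0 * (t * s) * q0⁻¹ = q0 * t * q0⁻¹ * (q0 * s * q0⁻¹) := by group
      _ = t := by rw [q_t, q_s, mul_assoc, B.s_sq, mul_one]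
  have u_t := hcomm t (by rw [q_t, q_ts])
  have u_s := hcomm s (by rw [q_s, q_s])
  have u_v := hcomm v (by rw [q_v, q_v])
  have u_d := hcomm d (by
    rw [q_d]
    have e' : q0 * (d * bp i s) * q0⁻¹ = q0 * d * q0⁻¹ * bp i s := by
      cases i
      · simp
      · calc q0 * (d * s) * q0⁻¹ = q0 * d * q0⁻¹ * (q0 * s * q0⁻¹) := by group
          _ = _ := by rw [q_s]; rfl
    rw [e', q_d, mul_assoc, bp_mul_bp B.s_sq]; simp)
  have u_ρ := hcomm ρ (by rw [q_ρ, q_ρ])
  have huT : u ∈ B.T := by
    refine B.normalizer_T u_t (B.normalize_of_gens ?_ ?_ ?_ ?_)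
    · rw [u_t]; simpa [mul_assoc] using B.t_mem_T
    · rw [u_s]; simpa [mul_assoc] using B.s_mem_T
    · rw [u_d]; simpa [mul_assoc] using B.d_mem_T
    · rw [u_v]; simpa [mul_assoc] using B.v_mem_T
  obtain ⟨⟨a, m, k', e', f'⟩, huw⟩ := B.mem_T.mp huT
  obtain ⟨rfl, rfl⟩ : e' = false ∧ f' = false := by
    have h1 : ev t s d v (a, m, k', e', f') * ev t s d v (false, false, false, true, false) =
        ev t s d v (false, false, false, true, false) * ev t s d v (a, m, k', e', f') := by
      rw [huw, show ev t s d v (false, false, false, true, false) = d by simp [ev]]; exact u_d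
    have h2 : ev t s d v (a, m, k', e', f') * ev t s d v (false, false, false, false, true) =
        ev t s d v (false, false, false, false, true) * ev t s d v (a, m, k', e', f') := by
      rw [huw, show ev t s d v (false, false, false, false, true) = v by simp [ev]]; exact u_v
    rw [B.ev_mul, B.ev_mul] at h1 h2
    have h1' := congrArg (fun w : W5 => w.2.2.1) (B.ev_inj h1)
    have h2' := congrArg (fun w : W5 => w.2.2.1) (B.ev_inj h2)
    revert h1' h2'; clear * -; revert a m k' e' f'; decide
  have hk' : k' = false := by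
    by_contra hk
    have hk'' : k' = true := by simpa using hk
    subst hk''
    have h1 : Commute (bp a t * bp m s) ρ :=
      (by cases a <;> simp [Commute.one_left, show Commute t ρ from hρt.symm] :
        Commute (bp a t) ρ).mul_left
      (by cases m <;> simp [Commute.one_left, show Commute s ρ from H.ρ_s.symm] :
        Commute (bp m s) ρ)
    have h2 : Commute (bp a t * bp m s * z) ρ := by
      have : u = bp a t * bp m s * z := by rw [← huw]; simp [ev, ← hz]
      rw [← this]; exact u_ρ
    have h3 : Commute z ρ := by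
      have := (h1.inv_left).mul_left h2
      simpa [mul_assoc] using this
    exact hzρ (by rw [h3.eq, mul_assoc, hzz, mul_one])
  subst hk'
  obtain rfl : a = false := by
    by_contra ha
    have ha' : a = true := by simpa using ha
    subst ha'
    have hfix : q0 * u * q0⁻¹ = u := by rw [hu]; group
    rw [← huw, B.conj_word] at hfix
    simp only [ev, bp_true, bp_false, mul_one, q_t] at hfix
    have : bp m (q0 * s * q0⁻¹) = bp m s := by rw [q_s]
    rw [this] at hfix
    have h' : t * s = t := mul_right_cancel hfix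
    have := B.faithful (false, true, false, false, false)
      (by simpa [ev] using (mul_left_cancel (a := t) (h'.trans (mul_one t).symm)))
    exact absurd this (by decide)
  have humem : u = bp m s := by rw [← huw]; simp [ev]
  cases m
  · exact ⟨q0, i, by rw [← hu, humem]; rfl, q_t, q_s, q_z, q_d, q_v⟩
  · have htconj : ∀ x ∈ B.T, q0 * t * x * (q0 * t)⁻¹ = q0 * x * q0⁻¹ := fun x hx => by
      have := Subgroup.mem_centralizer_singleton_iff.mp (B.T_le hx)
      calc q0 * t * x * (q0 * t)⁻¹ = q0 * (t * x) * t⁻¹ * q0⁻¹ := by group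
        _ = _ := by rw [← this]; group
    refine ⟨q0 * t, i, ?_, by rw [htconj t B.t_mem_T, q_t], by rw [htconj s B.s_mem_T, q_s],
      by rw [htconj _ (by rw [← hz, ez]; exact B.ev_mem_T _)]; exact q_z, by rw [htconj d B.d_mem_T, q_d],
      by rw [htconj v B.v_mem_T, q_v]⟩
    calc q0 * t * (q0 * t) = q0 * t * q0⁻¹ * u * t := by rw [hu]; group
      _ = t * (s * s) * t := by rw [q_t, humem, bp_true]; group
      _ = 1 := by rw [B.s_sq, mul_one, B.t_sq]

end Base

/-- Two swapping involutions `q : t ↦ t s` and `r : t ↦ t c` with `(q r)² = s^μ z^ν`. -/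
structure Pair (t s d v q r : G) (i j μ ν : Bool) : Prop where
  q_sq : q * q = 1
  r_sq : r * r = 1
  q_t : q * t * q⁻¹ = t * s
  q_s : q * s * q⁻¹ = s
  q_z : q * (d * v * (d * v)) * q⁻¹ = d * v * (d * v)
  q_d : q * d * q⁻¹ = d * bp i s
  q_v : q * v * q⁻¹ = v
  r_t : r * t * r⁻¹ = t * (s * (d * v * (d * v)))
  r_s : r * s * r⁻¹ = s
  r_z : r * (d * v * (d * v)) * r⁻¹ = d * v * (d * v)
  r_d : r * d * r⁻¹ = d
  r_v : r * v * r⁻¹ = v * bp j (s * (d * v * (d * v)))
  qr : q * r * (q * r) = bp μ s * bp ν (d * v * (d * v))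

omit [Finite G] in
lemma commute_of_conj {g x : G} (h : g * x * g⁻¹ = x) : Commute g x := by
  show g * x = x * g
  calc g * x = g * x * g⁻¹ * g := by group
    _ = x * g := by rw [h]

namespace Pair

variable {q r : G} {i j μ ν : Bool}

omit [Finite G] in
/-- Exchanging the roles of the two frames. -/
theorem mirror (P : Pair t s d v q r i j μ ν) (B : Base t E s d v) :
    Pair t (s * (d * v * (d * v))) (v * s) (d * s) r q j i μ (xor μ ν) := by
  have hz := B.z_mirror
  refine ⟨P.r_sq, P.q_sq, P.r_t, ?_, by rw [hz]; exact P.r_z, ?_, ?_, ?_, ?_, by rw [hz]; exact P.q_z,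
    ?_, ?_, ?_⟩
  · calc _ = r * s * r⁻¹ * (r * (d * v * (d * v)) * r⁻¹) := by group
      _ = _ := by rw [P.r_s, P.r_z]
  · calc _ = r * v * r⁻¹ * (r * s * r⁻¹) := by group
      _ = v * s * bp j (s * (d * v * (d * v))) := by
          rw [P.r_s, P.r_v]
          have h : Commute (bp j (s * (d * v * (d * v)))) s := by
            cases j
            · exact Commute.one_left _
            · exact ((Commute.refl s).mul_left B.sz.symm)
          rw [mul_assoc, h.eq, ← mul_assoc]
  · calc _ = r * d * r⁻¹ * (r * s * r⁻¹) := by group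
      _ = _ := by rw [P.r_s, P.r_d]
  · rw [hz, P.q_t]; congr 1; rw [mul_assoc, B.z_sq, mul_one]
  · calc _ = q * s * q⁻¹ * (q * (d * v * (d * v)) * q⁻¹) := by group
      _ = _ := by rw [P.q_s, P.q_z]
  · calc _ = q * v * q⁻¹ * (q * s * q⁻¹) := by group
      _ = _ := by rw [P.q_s, P.q_v]
  · rw [hz, show s * (d * v * (d * v)) * (d * v * (d * v)) = s by rw [mul_assoc, B.z_sq, mul_one]]
    calc _ = q * d * q⁻¹ * (q * s * q⁻¹) := by group
      _ = d * s * bp i s := by
          rw [P.q_s, P.q_d]
          cases i <;> simp [mul_assoc]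
  · rw [hz]
    have hrq : r * q * (r * q) = (q * r * (q * r))⁻¹ := by
      have hq : q⁻¹ = q := inv_eq_of_mul_eq_one_right P.q_sq
      have hr : r⁻¹ = r := inv_eq_of_mul_eq_one_right P.r_sq
      rw [mul_inv_rev, mul_inv_rev, hq, hr]
    rw [hrq, P.qr]
    have es := inv_eq_of_mul_eq_one_right B.s_sq
    have ez := inv_eq_of_mul_eq_one_right B.z_sq
    cases μ <;> cases ν <;> simp only [bp_true, bp_false, mul_one, one_mul, Bool.false_xor,
      Bool.true_xor, Bool.not_true, Bool.not_false, inv_one, es, ez, mul_inv_rev]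
    · rw [mul_assoc, B.z_sq, mul_one]
    · exact B.sz.eq.symm

end Pair

/-- In the Klein case two swapping involutions exist. -/
theorem Base.exists_pair (B : Base t E s d v) (hF : Four t E) {ρ π ρ' π' : G}
    (H : Half t E s d v ρ π)
    (H' : Half t E (s * (d * v * (d * v))) (v * s) (d * s) ρ' π') {g k : G}
    (hg : ∀ y ∈ B.T, g * y * g⁻¹ ∈ B.T) (hk : ∀ y ∈ B.T, k * y * k⁻¹ ∈ B.T)
    (hgt : g * t * g⁻¹ = t * s) (hgts : g * (t * s) * g⁻¹ = t)
    (hkt : k * t * k⁻¹ = t * (s * (d * v * (d * v))))
    (hktc : k * (t * (s * (d * v * (d * v)))) * k⁻¹ = t) :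
    ∃ q r i j μ ν, Pair t s d v q r i j μ ν := by
  set z := d * v * (d * v) with hz
  have hzz : z * z = 1 := B.z_sq
  obtain ⟨q, i, hq⟩ := B.exists_swap hF H hg hgt hgts
  have hTT : B.mirror.T = B.T := Subgroup.ext fun x => by
    rw [B.mirror.mem_T, B.mem_T, B.range_mirror]
  obtain ⟨r, j, hr⟩ := B.mirror.exists_swap hF H' (hTT.symm ▸ hk) hkt hktc
  have hzm : v * s * (d * s) * (v * s * (d * s)) = z := B.z_mirror
  have hqs := hq.conj_s
  have hqz : q * z * q⁻¹ = z := hq.conj_z
  have hqd := hq.conj_d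
  have hqv := hq.conj_v
  have hrz : r * z * r⁻¹ = z := hzm ▸ hr.conj_z
  have hrc : r * (s * z) * r⁻¹ = s * z := hr.conj_s
  have hrs : r * s * r⁻¹ = s := by
    have e : s = s * z * z := by rw [mul_assoc, hzz, mul_one]
    conv_lhs => rw [e]
    calc r * (s * z * z) * r⁻¹ = r * (s * z) * r⁻¹ * (r * z * r⁻¹) := by group
      _ = s := by rw [hrc, hrz, ← e]
  have hrd : r * d * r⁻¹ = d := by
    have h := hr.conj_v
    have e : d = d * s * s := by rw [mul_assoc, B.s_sq, mul_one]
    conv_lhs => rw [e]
    calc r * (d * s * s) * r⁻¹ = r * (d * s) * r⁻¹ * (r * s * r⁻¹) := by group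
      _ = d := by rw [h, hrs, ← e]
  have hrv : r * v * r⁻¹ = v * bp j (s * z) := by
    have h := hr.conj_d
    have hcs : Commute (bp j (s * z)) s := by
      cases j
      · exact Commute.one_left _
      · exact ((Commute.refl s).mul_left (hz ▸ B.sz).symm)
    have e : v = v * s * s := by rw [mul_assoc, B.s_sq, mul_one]
    conv_lhs => rw [e]
    calc r * (v * s * s) * r⁻¹ = r * (v * s) * r⁻¹ * (r * s * r⁻¹) := by group
      _ = v * s * bp j (s * z) * s := by rw [h, hrs]
      _ = v * bp j (s * z) := by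
          rw [mul_assoc (v * s), hcs.eq, ← mul_assoc, mul_assoc v, B.s_sq, mul_one]
  set u := q * r * (q * r) with hu
  have hqts : q * (t * s) * q⁻¹ = t := by
    calc q * (t * s) * q⁻¹ = q * t * q⁻¹ * (q * s * q⁻¹) := by group
      _ = t := by rw [hq.conj_t, hqs, mul_assoc, B.s_sq, mul_one]
  have hqtc : q * (t * (s * z)) * q⁻¹ = t * z := by
    calc q * (t * (s * z)) * q⁻¹ = q * (t * s) * q⁻¹ * (q * z * q⁻¹) := by group
      _ = t * z := by rw [hqts, hqz]
  have hrtz : r * (t * z) * r⁻¹ = t * s := by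
    calc r * (t * z) * r⁻¹ = r * t * r⁻¹ * (r * z * r⁻¹) := by group
      _ = t * s := by rw [hr.conj_t, hrz, mul_assoc, mul_assoc s, hzz, mul_one]
  have huconj : ∀ x, u * x * u⁻¹ = q * (r * (q * (r * x * r⁻¹) * q⁻¹) * r⁻¹) * q⁻¹ := fun x => by
    rw [hu]; group
  have hut : u * t * u⁻¹ = t := by rw [huconj, hr.conj_t, hqtc, hrtz, hqts]
  have hus : u * s * u⁻¹ = s := by rw [huconj, hrs, hqs, hrs, hqs]
  have hud : u * d * u⁻¹ = d := by
    have hb : ∀ g : G, g * s * g⁻¹ = s → g * bp i s * g⁻¹ = bp i s := fun g h => by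
      cases i <;> simp [h]
    have hdd : ∀ g : G, g * (d * bp i s) * g⁻¹ = g * d * g⁻¹ * (g * bp i s * g⁻¹) := fun g => by
      group
    rw [huconj, hrd, hqd, hdd, hrd, hb r hrs, hdd, hqd, hb q hqs, mul_assoc,
      bp_mul_bp B.s_sq, Bool.xor_self, bp_false, mul_one]
  have huv : u * v * u⁻¹ = v := by
    have hb : ∀ g : G, g * (s * z) * g⁻¹ = s * z →
        g * bp j (s * z) * g⁻¹ = bp j (s * z) := fun g h => by
      cases j <;> simp [h]
    have hqc : q * (s * z) * q⁻¹ = s * z := by
      calc q * (s * z) * q⁻¹ = q * s * q⁻¹ * (q * z * q⁻¹) := by group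
        _ = _ := by rw [hqs, hqz]
    have hvv : ∀ g : G, g * (v * bp j (s * z)) * g⁻¹ =
        g * v * g⁻¹ * (g * bp j (s * z) * g⁻¹) := fun g => by group
    have hcc : s * z * (s * z) = 1 := hz ▸ B.mirror.s_sq
    rw [huconj, hrv, hvv, hqv, hb q hqc, hvv, hrv, hb r hrc, mul_assoc v, bp_mul_bp hcc,
      Bool.xor_self, bp_false, mul_one, hqv]
  have huT : u ∈ B.T := by
    refine B.normalizer_T (B.conj_inv_of_commute hut) (B.normalize_of_gens ?_ ?_ ?_ ?_)
    · rw [hut]; exact B.t_mem_T
    · rw [hus]; exact B.s_mem_T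
    · rw [hud]; exact B.d_mem_T
    · rw [huv]; exact B.v_mem_T
  obtain ⟨⟨a, μ, ν, e, f⟩, hw⟩ := B.mem_T.mp huT
  obtain ⟨rfl, rfl⟩ : e = false ∧ f = false := by
    have h1 : ev t s d v (a, μ, ν, e, f) * ev t s d v (false, false, false, true, false) =
        ev t s d v (false, false, false, true, false) * ev t s d v (a, μ, ν, e, f) := by
      rw [hw, ev_d]; exact B.conj_inv_of_commute hud
    have h2 : ev t s d v (a, μ, ν, e, f) * ev t s d v (false, false, false, false, true) =
        ev t s d v (false, false, false, false, true) * ev t s d v (a, μ, ν, e, f) := by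
      rw [hw, ev_v]; exact B.conj_inv_of_commute huv
    rw [B.ev_mul, B.ev_mul] at h1 h2
    have h1' := congrArg (fun w : W5 => w.2.2.1) (B.ev_inj h1)
    have h2' := congrArg (fun w : W5 => w.2.2.1) (B.ev_inj h2)
    revert h1' h2'; clear * -; revert a μ ν e f; decide
  obtain rfl : a = false := by
    by_contra ha
    have ha' : a = true := by simpa using ha
    subst ha'
    have hu2 : u⁻¹ = u := by rw [← hw, B.ev_inv]; congr 1; clear * -; revert μ ν; decide
    have hq' : q⁻¹ = q := inv_eq_of_mul_eq_one_right hq.sq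
    have hr' : r⁻¹ = r := inv_eq_of_mul_eq_one_right hr.sq
    have hinv : q * u * q⁻¹ = u⁻¹ := by
      rw [hu, mul_inv_rev, mul_inv_rev, hq', hr']
      calc q * (q * r * (q * r)) * q = q * q * (r * (q * r)) * q := by group
        _ = r * q * (r * q) := by rw [hq.sq]; group
    rw [hu2, ← hw, B.conj_word] at hinv
    simp only [ev, bp_true, bp_false, mul_one, hq.conj_t, hqs, ← hz, hqz] at hinv
    have h : t * s = t := mul_right_cancel (mul_right_cancel hinv)
    exact absurd (B.faithful (false, true, false, false, false)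
      (by simpa [ev] using (mul_left_cancel (a := t) (h.trans (mul_one t).symm)))) (by decide)
  refine ⟨q, r, i, j, μ, ν, hq.sq, hr.sq, hq.conj_t, hqs, hqz, hqd, hqv, hr.conj_t, hrs, hrz, hrd,
    hrv, ?_⟩
  rw [← hu, ← hw]
  simp [ev, ← hz]

end CfsgLib.TwoTimesSym
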