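import Cfsg.Agent.Lib.Recognition.TwoTimesSym.Translations

/-!
# The Klein case with `q` a translation of `A₁`
-/

set_option linter.unusedSectionVars false

namespace CfsgLib.TwoTimesSym

/-- Words in a set of classes. -/
lemma ncard_classes (f P : K5 → Bool) :
    {w : W7 | f (W7.key w) = true ∧ P (W7.key w) = true}.ncard = 4 * W7.cnt f P := by
  set L := W7.allK.filter fun k => f k && P k with hL
  have e : {w : W7 | f (W7.key w) = true ∧ P (W7.key w) = true} =
      ↑(L.toFinset.biUnion fun k => Finset.univ.filter fun w => W7.key w = k) := by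
    ext w
    simp only [Set.mem_ofPred_eq, Finset.mem_coe, Finset.mem_biUnion, List.mem_toFinset,
      Finset.mem_filter, Finset.mem_univ, true_and, hL, List.mem_filter, Bool.and_eq_true]
    exact ⟨fun h => ⟨_, ⟨W7.mem_allK _, h⟩, rfl⟩, fun ⟨k, ⟨_, h⟩, hk⟩ => hk ▸ h⟩
  rw [e, Set.ncard_coe_finset, Finset.card_biUnion (fun k _ l _ hkl => by
      rw [Function.onFun, Finset.disjoint_filter]
      exact fun w _ h1 h2 => hkl (h1 ▸ h2)),
    Finset.sum_const_nat (m := 4) (fun k _ => by
      clear * -
      have : ∀ k : K5, (Finset.univ.filter fun w : W7 => W7.key w = k).card = 4 := by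
        decide +kernel
      exact this k), List.toFinset_card_of_nodup (List.Nodup.filter _ (by decide)), mul_comm,
    W7.cnt]

variable {G : Type*} [Group G] [Finite G] {t : G} {E : Subgroup G} {s d v ρ π q r : G}
  {j μ ν : Bool}

/-- The case `i = false` of the Klein case is impossible. -/
theorem Pair.not_translation (P : Pair t s d v q r false j μ ν) (B : Base t E s d v)
    (hG : NoIndexTwo G) (hF : Four t E) (H : Half t E s d v ρ π)
    (cn2 : CentNorm t (A2set t s d v)) : False := by
  classical
  have : Fintype G := Fintype.ofFinite G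
  have cn1 := H.cn
  obtain ⟨f, hf, hconcl⟩ := P.pattern B hG hF
  simp only [W7.concl, Bool.false_eq_true, if_false, Bool.and_eq_true, Bool.or_eq_true,
    Bool.not_eq_true', beq_iff_eq] at hconcl
  obtain ⟨hq, hcase⟩ := hconcl
  have hevq : ev7 t s d v q r (W7.rep (false, false, false, true, false)) = q := by
    simp [ev7, W7.rep, ev]
  have hqK : IsConj t q := by rw [← hevq, hf]; exact hq
  have hE1q : ∀ e ∈ B.E1, e * q = q * e := by
    intro e he
    obtain ⟨⟨a, m, n, c, g⟩, h1, h2, rfl⟩ := B.mem_E1.mp he
    obtain rfl : a = false := h1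
    obtain rfl : g = false := h2
    have h := P.conj_q B (false, m, n, c, false)
    have hσ : W7.σq false (false, m, n, c, false) = (false, m, n, c, false) := by simp [W7.σq]
    rw [hσ] at h
    calc ev t s d v (false, m, n, c, false) * q
        = q * ev t s d v (false, m, n, c, false) * q⁻¹ * q := by rw [h]
      _ = _ := by group
  have hE1r : ∀ e ∈ B.E1, e * r = r * e := by
    intro e he
    obtain ⟨⟨a, m, n, c, g⟩, h1, h2, rfl⟩ := B.mem_E1.mp he
    obtain rfl : a = false := h1
    obtain rfl : g = false := h2
    have h := P.conj_r B (false, m, n, c, false)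
    have hσ : W7.σr j (false, m, n, c, false) = (false, m, n, c, false) := by simp [W7.σr]
    rw [hσ] at h
    calc ev t s d v (false, m, n, c, false) * r
        = r * ev t s d v (false, m, n, c, false) * r⁻¹ * r := by rw [h]
      _ = _ := by group
  -- `q` and `r` do not commute
  rcases hcase with ⟨hμ, hν⟩ | ⟨⟨hng, hnq⟩, hnch⟩
  · subst hμ hν
    have hrq : r * q = q * r := by
      have h := P.qr
      simp only [bp_false, mul_one] at h
      have hq' : q⁻¹ = q := inv_eq_of_mul_eq_one_right P.q_sq
      have hr' : r⁻¹ = r := inv_eq_of_mul_eq_one_right P.r_sq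
      calc r * q = (q * r)⁻¹ := by rw [mul_inv_rev, hq', hr']
        _ = q * r := inv_eq_of_mul_eq_one_right h
    rcases B.comm_ax_mem hF cn1 cn2 hqK hE1q hrq hE1r with h | ⟨e, he, h⟩
    · obtain ⟨w, -, -, hw⟩ := B.mem_E1.mp h
      have : ev7 t s d v q r (w, false, false) = ev7 t s d v q r (W5.one, false, true) := by
        rw [P.ev7_T B, hw]; simp [ev7, B.ev_one]
      simpa using P.ev7_inj B this
    · obtain ⟨w, -, -, hw⟩ := B.mem_E1.mp he
      have : ev7 t s d v q r (w, true, false) = ev7 t s d v q r (W5.one, false, true) := by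
        have h' : q * e = r := h
        have hc : e * q = q * e := hE1q e he
        simp [ev7, B.ev_one, hw, hc, h']
      simpa using P.ev7_inj B this
  -- the translation group
  · have htK : IsConj t t := IsConj.refl t
    have htE : ∀ e ∈ B.E1, e * t = t * e := fun e he =>
      Subgroup.mem_centralizer_singleton_iff.mp (B.T_le (B.A1_le_T he.1))
    have htA1 : t ∈ B.A1 := by
      have h := (B.ev_mem_A1 (w := (true, false, false, false, false))).mpr rfl
      rwa [ev_t] at h
    have hA1ax : B.axSet t = (B.A1 : Set G) := by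
      refine Set.eq_of_subset_of_ncard_le ?_ ?_ (Set.toFinite _)
      · rintro y (hy | ⟨e, he, rfl⟩)
        · exact hy.1
        · exact B.A1.mul_mem htA1 he.1
      · rw [(B.ax_props hF htK htE).2.2, ← Nat.card_coe_set_eq]
        exact le_of_eq B.card_A1
    set Q := B.trans t with hQ
    have memQ : ∀ g, g ∈ Q ↔ (∀ e ∈ B.E1, e * g = g * e) ∧ ∀ y ∈ B.A1, g * y * g⁻¹ ∈ B.A1 := by
      intro g
      rw [hQ, B.mem_trans, hA1ax]
      rfl
    have memQ_of : ∀ g, (∀ e ∈ B.E1, e * g = g * e) → g * t * g⁻¹ ∈ B.A1 → g ∈ Q := by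
      intro g hgE hgt
      refine (memQ g).mpr ⟨hgE, fun y hy => ?_⟩
      have hy' : y ∈ B.axSet t := by rw [hA1ax]; exact hy
      rcases hy' with he | ⟨e, he, rfl⟩
      · rw [← hgE y he, mul_assoc, mul_inv_cancel, mul_one]; exact hy
      · have h : g * (t * e) * g⁻¹ = g * t * g⁻¹ * e := by
          calc g * (t * e) * g⁻¹ = g * t * g⁻¹ * (g * e * g⁻¹) := by group
            _ = _ := by rw [← hgE e he, mul_assoc e, mul_inv_cancel, mul_one]
        show g * (t * e) * g⁻¹ ∈ B.A1
        rw [h]; exact B.A1.mul_mem hgt he.1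
    have hπN : π ∈ Subgroup.normalizer (B.A1 : Set G) := B.π_mem_normalizer H
    have hπE : π ∈ E := H.π_mem
    have hπconj : ∀ g ∈ Q, π * g * π⁻¹ ∈ Q := by
      intro g hg
      obtain ⟨hgE, hgA⟩ := (memQ g).mp hg
      have hA : ∀ y ∈ B.A1, π⁻¹ * y * π ∈ B.A1 := fun y hy =>
        (Subgroup.mem_normalizer_iff.mp hπN _).mpr (by convert hy using 1; group)
      refine (memQ _).mpr ⟨fun e he => ?_, fun y hy => ?_⟩
      · have he' : π⁻¹ * e * π ∈ B.E1 :=
          ⟨hA e he.1, E.mul_mem (E.mul_mem (E.inv_mem hπE) he.2) hπE⟩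
        calc e * (π * g * π⁻¹) = π * (π⁻¹ * e * π * g) * π⁻¹ := by group
          _ = π * (g * (π⁻¹ * e * π)) * π⁻¹ := by rw [hgE _ he']
          _ = π * g * π⁻¹ * e := by group
      · have := (Subgroup.mem_normalizer_iff.mp hπN _).mp (hgA _ (hA y hy))
        convert this using 1; group
    have hA1t : ∀ a ∈ B.A1, a ∈ Q := fun a ha =>
      B.E1_le_trans hF htK htE (by rw [hA1ax]; exact ha)
    have et := ev_t (t := t) (s := s) (d := d) (v := v)
    have hqQ : q ∈ Q := by
      refine memQ_of q hE1q ?_
      rw [P.q_t, show t * s = ev t s d v (true, true, false, false, false) by simp [ev]]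
      exact B.ev_mem_A1.mpr rfl
    have hrQ : r ∈ Q := by
      refine memQ_of r hE1r ?_
      rw [P.r_t, show t * (s * (d * v * (d * v))) = ev t s d v (true, true, true, false, false) by
        simp [ev, mul_assoc]]
      exact B.ev_mem_A1.mpr rfl
    -- translations
    have htr : ∀ w w' : W5, w.1 = false → w.2.2.2.2 = false → w'.1 = false →
        w'.2.2.2.2 = false → ∀ g ∈ Q, ∀ h ∈ Q, g * t * g⁻¹ = t * ev t s d v w →
        h * t * h⁻¹ = t * ev t s d v w' →
        g * h * t * (g * h)⁻¹ = t * ev t s d v (W5.mul w w') := by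
      intro w w' h1 h2 h1' h2' g hg h hh hgt hht
      have he : ev t s d v w' ∈ B.E1 := B.mem_E1.mpr ⟨w', h1', h2', rfl⟩
      calc g * h * t * (g * h)⁻¹ = g * (h * t * h⁻¹) * g⁻¹ := by group
        _ = g * t * g⁻¹ * (g * ev t s d v w' * g⁻¹) := by rw [hht]; group
        _ = t * ev t s d v w * ev t s d v w' := by
            rw [hgt, ← ((memQ g).mp hg).1 _ he, mul_assoc (ev t s d v w') g, mul_inv_cancel,
              mul_one]
        _ = _ := by rw [mul_assoc, B.ev_mul]
    have hπt : π * t * π⁻¹ = t := by
      rw [B.mem_C_of_mem hπE, mul_assoc, mul_inv_cancel, mul_one]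
    have hπtr : ∀ m n c : Bool, ∀ g : G,
        g * t * g⁻¹ = t * ev t s d v (false, m, n, c, false) →
        π * g * π⁻¹ * t * (π * g * π⁻¹)⁻¹ =
          t * ev t s d v (false, n, xor n c, xor (xor m n) c, false) := by
      intro m n c g hg
      have hti : π⁻¹ * t * π = t := by
        calc π⁻¹ * t * π = π⁻¹ * (π * t * π⁻¹) * π := by rw [hπt]
          _ = t := by group
      calc π * g * π⁻¹ * t * (π * g * π⁻¹)⁻¹ = π * (g * (π⁻¹ * t * π) * g⁻¹) * π⁻¹ := by group
        _ = π * t * π⁻¹ * (π * ev t s d v (false, m, n, c, false) * π⁻¹) := by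
            rw [hti, hg]; group
        _ = _ := by rw [hπt, B.π_ev H]
    have hqt : q * t * q⁻¹ = t * ev t s d v (false, true, false, false, false) := by
      rw [P.q_t]; simp [ev]
    set q1 := π * q * π⁻¹ with hq1
    set q2 := π * q1 * π⁻¹ with hq2
    have hq1Q : q1 ∈ Q := hπconj q hqQ
    have hq2Q : q2 ∈ Q := hπconj q1 hq1Q
    have hq1t : q1 * t * q1⁻¹ = t * ev t s d v (false, false, false, true, false) :=
      hπtr true false false q hqt
    have hq2t : q2 * t * q2⁻¹ = t * ev t s d v (false, false, true, true, false) :=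
      hπtr false false true q1 hq1t
    have hrt : r * t * r⁻¹ = t * ev t s d v (false, true, true, false, false) := by
      rw [P.r_t]; simp [ev]
    have horbit : ∀ m n c : Bool, ∃ g ∈ Q,
        g * t * g⁻¹ = t * ev t s d v (false, m, n, c, false) := by
      have h0 : ∃ g ∈ Q, g * t * g⁻¹ = t * ev t s d v (false, false, false, false, false) :=
        ⟨1, Q.one_mem, by simp [ev]⟩
      have step : ∀ (w : W5) (x : G), w.1 = false → w.2.2.2.2 = false → x ∈ Q →
          x * t * x⁻¹ = t * ev t s d v w → ∀ w' : W5, w'.1 = false → w'.2.2.2.2 = false →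
          (∃ g ∈ Q, g * t * g⁻¹ = t * ev t s d v w') →
          ∃ g ∈ Q, g * t * g⁻¹ = t * ev t s d v (W5.mul w w') := by
        intro w x h1 h2 hx hxt w' h1' h2' ⟨g, hg, hgt⟩
        exact ⟨x * g, Q.mul_mem hx hg, htr w w' h1 h2 h1' h2' x hx g hg hxt hgt⟩
      have hs := step _ q rfl rfl hqQ hqt
      have hd := step _ q1 rfl rfl hq1Q hq1t
      have hdz := step _ q2 rfl rfl hq2Q hq2t
      intro m n c
      cases m <;> cases n <;> cases c
      · exact h0
      · exact hd _ rfl rfl h0
      · exact hd _ rfl rfl (hdz _ rfl rfl h0)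
      · exact hdz _ rfl rfl h0
      · exact hs _ rfl rfl h0
      · exact hs _ rfl rfl (hd _ rfl rfl h0)
      · exact hs _ rfl rfl (hd _ rfl rfl (hdz _ rfl rfl h0))
      · exact hs _ rfl rfl (hdz _ rfl rfl h0)
    have hQcard : Nat.card Q = 128 := by
      obtain ⟨h1, h2⟩ := B.card_trans hF cn1 cn2 htK htE
      refine le_antisymm h2 ?_
      rw [← hQ] at h1
      rw [← h1]
      have hsub : (fun e => t * e) '' (B.E1 : Set G) ⊆ (fun n => n * t * n⁻¹) '' (Q : Set G) := by
        rintro _ ⟨e, he, rfl⟩
        obtain ⟨⟨a, m, n, c, g⟩, ha, hg, rfl⟩ := B.mem_E1.mp he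
        obtain rfl : a = false := ha
        obtain rfl : g = false := hg
        obtain ⟨x, hx, hxt⟩ := horbit m n c
        exact ⟨x, hx, hxt⟩
      have h := Set.ncard_le_ncard hsub (Set.toFinite _)
      have h8 : (B.E1 : Set G).ncard = 8 := by rw [← Nat.card_coe_set_eq]; exact B.card_E1
      rw [Set.ncard_image_of_injective _ (mul_right_injective t), h8] at h
      omega
    have hPeq : ∀ y ∈ Q, IsConj t y → B.trans y = Q := by
      intro y hy hyt
      refine B.trans_eq hF cn1 cn2 htK htE hy hyt ?_
      have h := (B.card_trans hF cn1 cn2 hyt ((memQ y).mp hy).1).2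
      rw [show Nat.card (B.trans t) = 128 from hQcard]
      exact h
    -- every point has an orbit of length eight in `Q`
    have horb8 : ∀ y ∈ Q, IsConj t y →
        ((fun n => n * y * n⁻¹) '' (Q : Set G)).ncard = 8 := by
      intro y hy hyt
      have h := (B.card_trans hF cn1 cn2 hyt ((memQ y).mp hy).1).1
      rw [hPeq y hy hyt, hQcard] at h
      omega
    have hsame : ∀ y ∈ Q, IsConj t y → ∀ n ∈ Q,
        n * y * n⁻¹ * t * (n * y * n⁻¹)⁻¹ = y * t * y⁻¹ := by
      intro y hy hyt n hn
      obtain ⟨e, he, h⟩ := B.conj_mem_coset hF cn1 cn2 htK htE hn hy hyt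
      rw [h]
      calc y * e * t * (y * e)⁻¹ = y * (e * t * e⁻¹) * y⁻¹ := by group
        _ = y * t * y⁻¹ := by rw [htE e he, mul_assoc t, mul_inv_cancel, mul_one]
    -- counting the conjugates of `t` in `Q`
    set F : W5 → Set G := fun w => {y | y ∈ Q ∧ IsConj t y ∧ y * t * y⁻¹ = t * ev t s d v w}
      with hFdef
    have hFπ : ∀ m n c : Bool, (F (false, n, xor n c, xor (xor m n) c, false)).ncard =
        (F (false, m, n, c, false)).ncard := by
      intro m n c
      rw [← Set.ncard_image_of_injective (F (false, m, n, c, false)) (MulAut.conj π).injective]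
      refine congrArg Set.ncard (Set.ext fun y => ?_)
      simp only [hFdef, Set.mem_image, Set.mem_ofPred_eq, MulAut.conj_apply]
      constructor
      · rintro ⟨hy, hyt, hy2⟩
        have hQi : π⁻¹ * y * π ∈ Q := by
          have h' : π * (π * (π⁻¹ * y * π) * π⁻¹) * π⁻¹ = π * y * π⁻¹ := by group
          refine (conj_mem_iff (H := Q) hπconj _).mpr ?_
          convert hy using 1; group
        refine ⟨π⁻¹ * y * π, ⟨hQi, ?_, ?_⟩, by group⟩
        · have := (isConj_conj t y π⁻¹).mpr hyt; simpa using this
        · have h1 : π⁻¹ * t * π = t := by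
            calc π⁻¹ * t * π = π⁻¹ * (π * t * π⁻¹) * π := by rw [hπt]
              _ = t := by group
          calc π⁻¹ * y * π * t * (π⁻¹ * y * π)⁻¹ = π⁻¹ * (y * (π * t * π⁻¹) * y⁻¹) * π := by group
            _ = π⁻¹ * (t * ev t s d v (false, n, xor n c, xor (xor m n) c, false)) * π := by
                rw [hπt, hy2]
            _ = π⁻¹ * t * π *
                (π⁻¹ * (π * ev t s d v (false, m, n, c, false) * π⁻¹) * π) := by
                rw [B.π_ev H]; group
            _ = _ := by rw [h1]; group
      · rintro ⟨u, ⟨hu, hut, hu2⟩, rfl⟩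
        exact ⟨hπconj u hu, (isConj_conj t u π).mpr hut, hπtr m n c u hu2⟩
    -- the four fibres inside `⟨T, q, r⟩`
    have hfib : ∀ p l : Bool, (F (false, xor p l, l, false, false)).ncard =
        4 * W7.cnt f (fun k => !k.2.2.1 && (k.2.2.2.1 == p) && (k.2.2.2.2 == l)) := by
      intro p l
      have hset : F (false, xor p l, l, false, false) = ev7 t s d v q r ''
          {w | f (W7.key w) = true ∧ w.1.2.2.2.2 = false ∧ w.2.1 = p ∧ w.2.2 = l} := by
        ext y
        simp only [hFdef, Set.mem_image, Set.mem_ofPred_eq]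
        constructor
        · rintro ⟨hy, hyt, hy2⟩
          have hrep : ev7 t s d v q r (W5.one, p, l) ∈ Q := by
            have : ev7 t s d v q r (W5.one, p, l) = bp p q * bp l r := by simp [ev7, B.ev_one]
            rw [this]
            refine Q.mul_mem ?_ ?_
            · cases p <;> simp [hqQ]
            · cases l <;> simp [hrQ]
          set g := ev7 t s d v q r (W5.one, p, l) with hg
          have hgt : g * t * g⁻¹ = t * ev t s d v (false, xor p l, l, false, false) := by
            rw [hg, P.ev7_conj_t B]
            conv_rhs => arg 1; rw [← et]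
            rw [B.ev_mul]; congr 1; clear * -; revert p l; decide
          have hm : g⁻¹ * y ∈ B.axSet t := by
            rw [← B.trans_stab hF cn1 cn2 htK htE]
            refine ⟨Q.mul_mem (Q.inv_mem hrep) hy, ?_⟩
            calc g⁻¹ * y * t = g⁻¹ * (y * t * y⁻¹) * y := by group
              _ = g⁻¹ * (g * t * g⁻¹) * y := by rw [hy2, hgt]
              _ = t * (g⁻¹ * y) := by group
          rw [hA1ax] at hm
          obtain ⟨w, hw, hwy⟩ := B.mem_A1.mp hm
          refine ⟨W7.mul false j μ ν (W5.one, p, l) (w, false, false), ?_, ?_⟩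
          · have hev : ev7 t s d v q r (W7.mul false j μ ν (W5.one, p, l) (w, false, false)) = y := by
              rw [← P.ev7_mul B, P.ev7_T B, hwy, ← hg]; group
            refine ⟨by rw [← hf, hev]; exact hyt, ?_⟩
            have hwf : w.2.2.2.2 = false := hw
            clear * - hwf
            revert hwf
            revert w j μ ν p l
            decide +kernel
          · rw [← P.ev7_mul B, P.ev7_T B, hwy, ← hg]; group
        · rintro ⟨⟨⟨a, m, n, c, g⟩, p', l'⟩, ⟨hw, hg, hp, hl⟩, rfl⟩
          obtain rfl : g = false := hg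
          obtain rfl : p' = p := hp
          obtain rfl : l' = l := hl
          refine ⟨?_, (hf _).mpr hw, ?_⟩
          · show ev t s d v _ * bp p' q * bp l' r ∈ Q
            refine Q.mul_mem (Q.mul_mem (hA1t _ (B.ev_mem_A1.mpr rfl)) ?_) ?_
            · cases p' <;> simp [hqQ]
            · cases l' <;> simp [hrQ]
          · rw [P.ev7_conj_t B]
            conv_rhs => arg 1; rw [← et]
            rw [B.ev_mul]; congr 1; clear * -; revert a m n c p' l'; decide
      rw [hset, Set.ncard_image_of_injective _ (fun _ _ => P.ev7_inj B), ← ncard_classes]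
      congr 1
      ext ⟨⟨a, m, n, c, g⟩, p', l'⟩
      simp [W7.key, and_assoc]
    have f0 := hfib false false
    have fq := hfib true false
    have fc := hfib false true
    have fh := hfib true true
    have hcs : ∀ p l : Bool,
        W7.cnt f (fun k => !k.2.2.1 && (k.2.2.2.1 == p) && (k.2.2.2.2 == l)) =
        W7.cnt f (fun k => !k.2.2.1 && (if p then k.2.2.2.1 else !k.2.2.2.1) &&
          (if l then k.2.2.2.2 else !k.2.2.2.2)) := by
      intro p l; congr 1; funext k
      cases p <;> cases l <;> cases k.2.2.2.1 <;> cases k.2.2.2.2 <;> simp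
    rw [hcs] at f0 fq fc fh
    simp only [Bool.false_eq_true, if_false, if_true, Bool.bne_false, Bool.false_xor,
      Bool.xor_false, Bool.xor_self] at f0 fq fc fh
    rw [hnq] at fq
    -- the fibre of the identity
    have h0 : (F (false, false, false, false, false)).ncard = 8 := by
      have : F (false, false, false, false, false) = (fun e => t * e) '' (B.E1 : Set G) := by
        ext y
        simp only [hFdef, Set.mem_image, Set.mem_ofPred_eq, SetLike.mem_coe]
        constructor
        · rintro ⟨hy, hyt, hy2⟩
          have hy3 : y * t = t * y := by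
            calc y * t = y * t * y⁻¹ * y := by group
              _ = t * y := by rw [hy2]; simp [ev]
          rcases B.comm_ax_mem hF cn1 cn2 htK htE hy3 ((memQ y).mp hy).1 with h | ⟨e, he, h⟩
          · exact absurd hyt (B.E1_not_conj hF h)
          · exact ⟨e, he, h⟩
        · rintro ⟨e, he, rfl⟩
          refine ⟨Q.mul_mem (hA1t t htA1) (hA1t e he.1),
            hF.conj_mul B htK (B.E1_sq he) (B.E1_not_conj hF he) (htE e he), ?_⟩
          rw [show ev t s d v (false, false, false, false, false) = 1 from B.ev_one, mul_one]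
          calc t * e * t * (t * e)⁻¹ = t * (e * t * e⁻¹) * t⁻¹ := by group
            _ = t := by rw [htE e he, mul_assoc t e, mul_inv_cancel, mul_one]; group
      rw [this, Set.ncard_image_of_injective _ (mul_right_injective t), ← Nat.card_coe_set_eq]
      exact B.card_E1
    have fd1 := hFπ true false false
    have fd2 := hFπ false false true
    have fz1 := hFπ false true false
    have fz2 := hFπ true true true
    simp only [Bool.false_xor, Bool.xor_false, Bool.xor_self, Bool.true_xor, Bool.not_true,
      Bool.not_false] at fd1 fd2 fz1 fz2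
    have hK : (conjIn t Q).ncard =
        ∑ w ∈ (Finset.univ.filter fun w : W5 => w.1 = false ∧ w.2.2.2.2 = false), (F w).ncard := by
      have hu : conjIn t Q = ⋃ w ∈ (Finset.univ.filter fun w : W5 =>
          w.1 = false ∧ w.2.2.2.2 = false), F w := by
        ext y
        simp only [Set.mem_iUnion, Finset.mem_filter, Finset.mem_univ, true_and, hFdef,
          Set.mem_ofPred_eq, exists_prop]
        constructor
        · rintro ⟨hy, hyt⟩
          obtain ⟨e, he, hye⟩ := B.trans_conj_mem hF htK htE hy
          obtain ⟨w, h1, h2, rfl⟩ := B.mem_E1.mp he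
          exact ⟨w, ⟨h1, h2⟩, hy, hyt, hye⟩
        · rintro ⟨w, -, hy, hyt, -⟩; exact ⟨hy, hyt⟩
      rw [hu, Set.ncard_eq_toFinset_card', ]
      simp only [Set.ncard_eq_toFinset_card']
      rw [← Finset.card_biUnion]
      · congr 1
        ext y; simp
      · intro a _ b _ hab
        rw [Function.onFun, Finset.disjoint_left]
        intro y h1 h2
        simp only [Set.mem_toFinset, hFdef, Set.mem_ofPred_eq] at h1 h2
        exact hab (B.ev_inj (mul_left_cancel (h1.2.2.symm.trans h2.2.2)))
    have hfilt : (Finset.univ.filter fun w : W5 => w.1 = false ∧ w.2.2.2.2 = false) =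
        {(false, false, false, false, false), (false, true, false, false, false),
          (false, false, true, false, false), (false, true, true, false, false),
          (false, false, false, true, false), (false, true, false, true, false),
          (false, false, true, true, false), (false, true, true, true, false)} := by decide
    rw [hfilt] at hK
    repeat rw [Finset.sum_insert (by decide)] at hK
    rw [Finset.sum_singleton] at hK
    -- the coset `v Q`
    have evv := ev_v (t := t) (s := s) (d := d) (v := v)
    have hvA : ∀ y ∈ B.A1, v * y * v⁻¹ ∈ B.A1 := by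
      intro y hy
      obtain ⟨⟨a, m, n, c, g⟩, hg, rfl⟩ := B.mem_A1.mp hy
      obtain rfl : g = false := hg
      have h := B.ev_conj (false, false, false, false, true) (a, m, n, c, false)
      rw [evv] at h
      rw [h, B.ev_mem_A1]
      clear * -; revert a m n c; decide
    have hvQ : ∀ g ∈ Q, v * g * v⁻¹ ∈ Q := by
      intro g hg
      obtain ⟨hgE, hgA⟩ := (memQ g).mp hg
      have hv1 : v⁻¹ = v := B.v_inv
      have hA : ∀ y ∈ B.A1, v⁻¹ * y * v ∈ B.A1 := fun y hy => by
        have := hvA y hy; rw [hv1] at this ⊢; exact this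
      refine (memQ _).mpr ⟨fun e he => ?_, fun y hy => ?_⟩
      · have he' : v⁻¹ * e * v ∈ B.E1 :=
          ⟨hA e he.1, E.mul_mem (E.mul_mem (E.inv_mem B.v_mem) he.2) B.v_mem⟩
        calc e * (v * g * v⁻¹) = v * (v⁻¹ * e * v * g) * v⁻¹ := by group
          _ = v * (g * (v⁻¹ * e * v)) * v⁻¹ := by rw [hgE _ he']
          _ = v * g * v⁻¹ * e := by group
      · have := hvA _ (hgA _ (hA y hy))
        convert this using 1; group
    have hvnQ : v ∉ Q := fun h => by
      have := ((memQ v).mp h).1 _ (B.mem_E1.mpr ⟨(false, false, false, true, false), rfl, rfl, ev_d⟩)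
      exact B.z_ne_one (mul_left_cancel (a := d * v) (by rw [← B.vd, mul_one, this]))
    have hv2 : ∀ g, v * (v * g) = g := fun g => by rw [← mul_assoc, B.v_sq, one_mul]
    set R : Subgroup G := subgroupOfMul ((Q : Set G) ∪ (fun g => v * g) '' (Q : Set G))
      (Or.inl Q.one_mem) (by
        rintro a (ha | ⟨g, hg, rfl⟩) b (hb | ⟨h, hh, rfl⟩)
        · exact Or.inl (Q.mul_mem ha hb)
        · refine Or.inr ⟨v * a * v⁻¹ * h, Q.mul_mem (hvQ a ha) hh, ?_⟩
          show v * (v * a * v⁻¹ * h) = a * (v * h)
          rw [B.v_inv]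
          calc v * (v * a * v * h) = v * (v * (a * (v * h))) := by group
            _ = _ := hv2 _
        · exact Or.inr ⟨g * b, Q.mul_mem hg hb, (mul_assoc _ _ _).symm⟩
        · refine Or.inl ?_
          have : v * g * (v * h) = v * g * v⁻¹ * h := by rw [B.v_inv]; group
          show v * g * (v * h) ∈ Q
          rw [this]; exact Q.mul_mem (hvQ g hg) hh) with hR
    have hdis : Disjoint (Q : Set G) ((fun g => v * g) '' (Q : Set G)) := by
      rw [Set.disjoint_left]
      rintro _ h ⟨g, hg, rfl⟩
      exact hvnQ ((Q.mul_mem_cancel_right hg).mp h)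
    have hRcard : Nat.card R = 256 := by
      rw [← SetLike.coe_sort_coe, Nat.card_coe_set_eq]
      show ((Q : Set G) ∪ _).ncard = 256
      rw [Set.ncard_union_eq hdis (Set.toFinite _) (Set.toFinite _),
        Set.ncard_image_of_injective _ (mul_right_injective v), ← Nat.card_coe_set_eq]
      show Nat.card Q + Nat.card Q = 256
      rw [hQcard]
    set V := {w : W7 | f (W7.key w) = true ∧ w.1.2.2.2.2 = true} with hV
    have hvset : {x | (∃ g ∈ Q, v * g = x) ∧ IsConj t x} = ev7 t s d v q r '' V := by
      ext x
      constructor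
      · rintro ⟨⟨g, hg, rfl⟩, hx⟩
        obtain ⟨e, he, hge⟩ := B.trans_conj_mem hF htK htE hg
        obtain ⟨⟨a, m, n, c, f'⟩, ha, hf', rfl⟩ := B.mem_E1.mp he
        obtain rfl : a = false := ha
        obtain rfl : f' = false := hf'
        obtain rfl : c = false := by
          by_contra hc
          have hc' : c = true := by simpa using hc
          subst hc'
          have h2 := isConj_sq B.t_sq hx
          have hvt : v * t * v⁻¹ = t := by rw [← B.tv.eq, mul_assoc, mul_inv_cancel, mul_one]
          have he1 : v * ev t s d v (false, m, n, true, false) * v⁻¹ =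
              ev t s d v (false, m, !n, true, false) := by
            have h := B.ev_conj (false, false, false, false, true) (false, m, n, true, false)
            rw [evv] at h
            rw [h]; congr 1; clear * -; revert m n; decide
          have he2 : g * ev t s d v (false, m, !n, true, false) * g⁻¹ =
              ev t s d v (false, m, !n, true, false) := by
            rw [← ((memQ g).mp hg).1 _ (B.mem_E1.mpr ⟨_, rfl, rfl, rfl⟩), mul_assoc, mul_inv_cancel,
              mul_one]
          have he3 : v * ev t s d v (false, m, !n, true, false) * v⁻¹ =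
              ev t s d v (false, m, n, true, false) := by
            have h := B.ev_conj (false, false, false, false, true) (false, m, !n, true, false)
            rw [evv] at h
            rw [h]; congr 1; clear * -; revert m n; decide
          have h1 : v * g * t * (v * g)⁻¹ = t * ev t s d v (false, m, !n, true, false) := by
            calc v * g * t * (v * g)⁻¹ = v * (g * t * g⁻¹) * v⁻¹ := by group
              _ = v * t * v⁻¹ * (v * ev t s d v (false, m, n, true, false) * v⁻¹) := by
                  rw [hge]; group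
              _ = _ := by rw [hvt, he1]
          have h3 : v * g * (t * ev t s d v (false, m, !n, true, false)) * (v * g)⁻¹ = t := by
            rw [← h1]
            calc v * g * (v * g * t * (v * g)⁻¹) * (v * g)⁻¹
                = (v * g * (v * g)) * t * (v * g * (v * g))⁻¹ := by group
              _ = t := by rw [show v * g * (v * g) = 1 from h2]; group
          have h4 : v * g * (t * ev t s d v (false, m, !n, true, false)) * (v * g)⁻¹ =
              t * ev t s d v (false, m, !n, true, false) *
                ev t s d v (false, m, n, true, false) := by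
            calc v * g * (t * ev t s d v (false, m, !n, true, false)) * (v * g)⁻¹
                = v * g * t * (v * g)⁻¹ *
                  (v * (g * ev t s d v (false, m, !n, true, false) * g⁻¹) * v⁻¹) := by group
              _ = _ := by rw [h1, he2, he3]
          rw [h4, mul_assoc, B.ev_mul] at h3
          have := B.faithful _ (mul_left_cancel (a := t) (h3.trans (mul_one t).symm))
          revert this; clear * -; revert m n; decide
        set rep := ev7 t s d v q r (W5.one, xor m n, n) with hrep
        have hrepQ : rep ∈ Q := by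
          have : rep = bp (xor m n) q * bp n r := by simp [hrep, ev7, B.ev_one]
          rw [this]
          exact Q.mul_mem (by cases m <;> cases n <;> simp [hqQ]) (by cases n <;> simp [hrQ])
        have hrt' : rep * t * rep⁻¹ = t * ev t s d v (false, m, n, false, false) := by
          rw [hrep, P.ev7_conj_t B]
          conv_rhs => arg 1; rw [← et]
          rw [B.ev_mul]; congr 1; clear * -; revert m n; decide
        have hm : rep⁻¹ * g ∈ B.axSet t := by
          rw [← B.trans_stab hF cn1 cn2 htK htE]
          refine ⟨Q.mul_mem (Q.inv_mem hrepQ) hg, ?_⟩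
          calc rep⁻¹ * g * t = rep⁻¹ * (g * t * g⁻¹) * g := by group
            _ = rep⁻¹ * (rep * t * rep⁻¹) * g := by rw [hge, hrt']
            _ = t * (rep⁻¹ * g) := by group
        rw [hA1ax] at hm
        obtain ⟨w, hw, hwy⟩ := B.mem_A1.mp hm
        have hev : ev7 t s d v q r (W7.mul false j μ ν ((false, false, false, false, true), false, false)
            (W7.mul false j μ ν (W5.one, xor m n, n) (w, false, false))) = v * g := by
          rw [← P.ev7_mul B, ← P.ev7_mul B, P.ev7_T B, P.ev7_T B, evv, hwy, ← hrep]; group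
        refine ⟨_, ⟨by rw [← hf, hev]; exact hx, ?_⟩, hev⟩
        have hwf : w.2.2.2.2 = false := hw
        clear * - hwf
        revert hwf
        revert w j μ ν m n
        decide +kernel
      · rintro ⟨⟨⟨a, m, n, c, g⟩, p, l⟩, ⟨hw, hg⟩, rfl⟩
        obtain rfl : g = true := hg
        refine ⟨⟨v⁻¹ * ev7 t s d v q r ((a, m, n, c, true), p, l), ?_, by group⟩, (hf _).mpr hw⟩
        have h1 : v⁻¹ * ev t s d v (a, m, n, c, true) ∈ Q := by
          refine hA1t _ ?_
          have h := B.ev_mul (false, false, false, false, true) (a, m, n, c, true)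
          rw [evv] at h
          rw [B.v_inv, h, B.ev_mem_A1]
          clear * -; revert a m n c; decide
        show v⁻¹ * (ev t s d v _ * bp p q * bp l r) ∈ Q
        rw [← mul_assoc, ← mul_assoc]
        refine Q.mul_mem (Q.mul_mem h1 ?_) ?_
        · cases p <;> simp [hqQ]
        · cases l <;> simp [hrQ]
    have hR2 : (conjIn t R).ncard = (conjIn t Q).ncard + 16 := by
      have e : conjIn t R = conjIn t Q ∪ {x | (∃ g ∈ Q, v * g = x) ∧ IsConj t x} := by
        ext x
        constructor
        · rintro ⟨hx | ⟨g, hg, rfl⟩, hc⟩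
          · exact Or.inl ⟨hx, hc⟩
          · exact Or.inr ⟨⟨g, hg, rfl⟩, hc⟩
        · rintro (⟨hx, hc⟩ | ⟨⟨g, hg, rfl⟩, hc⟩)
          · exact ⟨Or.inl hx, hc⟩
          · exact ⟨Or.inr ⟨g, hg, rfl⟩, hc⟩
      rw [e, Set.ncard_union_eq (Set.disjoint_left.mpr fun x h1 h2 =>
        Set.disjoint_left.mp hdis h1.1 h2.1) (Set.toFinite _) (Set.toFinite _), hvset,
        Set.ncard_image_of_injective _ (fun _ _ => P.ev7_inj B)]
      congr 1
      have : V = {w : W7 | f (W7.key w) = true ∧ (fun k : K5 => k.2.2.1) (W7.key w) = true} := rfl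
      rw [this]
      exact (ncard_classes f (fun k => k.2.2.1)).trans (by rw [hng])
    -- a lower bound for the orbit of `q` under `N(Q)`
    have hZ : ∀ a ∈ Q, (∀ p ∈ Q, a * p = p * a) → a ∈ B.E1 := by
      intro a ha hc
      rcases B.comm_ax_mem hF cn1 cn2 htK htE (hc t (hA1t t htA1))
        ((memQ a).mp ha).1 with h | ⟨e, he, rfl⟩
      · exact h
      · exfalso
        have h := hc q hqQ
        have h' : q * t * q⁻¹ = t := by
          have h0 : q * (t * e) = t * e * q := h.symm
          calc q * t * q⁻¹ = q * (t * e) * (e⁻¹ * q⁻¹) := by group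
            _ = t * (e * q) * (e⁻¹ * q⁻¹) := by rw [h0]; group
            _ = t * (q * e) * (e⁻¹ * q⁻¹) := by rw [hE1q e he]
            _ = t := by group
        rw [hqt] at h'
        exact absurd (B.faithful _ (mul_left_cancel (a := t) (h'.trans (mul_one t).symm))) (by decide)
    obtain ⟨hN, hdvd⟩ := B.orbit_trans hF cn1 cn2 hPeq (fun p hp => ((memQ p).mp hp).1)
      (fun e he => hA1t e he.1) hZ hqQ hqK
    set O := (fun n => n * q * n⁻¹) '' (Subgroup.normalizer (Q : Set G) : Set G) with hO
    have hπQN : π ∈ Subgroup.normalizer (Q : Set G) :=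
      Subgroup.mem_normalizer_iff.mpr fun y => conj_mem_iff hπconj y
    have hQN : Q ≤ Subgroup.normalizer (Q : Set G) := fun g hg =>
      Subgroup.mem_normalizer_iff.mpr fun y =>
        ⟨fun hy => Q.mul_mem (Q.mul_mem hg hy) (Q.inv_mem hg), fun hy => by
          have := Q.mul_mem (Q.mul_mem (Q.inv_mem hg) hy) hg
          convert this using 1; group⟩
    set orb : G → Set G := fun y => (fun n => n * y * n⁻¹) '' (Q : Set G) with horbdef
    have hq1K : IsConj t q1 := (isConj_conj t q π).mpr hqK
    have hq2K : IsConj t q2 := (isConj_conj t q1 π).mpr hq1K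
    have hsubO : orb q ∪ orb q1 ∪ orb q2 ⊆ O := by
      rintro x ((⟨n, hn, rfl⟩ | ⟨n, hn, rfl⟩) | ⟨n, hn, rfl⟩)
      · exact ⟨n, hQN hn, rfl⟩
      · exact ⟨n * π, Subgroup.mul_mem _ (hQN hn) hπQN, by rw [hq1]; group⟩
      · exact ⟨n * (π * π), Subgroup.mul_mem _ (hQN hn) (Subgroup.mul_mem _ hπQN hπQN),
          by rw [hq2, hq1]; group⟩
    have horbF : ∀ y ∈ Q, IsConj t y → ∀ x ∈ orb y, x * t * x⁻¹ = y * t * y⁻¹ := by
      rintro y hy hyt _ ⟨n, hn, rfl⟩
      exact hsame y hy hyt n hn
    have hdisj : ∀ y ∈ Q, IsConj t y → ∀ z ∈ Q, IsConj t z → y * t * y⁻¹ ≠ z * t * z⁻¹ →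
        Disjoint (orb y) (orb z) := fun y hy hyt z hz hzt hne =>
      Set.disjoint_left.mpr fun x h1 h2 =>
        hne ((horbF y hy hyt x h1).symm.trans (horbF z hz hzt x h2))
    have hne : ∀ w w' : W5, w ≠ w' → t * ev t s d v w ≠ t * ev t s d v w' := fun w w' h e =>
      h (B.ev_inj (mul_left_cancel e))
    have h24 : 24 ≤ O.ncard := by
      refine le_trans ?_ (Set.ncard_le_ncard hsubO (Set.toFinite _))
      rw [Set.ncard_union_eq (Set.disjoint_union_left.mpr
          ⟨hdisj q hqQ hqK q2 hq2Q hq2K (by rw [hqt, hq2t]; exact hne _ _ (by decide)),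
            hdisj q1 hq1Q hq1K q2 hq2Q hq2K (by rw [hq1t, hq2t]; exact hne _ _ (by decide))⟩)
          (Set.toFinite _) (Set.toFinite _),
        Set.ncard_union_eq (hdisj q hqQ hqK q1 hq1Q hq1K
          (by rw [hqt, hq1t]; exact hne _ _ (by decide))) (Set.toFinite _) (Set.toFinite _)]
      rw [show (orb q).ncard = 8 from horb8 q hqQ hqK, show (orb q1).ncard = 8 from
        horb8 q1 hq1Q hq1K, show (orb q2).ncard = 8 from horb8 q2 hq2Q hq2K]
    have hmod := modEq_sign hG B.t_sq R
    obtain ⟨m, hm, hC⟩ := B.card_C
    rw [hC, hRcard, hR2] at hmod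
    obtain ⟨k, hk⟩ := Subgroup.card_subgroup_dvd_card (Subgroup.normalizer (Q : Set G))
    rw [← hN] at hk
    have hmo := Nat.odd_iff.mp hm
    have hval : (conjIn t Q).ncard = 32 ∨ (conjIn t Q).ncard = 64 := by
      rcases hnch with ⟨hnc, hnh⟩ | ⟨hnc, hnh⟩
      · rw [hnc] at fc; rw [hnh] at fh; omega
      · rw [hnc] at fc; rw [hnh] at fh; omega
    unfold Nat.ModEq at hmod
    have h32 : 32 ∣ O.ncard := by
      rcases hval with h | h <;> rw [h] at hdvd <;>
        have := Nat.le_of_dvd (by norm_num) hdvd <;>
        interval_cases O.ncard <;> omega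
    obtain ⟨l, hl⟩ := h32
    rw [hl, show 32 * l * 96 * k = 1024 * (3 * (l * k)) by ring] at hk
    rcases hval with h | h <;> rw [h] at hmod <;> omega

end CfsgLib.TwoTimesSym
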