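import Cfsg.Agent.Lib.Recognition.TwoTimesSym.Klein

/-!
# The group `⟨T, q, r⟩` of order 128 and the possible patterns of conjugates of `t` in it
-/

set_option linter.unusedSectionVars false

namespace CfsgLib.TwoTimesSym

/-- Exponents in `⟨T, q, r⟩`. -/
abbrev W7 := W5 × Bool × Bool

/-- Classes modulo `⟨s, z⟩`: exponents of `t, d, v, q, r`. -/
abbrev K5 := Bool × Bool × Bool × Bool × Bool

namespace W7

/-- The action of `q` on `T`. -/
def σq (i : Bool) (w : W5) : W5 :=
  (w.1, xor (xor w.2.1 w.1) (i && w.2.2.2.1), w.2.2.1, w.2.2.2.1, w.2.2.2.2)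

/-- The action of `r` on `T`. -/
def σr (j : Bool) (w : W5) : W5 :=
  (w.1, xor (xor w.2.1 w.1) (j && w.2.2.2.2), xor (xor w.2.2.1 w.1) (j && w.2.2.2.2),
    w.2.2.2.1, w.2.2.2.2)

/-- The product. -/
def mul (i j μ ν : Bool) (x y : W7) : W7 :=
  (W5.mul x.1 ((if x.2.1 then σq i else id) (W5.mul ((if x.2.2 then σr j else id) y.1)
    (false, x.2.2 && y.2.1 && μ, x.2.2 && y.2.1 && ν, false, false))),
    xor x.2.1 y.2.1, xor x.2.2 y.2.2)

/-- The identity. -/
def one : W7 := (W5.one, false, false)

/-- The inverse. -/
def inv (i j μ ν : Bool) (x : W7) : W7 :=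
  let y : W7 := mul i j μ ν x x
  mul i j μ ν (mul i j μ ν y x) (if mul i j μ ν y y = one then one else y)

/-- The class of a word. -/
def key (x : W7) : K5 := (x.1.1, x.1.2.2.2.1, x.1.2.2.2.2, x.2.1, x.2.2)

/-- A representative of a class. -/
def rep (k : K5) : W7 := ((k.1, false, false, k.2.1, k.2.2.1), k.2.2.2.1, k.2.2.2.2)

/-- Sum of classes. -/
def add (k l : K5) : K5 :=
  (xor k.1 l.1, xor k.2.1 l.2.1, xor k.2.2.1 l.2.2.1, xor k.2.2.2.1 l.2.2.2.1,
    xor k.2.2.2.2 l.2.2.2.2)

/-- Does the class consist of elements squaring to one? -/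
def isInv (i j μ ν : Bool) (k : K5) : Bool := decide (mul i j μ ν (rep k) (rep k) = one)

/-- Do the two classes commute? -/
def comm (i j μ ν : Bool) (k l : K5) : Bool :=
  decide (mul i j μ ν (rep k) (rep l) = mul i j μ ν (rep l) (rep k))

/-- All classes. -/
def allK : List K5 :=
  [false, true].flatMap fun a => [false, true].flatMap fun b => [false, true].flatMap fun c =>
    [false, true].flatMap fun e => [false, true].map fun f => (a, b, c, e, f)

lemma mem_allK : ∀ k : K5, k ∈ allK := by decide

/-- The five coordinates. -/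
def coord : List (K5 → Bool) :=
  [fun k => k.1, fun k => k.2.1, fun k => k.2.2.1, fun k => k.2.2.2.1, fun k => k.2.2.2.2]

/-- The necessary conditions on the set of classes of conjugates of `t`. -/
def valid (i j μ ν : Bool) (f : K5 → Bool) : Bool :=
  coord.all (fun c => ((allK.filter fun k => f k && c k).length % 2 == 0)) &&
    allK.all fun k => !f k || allK.all fun l =>
      !(isInv i j μ ν l && decide (l ≠ (false, false, false, false, false)) && decide (l ≠ k) &&
        comm i j μ ν k l) || (f (add l k) == !f l)

/-- The number of classes of conjugates of `t` among those satisfying `P`. -/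
def cnt (f P : K5 → Bool) : ℕ := (allK.filter fun k => f k && P k).length

/-- The six classes in the case `i = j = 1`. -/
def six : List K5 :=
  [(true, false, false, false, false), (true, true, false, false, false),
    (true, false, true, false, false), (true, false, false, true, true),
    (true, false, true, false, true), (true, true, false, true, false)]

/-- What the patterns satisfy. -/
def concl (i j μ ν : Bool) (f : K5 → Bool) : Bool :=
  if i then !j || (!μ && ν && allK.all fun k => f k == decide (k ∈ six))
  else f (false, false, false, true, false) &&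
    (!μ && !ν ||
      (cnt f (fun k => k.2.2.1) == 4 && cnt f (fun k => !k.2.2.1 && k.2.2.2.1 && !k.2.2.2.2) == 2 &&
        (cnt f (fun k => !k.2.2.1 && !k.2.2.2.1 && k.2.2.2.2) == 2 &&
            cnt f (fun k => !k.2.2.1 && k.2.2.2.1 && k.2.2.2.2) == 2 ||
          cnt f (fun k => !k.2.2.1 && !k.2.2.2.1 && k.2.2.2.2) == 0 &&
            cnt f (fun k => !k.2.2.1 && k.2.2.2.1 && k.2.2.2.2) == 0)))

/-- The undetermined classes. -/
def free (i j μ ν : Bool) : List K5 :=
  allK.filter fun k => (k.2.2.2.1 || k.2.2.2.2) && isInv i j μ ν k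

/-- The known part of a pattern. -/
def base (i j μ ν : Bool) (k : K5) : Bool :=
  !(k.2.2.2.1 || k.2.2.2.2) && k.1 && isInv i j μ ν k

/-- Check all patterns extending `g` on the listed classes. -/
def search (i j μ ν : Bool) : List K5 → (K5 → Bool) → Bool
  | [], f => !valid i j μ ν f || concl i j μ ν f
  | k :: l, f => search i j μ ν l (fun x => if x = k then false else f x) &&
      search i j μ ν l (fun x => if x = k then true else f x)

lemma search_sound (i j μ ν : Bool) : ∀ (L : List K5) (g : K5 → Bool),
    search i j μ ν L g = true → ∀ f : K5 → Bool, (∀ k, k ∉ L → f k = g k) →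
      valid i j μ ν f = true → concl i j μ ν f = true
  | [], g, h, f, hf, hv => by
    have : f = g := funext fun k => hf k (List.not_mem_nil)
    subst this
    simpa [search, hv] using h
  | k :: l, g, h, f, hf, hv => by
    simp only [search, Bool.and_eq_true] at h
    have hagree : ∀ x, x ∉ l → f x = if x = k then f k else g x := fun x hx => by
      split_ifs with e
      · rw [e]
      · exact hf x (by simp [e, hx])
    cases e : f k <;> rw [e] at hagree
    · exact search_sound i j μ ν l _ h.1 f hagree hv
    · exact search_sound i j μ ν l _ h.2 f hagree hv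

set_option maxRecDepth 10000 in
lemma search_ok : ∀ i j μ ν : Bool,
    search i j μ ν (free i j μ ν) (base i j μ ν) = true := by
  decide +kernel

end W7

variable {G : Type*} [Group G] [Finite G] {t : G} {E : Subgroup G} {s d v q r : G}
  {i j μ ν : Bool}

/-- The element with exponents `w`. -/
def ev7 (t s d v q r : G) (w : W7) : G := ev t s d v w.1 * bp w.2.1 q * bp w.2.2 r

namespace Pair

variable (P : Pair t s d v q r i j μ ν) (B : Base t E s d v)

include P B

lemma conj_q (w : W5) : q * ev t s d v w * q⁻¹ = ev t s d v (W7.σq i w) := by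
  obtain ⟨a, m, n, e, f⟩ := w
  rw [B.conj_word, P.q_t, P.q_s, P.q_z, P.q_d, P.q_v]
  have e1 : bp a (t * s) = ev t s d v (a, a, false, false, false) := by cases a <;> simp [ev]
  have e2 : bp m s = ev t s d v (false, m, false, false, false) := by cases m <;> simp [ev]
  have e3 : bp n (d * v * (d * v)) = ev t s d v (false, false, n, false, false) := by
    cases n <;> simp [ev]
  have e4 : bp e (d * bp i s) = ev t s d v (false, i && e, false, e, false) := by
    cases i <;> cases e <;> simp [ev, B.sd]
  have e5 : bp f v = ev t s d v (false, false, false, false, f) := by cases f <;> simp [ev]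
  rw [e1, e2, e3, e4, e5, B.ev_mul, B.ev_mul, B.ev_mul, B.ev_mul]
  congr 1
  clear * -
  revert i a m n e f; decide

lemma conj_r (w : W5) : r * ev t s d v w * r⁻¹ = ev t s d v (W7.σr j w) := by
  obtain ⟨a, m, n, e, f⟩ := w
  rw [B.conj_word, P.r_t, P.r_s, P.r_z, P.r_d, P.r_v]
  have e1 : bp a (t * (s * (d * v * (d * v)))) = ev t s d v (a, a, a, false, false) := by
    cases a <;> simp [ev, mul_assoc]
  have e2 : bp m s = ev t s d v (false, m, false, false, false) := by cases m <;> simp [ev]
  have e3 : bp n (d * v * (d * v)) = ev t s d v (false, false, n, false, false) := by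
    cases n <;> simp [ev]
  have e4 : bp e d = ev t s d v (false, false, false, e, false) := by cases e <;> simp [ev]
  have e5 : bp f (v * bp j (s * (d * v * (d * v)))) =
      ev t s d v (false, j && f, j && f, false, f) := by
    cases j <;> cases f <;> simp [ev]
    exact ((show Commute s v from B.sv).symm.mul_right B.vz).eq
  rw [e1, e2, e3, e4, e5, B.ev_mul, B.ev_mul, B.ev_mul, B.ev_mul]
  congr 1
  clear * -
  revert j a m n e f; decide

theorem ev7_mul (x y : W7) : ev7 t s d v q r x * ev7 t s d v q r y =
    ev7 t s d v q r (W7.mul i j μ ν x y) := by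
  obtain ⟨w, a, b⟩ := x
  obtain ⟨w', a', b'⟩ := y
  simp only [ev7, W7.mul]
  have hσr : bp b r * ev t s d v w' = ev t s d v ((if b then W7.σr j else id) w') * bp b r := by
    cases b
    · simp
    · simp only [bp_true, if_true, ← P.conj_r B]; group
  have hσq : ∀ x : W5, bp a q * ev t s d v x =
      ev t s d v ((if a then W7.σq i else id) x) * bp a q := by
    intro x
    cases a
    · simp
    · simp only [bp_true, if_true, ← P.conj_q B]; group
  have hrq : bp b r * bp a' q =
      ev t s d v (false, b && a' && μ, b && a' && ν, false, false) * (bp a' q * bp b r) := by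
    cases b <;> cases a' <;> simp [ev]
    -- `r q = (q r)² (q r)`
    have hq : q⁻¹ = q := inv_eq_of_mul_eq_one_right P.q_sq
    have hr : r⁻¹ = r := inv_eq_of_mul_eq_one_right P.r_sq
    have hu : ∀ x, x * bp μ s = bp μ s * x ∨ True := fun x => Or.inr trivial
    have hswap : r * q = (q * r * (q * r))⁻¹ * (q * r) := by
      rw [mul_inv_rev (q * r), mul_assoc, inv_mul_cancel, mul_one, mul_inv_rev, hq, hr]
    rw [hswap, P.qr]
    congr 1
    have es := inv_eq_of_mul_eq_one_right B.s_sq
    have ez := inv_eq_of_mul_eq_one_right B.z_sq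
    cases μ <;> cases ν <;> simp only [bp_true, bp_false, one_mul, mul_one, inv_one, mul_inv_rev,
      es, ez]
    exact B.sz.eq.symm
  calc ev t s d v w * bp a q * bp b r * (ev t s d v w' * bp a' q * bp b' r)
      = ev t s d v w * bp a q * (bp b r * ev t s d v w') * bp a' q * bp b' r := by group
    _ = ev t s d v w * bp a q * ev t s d v ((if b then W7.σr j else id) w') *
          (bp b r * bp a' q) * bp b' r := by rw [hσr]; group
    _ = ev t s d v w * (bp a q * (ev t s d v ((if b then W7.σr j else id) w') *
          ev t s d v (false, b && a' && μ, b && a' && ν, false, false))) *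
          bp a' q * (bp b r * bp b' r) := by rw [hrq]; group
    _ = _ := by
        rw [B.ev_mul, hσq, bp_mul_bp P.r_sq, ← mul_assoc, B.ev_mul, mul_assoc _ (bp a q),
          bp_mul_bp P.q_sq]

lemma ev7_one : ev7 t s d v q r W7.one = 1 := by simp [ev7, W7.one, B.ev_one]

lemma ev7_conj_t (w : W7) : ev7 t s d v q r w * t * (ev7 t s d v q r w)⁻¹ =
    ev t s d v (true, xor w.2.1 w.2.2, w.2.2, false, false) := by
  obtain ⟨w, a, b⟩ := w
  have hb : bp b r * t * (bp b r)⁻¹ = ev t s d v (true, b, b, false, false) := by
    cases b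
    · simp [ev]
    · simp only [bp_true, P.r_t]; simp [ev, mul_assoc]
  have ha : bp a q * ev t s d v (true, b, b, false, false) * (bp a q)⁻¹ =
      ev t s d v (true, xor a b, b, false, false) := by
    cases a
    · simp
    · rw [bp_true, P.conj_q B]; congr 1; clear * -; revert i b; decide
  have hw : ev t s d v w * ev t s d v (true, xor a b, b, false, false) * (ev t s d v w)⁻¹ =
      ev t s d v (true, xor a b, b, false, false) := by
    rw [B.ev_conj]; congr 1; clear * -; revert w a b; decide
  calc ev t s d v w * bp a q * bp b r * t * (ev t s d v w * bp a q * bp b r)⁻¹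
      = ev t s d v w * (bp a q * (bp b r * t * (bp b r)⁻¹) * (bp a q)⁻¹) * (ev t s d v w)⁻¹ := by
        group
    _ = _ := by rw [hb, ha, hw]

lemma ev7_inj {x y : W7} (h : ev7 t s d v q r x = ev7 t s d v q r y) : x = y := by
  have hc := P.ev7_conj_t B x
  rw [h, P.ev7_conj_t B y] at hc
  have hw := B.ev_inj hc
  obtain ⟨w, a, b⟩ := x
  obtain ⟨w', a', b'⟩ := y
  simp only [Prod.mk.injEq, true_and, and_true] at hw
  obtain ⟨hab, rfl⟩ := hw
  obtain rfl : a = a' := by revert hab; cases a <;> cases a' <;> cases b' <;> simp
  simp only [ev7] at h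
  rw [B.ev_inj (mul_right_cancel (mul_right_cancel h))]

end Pair

end CfsgLib.TwoTimesSym
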