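import Cfsg.Agent.Lib.Recognition.TwoTimesSym.Concrete

/-!
# A pruned search through the permutations of `Fin n`
-/

set_option linter.unusedSectionVars false

namespace CfsgLib.TwoTimesSym

open Equiv

variable {n : ℕ}

/-- The lists of distinct entries extending `L` by `k` entries all of whose prefixes satisfy `C`. -/
def dfs (C : List (Fin n) → Bool) : ℕ → List (Fin n) → List (List (Fin n))
  | 0, L => [L]
  | k + 1, L => (List.finRange n).flatMap fun i =>
      if !L.contains i && C (L ++ [i]) then dfs C k (L ++ [i]) else []

/-- The prefix `L` is compatible with conjugating the permutation `A` to `B`. -/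
def pcj (L A B : List (Fin n)) : Bool :=
  (List.finRange n).all fun i =>
    !(decide (i.1 < L.length) && decide ((ap A i).1 < L.length)) || ap L (ap A i) == ap B (ap L i)

variable {C : List (Fin n) → Bool}

lemma dfs_spec : ∀ (k : ℕ) (L M : List (Fin n)), M ∈ dfs C k L → L.Nodup →
    M.Nodup ∧ M.length = L.length + k ∧ L <+: M
  | 0, L, M, hM, hL => by
      obtain rfl : M = L := by simpa [dfs] using hM
      exact ⟨hL, rfl, List.prefix_refl _⟩
  | k + 1, L, M, hM, hL => by
      simp only [dfs, List.mem_flatMap] at hM
      obtain ⟨i, -, hM⟩ := hM
      split at hM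
      · rename_i hc
        simp only [Bool.and_eq_true, Bool.not_eq_true', List.contains_eq_mem,
          decide_eq_false_iff_not] at hc
        have hL' : (L ++ [i]).Nodup := List.nodup_append.mpr
          ⟨hL, List.nodup_singleton _, by
            intro a ha b hb
            rw [List.mem_singleton] at hb
            subst hb
            exact fun h => hc.1 (h ▸ ha)⟩
        obtain ⟨h1, h2, h3⟩ := dfs_spec k _ M hM hL'
        refine ⟨h1, ?_, (List.prefix_append L [i]).trans h3⟩
        rw [h2, List.length_append, List.length_singleton]
        omega
      · exact absurd hM List.not_mem_nil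

lemma dfs_nodup : ∀ (k : ℕ) (L : List (Fin n)), L.Nodup → (dfs C k L).Nodup
  | 0, L, _ => by simp [dfs]
  | k + 1, L, hL => by
      simp only [dfs]
      rw [List.nodup_flatMap]
      constructor
      · intro i _
        split
        · rename_i hc
          simp only [Bool.and_eq_true, Bool.not_eq_true', List.contains_eq_mem,
            decide_eq_false_iff_not] at hc
          exact dfs_nodup k _ (List.nodup_append.mpr ⟨hL, List.nodup_singleton _, by
            intro a ha b hb
            rw [List.mem_singleton] at hb
            subst hb
            exact fun h => hc.1 (h ▸ ha)⟩)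
        · exact List.nodup_nil
      · refine (List.nodup_finRange n).imp ?_
        intro i j hij M h1 h2
        simp only at h1 h2
        split at h1
        · rename_i hc1
          split at h2
          · rename_i hc2
            simp only [Bool.and_eq_true, Bool.not_eq_true', List.contains_eq_mem,
              decide_eq_false_iff_not] at hc1 hc2
            have hn : ∀ i, i ∉ L → (L ++ [i]).Nodup := fun i hi => List.nodup_append.mpr
              ⟨hL, List.nodup_singleton _, by
                intro a ha b hb
                rw [List.mem_singleton] at hb
                subst hb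
                exact fun h => hi (h ▸ ha)⟩
            have p1 := (dfs_spec k _ M h1 (hn i hc1.1)).2.2
            have p2 := (dfs_spec k _ M h2 (hn j hc2.1)).2.2
            have p3 := List.prefix_of_prefix_length_le p1 p2 (by simp)
            have p4 := List.IsPrefix.eq_of_length p3 (by simp)
            simp only [List.append_cancel_left_eq, List.cons.injEq, and_true] at p4
            exact hij p4
          · exact List.not_mem_nil h2
        · exact List.not_mem_nil h1

lemma mem_dfs (p : Perm (Fin n)) (hC : ∀ k, C ((code p).take k) = true) :
    code p ∈ dfs C n [] := by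
  have hlen : (code p).length = n := by simp [code]
  have hnd : (code p).Nodup := (List.nodup_finRange n).map p.injective
  have key : ∀ k j, j + k = n → code p ∈ dfs C k ((code p).take j) := by
    intro k
    induction k with
    | zero => intro j hj; rw [dfs, List.take_of_length_le (by omega)]; exact List.mem_singleton_self _
    | succ k ih =>
      intro j hj
      have hj' : j < (code p).length := by omega
      simp only [dfs, List.mem_flatMap]
      refine ⟨(code p)[j], List.mem_finRange _, ?_⟩
      rw [← List.take_succ_eq_append_getElem hj']
      have hni : (code p)[j] ∉ (code p).take j := fun h => by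
        obtain ⟨l, hl, he⟩ := List.getElem_of_mem h
        rw [List.length_take] at hl
        rw [List.getElem_take] at he
        have := (hnd.getElem_inj_iff).mp he
        omega
      rw [if_pos (by simp [hni, hC])]
      exact ih (j + 1) (by omega)
  simpa using key n 0 (Nat.zero_add n)

lemma mem_permutations_of_dfs {L : List (Fin n)} (h : L ∈ dfs C n []) :
    L ∈ (List.finRange n).permutations' := by
  obtain ⟨h1, h2, -⟩ := dfs_spec n [] L h List.nodup_nil
  rw [List.mem_permutations']
  refine (List.perm_ext_iff_of_nodup h1 (List.nodup_finRange n)).mpr fun a => ?_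
  refine ⟨fun _ => List.mem_finRange a, fun _ => ?_⟩
  have hc : L.toFinset = Finset.univ := Finset.eq_univ_of_card _ (by
    rw [List.toFinset_card_of_nodup h1, h2, Fintype.card_fin]; simp)
  exact List.mem_toFinset.mp (hc ▸ Finset.mem_univ a)

/-- A universal check through a pruned search. -/
theorem allPerm_of_dfs {P : List (Fin n) → Bool} (C : List (Fin n) → Bool)
    (hC : ∀ p : Perm (Fin n), P (code p) = false → ∀ k, C ((code p).take k) = true)
    (h : (dfs C n []).all P = true) : allPerm n P = true := by
  refine List.all_eq_true.mpr fun L hL => ?_
  obtain ⟨p, rfl⟩ := exists_code hL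
  by_contra hP
  have hP : P (code p) = false := by simpa using hP
  exact Bool.false_ne_true (hP.symm.trans (List.all_eq_true.mp h _ (mem_dfs p (hC p hP))))

/-- A count through a pruned search. -/
theorem card_of_dfs {P : List (Fin n) → Bool} {N : ℕ} (C : List (Fin n) → Bool)
    (hC : ∀ p : Perm (Fin n), P (code p) = true → ∀ k, C ((code p).take k) = true)
    (h : ((dfs C n []).filter P).length = N) :
    (((List.finRange n).permutations').filter P).toFinset.card = N := by
  rw [← h, ← List.toFinset_card_of_nodup ((dfs_nodup n [] List.nodup_nil).filter _)]
  congr 1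
  ext L
  simp only [List.mem_toFinset, List.mem_filter]
  constructor
  · rintro ⟨hL, hP⟩
    obtain ⟨p, rfl⟩ := exists_code hL
    exact ⟨mem_dfs p (hC p hP), hP⟩
  · exact fun ⟨hL, hP⟩ => ⟨mem_permutations_of_dfs hL, hP⟩

/-- The list of a filter through a pruned search. -/
theorem mem_of_dfs {P : List (Fin n) → Bool} {Ls : List (List (Fin n))}
    (C : List (Fin n) → Bool)
    (hC : ∀ p : Perm (Fin n), P (code p) = true → ∀ k, C ((code p).take k) = true)
    (h : (dfs C n []).filter P = Ls) {p : Perm (Fin n)} (hp : P (code p) = true) : code p ∈ Ls := by
  rw [← h, List.mem_filter]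
  exact ⟨mem_dfs p (hC p hp), hp⟩

lemma pcj_take {p a b : Perm (Fin n)} {A B : List (Fin n)} (hA : code a = A) (hB : code b = B)
    (h : cj (code p) a b = true) (k : ℕ) : pcj ((code p).take k) A B = true := by
  subst hA hB
  have hlen : (code p).length = n := by simp [code]
  have htake : ∀ i : Fin n, i.1 < ((code p).take k).length → ap ((code p).take k) i = p i := by
    intro i hi
    rw [List.length_take] at hi
    rw [← ap_code p i]
    simp only [ap, List.getD_eq_getElem?_getD]
    rw [List.getElem?_take_of_lt (by omega)]
  have heq := (cj_code p a b).mp h
  simp only [pcj, List.all_eq_true, Bool.or_eq_true, Bool.not_eq_true', Bool.and_eq_false_iff,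
    decide_eq_false_iff_not, beq_iff_eq]
  intro i _
  by_cases h1 : i.1 < ((code p).take k).length
  · by_cases h2 : (ap (code a) i).1 < ((code p).take k).length
    · refine Or.inr ?_
      rw [htake _ h2, htake _ h1, ap_code, ap_code, ← heq]
      simp [Perm.mul_apply]
    · exact Or.inl (Or.inr h2)
  · exact Or.inl (Or.inl h1)

lemma all_any_take {p : Perm (Fin n)} {as bs : List (Perm (Fin n))} {As Bs : List (List (Fin n))}
    (hA : as.map code = As) (hB : bs.map code = Bs)
    (h : (as.all fun a => bs.any fun b => cj (code p) a b) = true) (k : ℕ) :
    (As.all fun a => Bs.any fun b => pcj ((code p).take k) a b) = true := by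
  subst hA hB
  simp only [List.all_eq_true, List.any_eq_true, List.mem_map] at h ⊢
  rintro _ ⟨a, ha, rfl⟩
  obtain ⟨b, hb, hab⟩ := h a ha
  exact ⟨_, ⟨b, hb, rfl⟩, pcj_take rfl rfl hab k⟩

end CfsgLib.TwoTimesSym
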