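import Cfsg.Agent.Lib.Recognition.TwoTimesSym.Search
import Cfsg.Agent.Lib.Recognition.TwoTimesSym.KleinPattern

/-!
# The two frames in `Sym(7)`
-/

set_option linter.unusedSectionVars false

namespace CfsgLib.TwoTimesSym.Seven

open Equiv

/-- `(56)`. -/
abbrev s : Perm (Fin 7) := swap 4 5
/-- `(12)`. -/
abbrev d : Perm (Fin 7) := swap 0 1
/-- `(13)(24)`. -/
abbrev v : Perm (Fin 7) := swap 0 2 * swap 1 3
/-- An element of order three of the first frame. -/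
abbrev ρ : Perm (Fin 7) := swap 0 1 * swap 1 3
/-- An element of order three permuting `d, d z, s`. -/
abbrev π : Perm (Fin 7) := swap 0 2 * swap 2 4 * (swap 1 3 * swap 3 5)
/-- An element of order three of the second frame. -/
abbrev ρ' : Perm (Fin 7) := swap 0 4 * swap 4 3 * (swap 1 5 * swap 5 2)
/-- An element of order three permuting the generators of the second frame. -/
abbrev π' : Perm (Fin 7) := swap 1 2 * swap 2 3

set_option maxRecDepth 100000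

/-- The codes of the sixteen words. -/
lemma tab_T : all4.map (fun u => code (permWord s d v u)) = ([[0, 1, 2, 3, 4, 5, 6], [2, 3, 0, 1, 4, 5, 6], [1, 0, 2, 3, 4, 5, 6], [2, 3, 1, 0, 4, 5, 6], [1, 0, 3, 2, 4, 5, 6], [3, 2, 1, 0, 4, 5, 6], [0, 1, 3, 2, 4, 5, 6], [3, 2, 0, 1, 4, 5, 6], [0, 1, 2, 3, 5, 4, 6], [2, 3, 0, 1, 5, 4, 6], [1, 0, 2, 3, 5, 4, 6], [2, 3, 1, 0, 5, 4, 6], [1, 0, 3, 2, 5, 4, 6], [3, 2, 1, 0, 5, 4, 6], [0, 1, 3, 2, 5, 4, 6], [3, 2, 0, 1, 5, 4, 6]] : List (List (Fin 7))) := by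
  decide +kernel

lemma tab_E : (e8 s d v).map code = ([[0, 1, 2, 3, 4, 5, 6], [1, 0, 2, 3, 4, 5, 6], [1, 0, 3, 2, 4, 5, 6], [0, 1, 3, 2, 4, 5, 6], [0, 1, 2, 3, 5, 4, 6], [1, 0, 2, 3, 5, 4, 6], [1, 0, 3, 2, 5, 4, 6], [0, 1, 3, 2, 5, 4, 6]] : List (List (Fin 7))) := by decide +kernel

lemma tab_E' : (e8 (s * (d * v * (d * v))) (v * s) (d * s)).map code =
    ([[0, 1, 2, 3, 4, 5, 6], [2, 3, 0, 1, 5, 4, 6], [1, 0, 3, 2, 4, 5, 6], [3, 2, 1, 0, 5, 4, 6], [1, 0, 3, 2, 5, 4, 6], [3, 2, 1, 0, 4, 5, 6], [0, 1, 2, 3, 5, 4, 6], [2, 3, 0, 1, 4, 5, 6]] : List (List (Fin 7))) := by decide +kernel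

lemma code_s : code s = [0, 1, 2, 3, 5, 4, 6] := by decide +kernel
lemma code_d : code d = [1, 0, 2, 3, 4, 5, 6] := by decide +kernel
lemma code_v : code v = [2, 3, 0, 1, 4, 5, 6] := by decide +kernel
lemma code_z : code (d * v * (d * v)) = [1, 0, 3, 2, 4, 5, 6] := by decide +kernel
lemma code_c : code (s * (d * v * (d * v))) = [1, 0, 3, 2, 5, 4, 6] := by decide +kernel
lemma code_d' : code (v * s) = [2, 3, 0, 1, 5, 4, 6] := by decide +kernel
lemma code_v' : code (d * s) = [1, 0, 2, 3, 5, 4, 6] := by decide +kernel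
lemma code_z' : code (v * s * (d * s) * (v * s * (d * s))) = [1, 0, 3, 2, 4, 5, 6] := by decide +kernel
lemma code_vz : code (v * (d * v * (d * v))) = [3, 2, 1, 0, 4, 5, 6] := by decide +kernel
lemma code_vz' : code (d * s * (v * s * (d * s) * (v * s * (d * s)))) = [0, 1, 3, 2, 5, 4, 6] := by
  decide +kernel


theorem facts : Facts s d v where
  small := by norm_num
  odd := ⟨315, by decide, by decide +kernel⟩
  s_sq := by decide +kernel
  d_sq := by decide +kernel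
  v_sq := by decide +kernel
  sd := by decide +kernel
  sv := by decide +kernel
  dv4 := by decide +kernel
  faithful := by decide +kernel
  normT := by
    refine allPerm_of_dfs (fun L => ([[0, 1, 2, 3, 5, 4, 6], [1, 0, 2, 3, 4, 5, 6], [2, 3, 0, 1, 4, 5, 6]] : List (List (Fin 7))).all fun a =>
      ([[0, 1, 2, 3, 4, 5, 6], [2, 3, 0, 1, 4, 5, 6], [1, 0, 2, 3, 4, 5, 6], [2, 3, 1, 0, 4, 5, 6], [1, 0, 3, 2, 4, 5, 6], [3, 2, 1, 0, 4, 5, 6], [0, 1, 3, 2, 4, 5, 6], [3, 2, 0, 1, 4, 5, 6], [0, 1, 2, 3, 5, 4, 6], [2, 3, 0, 1, 5, 4, 6], [1, 0, 2, 3, 5, 4, 6], [2, 3, 1, 0, 5, 4, 6], [1, 0, 3, 2, 5, 4, 6], [3, 2, 1, 0, 5, 4, 6], [0, 1, 3, 2, 5, 4, 6], [3, 2, 0, 1, 5, 4, 6]] : List (List (Fin 7))).any fun b => pcj L a b) (fun p h k => ?_) (by decide +kernel)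
    simp only [Bool.or_eq_false_iff, Bool.not_eq_false'] at h
    refine all_any_take (as := [s, d, v]) (bs := all4.map (permWord s d v))
      (by simp [code_s, code_d, code_v]) (by rw [List.map_map]; exact tab_T) ?_ k
    simpa [List.any_map, Function.comp_def] using h.1
  supp_s := by decide +kernel
  supp_z := by decide +kernel
  supp_c := by decide +kernel
  supp_d := by decide +kernel
  supp_v := by decide +kernel
  supp_ds := by decide +kernel
  supp_vs := by decide +kernel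

/-- Even permutations fixing the fifth point. -/
def derived : Subgroup (Perm (Fin 7)) := MulAction.stabilizer (Perm (Fin 7)) (4 : Fin 7) ⊓ Perm.sign.ker

lemma commutator_mem {a b : Perm (Fin 7)} (ha : a * s = s * a) (hb : b * s = s * b) :
    a * b * a⁻¹ * b⁻¹ ∈ derived := by
  have key : ∀ a : Perm (Fin 7), a * s = s * a →
      a 4 = 4 ∧ a 5 = 5 ∨ a 4 = 5 ∧ a 5 = 4 := by
    intro a ha
    have h := Equiv.ext_iff.mp ha 4
    simp only [Perm.mul_apply, s, swap_apply_left] at h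
    have hne : a 5 ≠ a 4 := fun h => by simpa [Fin.ext_iff] using a.injective h
    rcases eq_or_ne (a 4) 4 with e | e
    · exact Or.inl ⟨e, by rw [h, e, swap_apply_left]⟩
    · rcases eq_or_ne (a 4) 5 with e' | e'
      · exact Or.inr ⟨e', by rw [h, e', swap_apply_right]⟩
      · exact absurd (h.trans (swap_apply_of_ne_of_ne e e')) hne
  refine ⟨?_, ?_⟩
  · show (a * b * a⁻¹ * b⁻¹) 4 = 4
    have ia : ∀ i j, a i = j → a⁻¹ j = i := fun i j h => by rw [← h]; simp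
    have ib : ∀ i j, b i = j → b⁻¹ j = i := fun i j h => by rw [← h]; simp
    simp only [Perm.mul_apply]
    rcases key a ha with ⟨e1, e2⟩ | ⟨e1, e2⟩ <;> rcases key b hb with ⟨f1, f2⟩ | ⟨f1, f2⟩
    · rw [ib _ _ f1, ia _ _ e1, f1, e1]
    · rw [ib _ _ f2, ia _ _ e2, f2, e1]
    · rw [ib _ _ f1, ia _ _ e2, f2, e2]
    · rw [ib _ _ f2, ia _ _ e1, f1, e2]
  · show Perm.sign (a * b * a⁻¹ * b⁻¹) = 1
    simp only [map_mul, map_inv]
    rcases Int.units_eq_one_or (Perm.sign a) with h | h <;>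
      rcases Int.units_eq_one_or (Perm.sign b) with h' | h' <;> simp [h, h']

theorem half : HalfFacts s d v ρ π where
  cent := by
    refine allPerm_of_dfs (fun L => pcj L [0, 1, 2, 3, 5, 4, 6] [0, 1, 2, 3, 5, 4, 6] && pcj L [1, 0, 3, 2, 4, 5, 6] [1, 0, 3, 2, 4, 5, 6] &&
      pcj L [1, 0, 2, 3, 4, 5, 6] [1, 0, 2, 3, 4, 5, 6]) (fun p h k => ?_) (by decide +kernel)
    simp only [Bool.or_eq_false_iff, Bool.not_eq_false', Bool.and_eq_true] at h
    simp [pcj_take code_s code_s h.1.1.1 k, pcj_take code_z code_z h.1.1.2 k, pcj_take code_d code_d h.1.2 k]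
  norm := by
    refine card_of_dfs (fun L => ([[0, 1, 2, 3, 5, 4, 6], [1, 0, 3, 2, 4, 5, 6], [1, 0, 2, 3, 4, 5, 6]] : List (List (Fin 7))).all fun a =>
      ([[0, 1, 2, 3, 4, 5, 6], [1, 0, 2, 3, 4, 5, 6], [1, 0, 3, 2, 4, 5, 6], [0, 1, 3, 2, 4, 5, 6], [0, 1, 2, 3, 5, 4, 6], [1, 0, 2, 3, 5, 4, 6], [1, 0, 3, 2, 5, 4, 6], [0, 1, 3, 2, 5, 4, 6]] : List (List (Fin 7))).any fun b => pcj L a b) (fun p h k => ?_) (by decide +kernel)
    exact all_any_take (by simp [code_s, code_z, code_d]) tab_E h k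
  ρ_unique := by
    refine allPerm_of_dfs (fun L => pcj L [0, 1, 2, 3, 5, 4, 6] [0, 1, 2, 3, 5, 4, 6] && pcj L [1, 0, 3, 2, 4, 5, 6] [2, 3, 0, 1, 4, 5, 6] &&
      pcj L [2, 3, 0, 1, 4, 5, 6] [3, 2, 1, 0, 4, 5, 6]) (fun p h k => ?_) (by decide +kernel)
    simp only [Bool.or_eq_false_iff, Bool.not_eq_false', Bool.and_eq_true] at h
    simp [pcj_take code_s code_s h.1.1.1.1 k, pcj_take code_z code_v h.1.1.1.2 k,
      pcj_take code_v code_vz h.1.1.2 k]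
  v_comm := ⟨swap 1 2 * swap 2 3, swap 0 3 * swap 3 1, by decide +kernel⟩
  z_comm := ⟨swap 2 3, swap 0 2 * swap 1 3, by decide +kernel⟩
  comm_T := ⟨derived, fun _ _ => commutator_mem, by
    intro u h
    have h1 : permWord s d v u 4 = 4 := h.1
    have h2 : Perm.sign (permWord s d v u) = 1 := h.2
    revert h1 h2
    clear h
    revert u
    decide +kernel⟩
  ρ_s := by decide +kernel
  ρ_cube := by decide +kernel
  ρ_z := by decide +kernel
  ρ_v := by decide +kernel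
  ρ_d := by decide +kernel
  π_d := by decide +kernel
  π_dz := by decide +kernel
  π_s := by decide +kernel

/-- The derived group of the centraliser of the triple transposition. -/
def derived' : List (Perm (Fin 7)) :=
  [1, swap 0 1 * swap 2 3, swap 0 1 * swap 4 5, swap 2 3 * swap 4 5,
    swap 0 2 * swap 2 4 * (swap 1 3 * swap 3 5),
    swap 0 5 * swap 5 3 * (swap 1 4 * swap 4 2),
    swap 0 3 * swap 3 4 * (swap 1 2 * swap 2 5),
    swap 0 4 * swap 4 3 * (swap 1 5 * swap 5 2),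
    swap 0 2 * swap 2 5 * (swap 1 3 * swap 3 4),
    swap 0 3 * swap 3 5 * (swap 1 2 * swap 2 4),
    swap 0 4 * swap 4 2 * (swap 1 5 * swap 5 3),
    swap 0 5 * swap 5 2 * (swap 1 4 * swap 4 3)]

lemma derived'_mul : (derived'.all fun a => derived'.all fun b =>
    derived'.any fun c => code (a * b) == code c) = true := by decide +kernel

/-- The centraliser of the triple transposition. -/
def cent' : List (List (Fin 7)) :=
  [[0, 1, 2, 3, 4, 5, 6], [0, 1, 2, 3, 5, 4, 6], [0, 1, 3, 2, 4, 5, 6], [0, 1, 3, 2, 5, 4, 6], [0, 1, 4, 5, 2, 3, 6], [0, 1, 4, 5, 3, 2, 6], [0, 1, 5, 4, 2, 3, 6], [0, 1, 5, 4, 3, 2, 6], [1, 0, 2, 3, 4, 5, 6], [1, 0, 2, 3, 5, 4, 6], [1, 0, 3, 2, 4, 5, 6], [1, 0, 3, 2, 5, 4, 6], [1, 0, 4, 5, 2, 3, 6], [1, 0, 4, 5, 3, 2, 6], [1, 0, 5, 4, 2, 3, 6], [1, 0, 5, 4, 3, 2, 6], [2, 3, 0, 1, 4, 5, 6], [2, 3, 0, 1, 5, 4, 6], [2, 3, 1, 0, 4, 5, 6], [2, 3, 1, 0, 5, 4, 6], [2, 3, 4, 5, 0, 1, 6],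 [2, 3, 4, 5, 1, 0, 6], [2, 3, 5, 4, 0, 1, 6], [2, 3, 5, 4, 1, 0, 6], [3, 2, 0, 1, 4, 5, 6], [3, 2, 0, 1, 5, 4, 6], [3, 2, 1, 0, 4, 5, 6], [3, 2, 1, 0, 5, 4, 6], [3, 2, 4, 5, 0, 1, 6], [3, 2, 4, 5, 1, 0, 6], [3, 2, 5, 4, 0, 1, 6], [3, 2, 5, 4, 1, 0, 6], [4, 5, 0, 1, 2, 3, 6], [4, 5, 0, 1, 3, 2, 6], [4, 5, 1, 0, 2, 3, 6], [4, 5, 1, 0, 3, 2, 6], [4, 5, 2, 3, 0, 1, 6], [4, 5, 2, 3, 1, 0, 6], [4, 5, 3, 2, 0, 1, 6], [4, 5, 3, 2, 1, 0, 6], [5, 4, 0, 1, 2, 3, 6], [5, 4, 0, 1, 3, 2, 6], [5, 4, 1, 0, 2, 3, 6], [5, 4, 1, 0, 3, 2, 6], [5, 4, 2, 3, 0, 1, 6], [5, 4, 2, 3, 1, 0, 6], [5, 4, 3, 2, 0, 1, 6], [5, 4, 3, 2, 1, 0, 6]]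

lemma cent'_comm : (cent'.all fun A => cent'.all fun B =>
    ([[0, 1, 2, 3, 4, 5, 6], [1, 0, 3, 2, 4, 5, 6], [1, 0, 2, 3, 5, 4, 6], [0, 1, 3, 2, 5, 4, 6], [2, 3, 4, 5, 0, 1, 6], [5, 4, 1, 0, 2, 3, 6], [3, 2, 5, 4, 0, 1, 6], [4, 5, 1, 0, 3, 2, 6], [2, 3, 5, 4, 1, 0, 6], [3, 2, 4, 5, 1, 0, 6], [4, 5, 0, 1, 2, 3, 6], [5, 4, 0, 1, 3, 2, 6]] : List (List (Fin 7))).any fun c =>
      (List.finRange 7).all fun i => ap A (ap B i) == ap c (ap B (ap A i))) = true := by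
  decide +kernel

lemma derived'_code : derived'.map code = ([[0, 1, 2, 3, 4, 5, 6], [1, 0, 3, 2, 4, 5, 6], [1, 0, 2, 3, 5, 4, 6], [0, 1, 3, 2, 5, 4, 6], [2, 3, 4, 5, 0, 1, 6], [5, 4, 1, 0, 2, 3, 6], [3, 2, 5, 4, 0, 1, 6], [4, 5, 1, 0, 3, 2, 6], [2, 3, 5, 4, 1, 0, 6], [3, 2, 4, 5, 1, 0, 6], [4, 5, 0, 1, 2, 3, 6], [5, 4, 0, 1, 3, 2, 6]] : List (List (Fin 7))) := by decide +kernel

lemma mem_cent' {p : Perm (Fin 7)}
    (h : cj (code p) (s * (d * v * (d * v))) (s * (d * v * (d * v))) = true) : code p ∈ cent' := by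
  refine mem_of_dfs (P := fun L => cj L (s * (d * v * (d * v))) (s * (d * v * (d * v))))
    (fun L => pcj L [1, 0, 3, 2, 5, 4, 6] [1, 0, 3, 2, 5, 4, 6]) (fun q hq k => pcj_take code_c code_c hq k)
    (by decide +kernel) h

theorem half' : HalfFacts (s * (d * v * (d * v))) (v * s) (d * s) ρ' π' where
  cent := by
    refine allPerm_of_dfs (fun L => pcj L [1, 0, 3, 2, 5, 4, 6] [1, 0, 3, 2, 5, 4, 6] && pcj L [1, 0, 3, 2, 4, 5, 6] [1, 0, 3, 2, 4, 5, 6] &&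
      pcj L [2, 3, 0, 1, 5, 4, 6] [2, 3, 0, 1, 5, 4, 6]) (fun p h k => ?_) (by decide +kernel)
    simp only [Bool.or_eq_false_iff, Bool.not_eq_false', Bool.and_eq_true] at h
    simp [pcj_take code_c code_c h.1.1.1 k, pcj_take code_z' code_z' h.1.1.2 k, pcj_take code_d' code_d' h.1.2 k]
  norm := by
    refine card_of_dfs (fun L => ([[1, 0, 3, 2, 5, 4, 6], [1, 0, 3, 2, 4, 5, 6], [2, 3, 0, 1, 5, 4, 6]] : List (List (Fin 7))).all fun a =>
      ([[0, 1, 2, 3, 4, 5, 6], [2, 3, 0, 1, 5, 4, 6], [1, 0, 3, 2, 4, 5, 6], [3, 2, 1, 0, 5, 4, 6], [1, 0, 3, 2, 5, 4, 6], [3, 2, 1, 0, 4, 5, 6], [0, 1, 2, 3, 5, 4, 6], [2, 3, 0, 1, 4, 5, 6]] : List (List (Fin 7))).any fun b => pcj L a b) (fun p h k => ?_) (by decide +kernel)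
    exact all_any_take (by simp [code_c, code_z', code_d']) tab_E' h k
  ρ_unique := by
    refine allPerm_of_dfs (fun L => pcj L [1, 0, 3, 2, 5, 4, 6] [1, 0, 3, 2, 5, 4, 6] && pcj L [1, 0, 3, 2, 4, 5, 6] [1, 0, 2, 3, 5, 4, 6] &&
      pcj L [1, 0, 2, 3, 5, 4, 6] [0, 1, 3, 2, 5, 4, 6]) (fun p h k => ?_) (by decide +kernel)
    simp only [Bool.or_eq_false_iff, Bool.not_eq_false', Bool.and_eq_true] at h
    simp [pcj_take code_c code_c h.1.1.1.1 k, pcj_take code_z' code_v' h.1.1.1.2 k,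
      pcj_take code_v' code_vz' h.1.1.2 k]
  v_comm := ⟨swap 4 5, swap 0 2 * swap 2 4 * (swap 1 3 * swap 3 5), by decide +kernel⟩
  z_comm := ⟨swap 2 3, swap 0 2 * swap 1 3, by decide +kernel⟩
  comm_T := by
    let D : Subgroup (Perm (Fin 7)) := subgroupOfMul {p | p ∈ derived'} (by simp [derived'])
      (by
        intro a ha b hb
        obtain ⟨c, hc, h⟩ := List.any_eq_true.mp
          (List.all_eq_true.mp (List.all_eq_true.mp derived'_mul a ha) b hb)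
        show a * b ∈ derived'
        rw [code_injective (beq_iff_eq.mp h)]; exact hc)
    refine ⟨D, fun a b ha hb => ?_, ?_⟩
    · have hm : ∀ a : Perm (Fin 7), a * (s * (d * v * (d * v))) = s * (d * v * (d * v)) * a →
          code a ∈ cent' := fun a ha => mem_cent' ((cj_code _ _ _).mpr (by rw [ha]; group))
      obtain ⟨c', hc', h⟩ := List.any_eq_true.mp
        (List.all_eq_true.mp (List.all_eq_true.mp cent'_comm _ (hm a ha)) _ (hm b hb))
      rw [← derived'_code, List.mem_map] at hc'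
      obtain ⟨c, hc, rfl⟩ := hc'
      simp only [List.all_eq_true, beq_iff_eq, ap_code] at h
      show a * b * a⁻¹ * b⁻¹ ∈ derived'
      have e : a * b = c * (b * a) := Equiv.ext fun i => by
        simpa [Perm.mul_apply] using h i (List.mem_finRange i)
      rw [e]
      convert hc using 1
      group
    · intro u h
      have h' : (derived'.any fun c =>
          code (permWord (s * (d * v * (d * v))) (v * s) (d * s) u) == code c) = true :=
        List.any_eq_true.mpr ⟨_, h, by simp⟩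
      revert h'
      clear h
      revert u
      decide +kernel
  ρ_s := by decide +kernel
  ρ_cube := by decide +kernel
  ρ_z := by decide +kernel
  ρ_v := by decide +kernel
  ρ_d := by decide +kernel
  π_d := by decide +kernel
  π_dz := by decide +kernel
  π_s := by decide +kernel

/-- The centralisers of the two special involutions have different orders. -/
lemma card_lists :
    ((List.finRange 7).permutations'.filter fun L => cj L s s).toFinset.card = 240 ∧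
      ((List.finRange 7).permutations'.filter fun L =>
        cj L (s * (d * v * (d * v))) (s * (d * v * (d * v)))).toFinset.card = 48 := by
  refine ⟨card_of_dfs (fun L => pcj L [0, 1, 2, 3, 5, 4, 6] [0, 1, 2, 3, 5, 4, 6])
    (fun p h k => pcj_take code_s code_s h k) (by decide +kernel), ?_⟩
  exact card_of_dfs (fun L => pcj L [1, 0, 3, 2, 5, 4, 6] [1, 0, 3, 2, 5, 4, 6])
    (fun p h k => pcj_take code_c code_c h k) (by decide +kernel)

end CfsgLib.TwoTimesSym.Seven
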