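import Mathlib

/-!
# Sign of an involution on a coset space

If `G` has no subgroup of index `2`, an involution `t` acts as an even permutation on every coset
space `G ⧸ H`, so `|G| ≡ |C(t)| * #(t^G ∩ H) (mod 4|H|)`.
-/

open scoped Classical

namespace CfsgLib.TwoTimesSym

variable {G : Type*} [Group G] [Finite G]

/-- `G` has no subgroup of index two. -/
def NoIndexTwo (G : Type*) [Group G] : Prop := ∀ H : Subgroup G, H.index ≠ 2

omit [Finite G] in
lemma hom_units_int_eq_one (hG : NoIndexTwo G) (φ : G →* ℤˣ) : φ = 1 := by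
  ext g
  by_contra hg
  have hsur : Function.Surjective φ := by
    intro u
    rcases Int.units_eq_one_or u with rfl | rfl
    · exact ⟨1, map_one φ⟩
    · rcases Int.units_eq_one_or (φ g) with h | h
      · exact absurd (by rw [h]; rfl) hg
      · exact ⟨g, h⟩
  have hi := Subgroup.index_ker φ
  rw [MonoidHom.range_eq_top.mpr hsur, Nat.card_congr (Subgroup.topEquiv.toEquiv)] at hi
  exact hG φ.ker (by rw [hi]; simp [Nat.card_eq_fintype_card])

lemma sign_toPerm_eq_one (hG : NoIndexTwo G) (g : G) {α : Type*} [Fintype α] [DecidableEq α]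
    [MulAction G α] : Equiv.Perm.sign (MulAction.toPerm g : Equiv.Perm α) = 1 :=
  DFunLike.congr_fun
    (hom_units_int_eq_one hG (Equiv.Perm.sign.comp (MulAction.toPermHom G α))) g

/-- An even permutation of order at most two moves a multiple of four points. -/
lemma four_dvd_card_sub_fixed {α : Type*} [Fintype α] [DecidableEq α] (σ : Equiv.Perm α)
    (h2 : σ * σ = 1) (hs : Equiv.Perm.sign σ = 1) :
    4 ∣ σ.support.card := by
  have hall : ∀ n ∈ σ.cycleType, n = 2 := by
    intro n hn
    have h1 : σ ^ 2 = 1 := by rw [pow_two, h2]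
    have hd : n ∣ 2 :=
      (Equiv.Perm.dvd_of_mem_cycleType hn).trans (orderOf_dvd_of_pow_eq_one h1)
    have := Equiv.Perm.two_le_of_mem_cycleType hn
    have := Nat.le_of_dvd (by norm_num) hd
    omega
  obtain ⟨k, hk⟩ : ∃ k, σ.cycleType = Multiset.replicate k 2 :=
    ⟨_, Multiset.eq_replicate_card.mpr hall⟩
  have hsum : σ.support.card = 2 * k := by
    rw [← Equiv.Perm.sum_cycleType, hk, Multiset.sum_replicate, smul_eq_mul, mul_comm]
  rw [Equiv.Perm.sign_of_cycleType, hk, Multiset.sum_replicate, Multiset.card_replicate,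
    smul_eq_mul] at hs
  have hev : Even (k * 2 + k) := (neg_one_pow_eq_one_iff_even (by decide)).mp hs
  rw [hsum]
  obtain ⟨j, hj⟩ := hev
  omega

/-- The conjugates of `t` lying in `H`. -/
def conjIn (t : G) (H : Subgroup G) : Set G := {x | x ∈ H ∧ IsConj t x}

lemma card_conj_preimage (t x : G) (hx : IsConj t x) :
    Nat.card {g : G // g⁻¹ * t * g = x} = Nat.card (Subgroup.centralizer ({t} : Set G)) := by
  obtain ⟨c, hc⟩ := isConj_iff.mp hx
  refine Nat.card_congr ⟨fun g => ⟨g.1 * c, ?_⟩, fun k => ⟨k.1 * c⁻¹, ?_⟩, ?_, ?_⟩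
  · rw [Subgroup.mem_centralizer_singleton_iff]
    have h : g.1⁻¹ * t * g.1 = c * t * c⁻¹ := g.2.trans hc.symm
    calc g.1 * c * t = g.1 * (c * t * c⁻¹) * c := by group
      _ = g.1 * (g.1⁻¹ * t * g.1) * c := by rw [h]
      _ = t * (g.1 * c) := by group
  · have h := Subgroup.mem_centralizer_singleton_iff.mp k.2
    rw [← hc]
    calc (k.1 * c⁻¹)⁻¹ * t * (k.1 * c⁻¹) = c * k.1⁻¹ * (t * k.1) * c⁻¹ := by group
      _ = c * t * c⁻¹ := by rw [← h]; group
  · intro g; ext; simp
  · intro k; ext; simp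

/-- Counting the cosets of `H` fixed by `t`. -/
lemma card_fixed_mul (t : G) (H : Subgroup G) :
    Nat.card {x : G ⧸ H // t • x = x} * Nat.card H =
      Nat.card (Subgroup.centralizer ({t} : Set G)) * (conjIn t H).ncard := by
  let S : Set G := {g | g⁻¹ * t * g ∈ H}
  have h1 : Nat.card {x : G ⧸ H // t • x = x} * Nat.card H = Nat.card S := by
    have hpre : S = ((↑) : G → G ⧸ H) ⁻¹' {x | t • x = x} := by
      ext g
      simp only [S, Set.mem_ofPred_eq, Set.mem_preimage]
      rw [eq_comm (a := t • (g : G ⧸ H)), MulAction.Quotient.smul_coe, smul_eq_mul,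
        QuotientGroup.eq, mul_assoc]
    rw [hpre, Nat.card_congr (QuotientGroup.preimageMkEquivSubgroupProdSet H _), Nat.card_prod]
    exact mul_comm _ _
  have : Fintype (conjIn t H) := Fintype.ofFinite _
  let f : S → conjIn t H := fun g =>
    ⟨g.1⁻¹ * t * g.1, g.2, isConj_iff.mpr ⟨g.1⁻¹, by group⟩⟩
  have h2 : Nat.card S = ∑ _x : conjIn t H, Nat.card (Subgroup.centralizer ({t} : Set G)) := by
    rw [Nat.card_congr (Equiv.sigmaFiberEquiv f).symm, Nat.card_sigma]
    refine Finset.sum_congr rfl fun x _ => ?_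
    rw [← card_conj_preimage t x.1 x.2.2]
    refine Nat.card_congr ⟨fun g => ⟨g.1.1, congrArg Subtype.val g.2⟩,
      fun g => ⟨⟨g.1, show g.1⁻¹ * t * g.1 ∈ H by rw [g.2]; exact x.2.1⟩, Subtype.ext g.2⟩,
      fun g => rfl, fun g => rfl⟩
  rw [h1, h2, Finset.sum_const, Finset.card_univ, smul_eq_mul, ← Nat.card_eq_fintype_card,
    Nat.card_coe_set_eq, mul_comm]

/-- `|G| ≡ |C(t)| * #(t^G ∩ H) (mod 4 |H|)` when `G` has no subgroup of index two. -/
theorem modEq_sign (hG : NoIndexTwo G) {t : G} (ht : t * t = 1) (H : Subgroup G) :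
    Nat.card G ≡ Nat.card (Subgroup.centralizer ({t} : Set G)) * (conjIn t H).ncard
      [MOD 4 * Nat.card H] := by
  have : Fintype (G ⧸ H) := Fintype.ofFinite _
  set σ : Equiv.Perm (G ⧸ H) := MulAction.toPerm t with hσ
  have h2 : σ * σ = 1 := by
    ext x
    simp only [hσ, Equiv.Perm.mul_apply, MulAction.toPerm_apply, Equiv.Perm.one_apply, smul_smul,
      ht, one_smul]
  have h4 := four_dvd_card_sub_fixed σ h2 (sign_toPerm_eq_one hG t)
  have hfix : Nat.card {x : G ⧸ H // t • x = x} = σ.supportᶜ.card := by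
    rw [Nat.card_eq_fintype_card, Fintype.card_subtype]
    congr 1
    ext x
    simp [hσ]
  have hcard : Nat.card G = σ.support.card * Nat.card H +
      Nat.card {x : G ⧸ H // t • x = x} * Nat.card H := by
    rw [hfix, ← add_mul, Finset.card_add_card_compl, ← Nat.card_eq_fintype_card,
      ← Subgroup.index_eq_card, Subgroup.index_mul_card]
  rw [hcard, card_fixed_mul]
  obtain ⟨j, hj⟩ := h4
  unfold Nat.ModEq
  rw [hj, show 4 * j * Nat.card H = 4 * Nat.card H * j by ring, Nat.mul_add_mod]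

/-- For a subgroup `M` of index two in `H`: `2|H|` divides `|C(t)| * #((t^G ∩ H) \ M)`. -/
theorem dvd_card_conj_diff (hG : NoIndexTwo G) {t : G} (ht : t * t = 1) {H M : Subgroup G}
    (hle : M ≤ H) (hcard : 2 * Nat.card M = Nat.card H) :
    2 * Nat.card H ∣
      Nat.card (Subgroup.centralizer ({t} : Set G)) * (conjIn t H \ (M : Set G)).ncard := by
  have hH : Nat.card G ≡ Nat.card (Subgroup.centralizer ({t} : Set G)) * (conjIn t H).ncard
      [MOD 2 * Nat.card H] :=
    (modEq_sign hG ht H).of_dvd ⟨2, by ring⟩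
  have hM : Nat.card G ≡ Nat.card (Subgroup.centralizer ({t} : Set G)) * (conjIn t M).ncard
      [MOD 2 * Nat.card H] := by
    have := modEq_sign hG ht M
    rwa [show 4 * Nat.card M = 2 * Nat.card H by omega] at this
  have hsplit : conjIn t M = conjIn t H ∩ (M : Set G) := by
    ext x
    constructor
    · rintro ⟨hx, hc⟩
      exact ⟨⟨hle hx, hc⟩, hx⟩
    · rintro ⟨⟨-, hc⟩, hx⟩
      exact ⟨hx, hc⟩
  have hn : (conjIn t H).ncard = (conjIn t M).ncard + (conjIn t H \ (M : Set G)).ncard := by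
    rw [hsplit, Set.ncard_inter_add_ncard_sdiff_eq_ncard _ _ (Set.toFinite _)]
  have h := hH.symm.trans hM
  rw [hn, mul_add] at h
  exact Nat.modEq_zero_iff_dvd.mp (Nat.ModEq.add_left_cancel' _ (h.trans (by simp; rfl)))

end CfsgLib.TwoTimesSym
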