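import Cfsg.Agent.Lib.Recognition.TwoTimesSym.KleinPattern

/-!
# Translation groups of elementary abelian subgroups `⟨x⟩ × E₁` of order 16
-/

set_option linter.unusedSectionVars false

namespace CfsgLib.TwoTimesSym

variable {G : Type*} [Group G] [Finite G] {t : G} {E : Subgroup G} {s d v : G}

namespace Base

variable (B : Base t E s d v)

include B

/-- `E₁ = A₁ ∩ E = ⟨s, z, d⟩`. -/
def E1 : Subgroup G := B.A1 ⊓ E

/-- The set `⟨x⟩ E₁`. -/
def axSet (x : G) : Set G := (B.E1 : Set G) ∪ (fun e => x * e) '' (B.E1 : Set G)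

/-- The translation group of `⟨x⟩ E₁`: centralises `E₁` and normalises it. -/
def trans (x : G) : Subgroup G :=
  Subgroup.centralizer (B.E1 : Set G) ⊓
    subgroupOfMul {g | ∀ y ∈ B.axSet x, g * y * g⁻¹ ∈ B.axSet x}
      (fun y hy => by simpa using hy)
      (fun g hg h hh y hy => by
        have := hg _ (hh y hy)
        convert this using 1; group)

lemma mem_trans {x g : G} :
    g ∈ B.trans x ↔ (∀ e ∈ B.E1, e * g = g * e) ∧ ∀ y ∈ B.axSet x, g * y * g⁻¹ ∈ B.axSet x := by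
  simp [trans, Subgroup.mem_centralizer_iff]

lemma mem_E1 {x : G} : x ∈ B.E1 ↔
    ∃ w : W5, w.1 = false ∧ w.2.2.2.2 = false ∧ ev t s d v w = x := by
  constructor
  · rintro ⟨hA, hE⟩
    obtain ⟨w, hw, rfl⟩ := B.mem_A1.mp hA
    exact ⟨w, B.ev_mem_E.mp hE, hw, rfl⟩
  · rintro ⟨w, h1, h2, rfl⟩
    exact ⟨B.ev_mem_A1.mpr h2, B.ev_mem_E.mpr h1⟩

lemma card_E1 : Nat.card B.E1 = 8 := by
  have : (B.E1 : Set G) = ev t s d v '' {w | w.1 = false ∧ w.2.2.2.2 = false} := by
    ext x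
    rw [SetLike.mem_coe, B.mem_E1]
    exact ⟨fun ⟨w, h1, h2, h3⟩ => ⟨w, ⟨h1, h2⟩, h3⟩, fun ⟨w, ⟨h1, h2⟩, h3⟩ => ⟨w, h1, h2, h3⟩⟩
  rw [← SetLike.coe_sort_coe, Nat.card_coe_set_eq, this,
    Set.ncard_image_of_injective _ (fun _ _ => B.ev_inj), Set.ncard_eq_toFinset_card']
  decide

lemma E1_sq {a : G} (ha : a ∈ B.E1) : a * a = 1 := B.A1_sq ha.1

lemma E1_comm {a b : G} (ha : a ∈ B.E1) (hb : b ∈ B.E1) : a * b = b * a :=
  B.A1_mul_comm ha.1 hb.1

lemma E1_not_conj (hF : Four t E) {a : G} (ha : a ∈ B.E1) : ¬ IsConj t a := fun h =>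
  ((B.mem_conjIn_A1 hF ha.1).mp h) ha.2

variable {x : G}

lemma axSet_mul (hF : Four t E) (hx : IsConj t x) (hxE : ∀ e ∈ B.E1, e * x = x * e) :
    ∀ a ∈ B.axSet x, ∀ b ∈ B.axSet x, a * b ∈ B.axSet x := by
  have hx2 := isConj_sq B.t_sq hx
  rintro a (ha | ⟨e, he, rfl⟩) b (hb | ⟨f, hf, rfl⟩)
  · exact Or.inl (B.E1.mul_mem ha hb)
  · exact Or.inr ⟨a * f, B.E1.mul_mem ha hf, by
      show x * (a * f) = a * (x * f)
      rw [← mul_assoc, ← hxE a ha, mul_assoc]⟩
  · exact Or.inr ⟨e * b, B.E1.mul_mem he hb, (mul_assoc _ _ _).symm⟩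
  · refine Or.inl ?_
    have : x * e * (x * f) = e * f := by
      rw [← mul_assoc (x * e), mul_assoc x e x, hxE e he, ← mul_assoc x x, hx2, one_mul]
    rw [show (fun e => x * e) e * (fun e => x * e) f = x * e * (x * f) from rfl, this]
    exact B.E1.mul_mem he hf

/-- `⟨x⟩ E₁` as a subgroup. -/
def ax (hF : Four t E) (hx : IsConj t x) (hxE : ∀ e ∈ B.E1, e * x = x * e) : Subgroup G :=
  subgroupOfMul (B.axSet x) (Or.inl B.E1.one_mem) (B.axSet_mul hF hx hxE)

lemma isConj_axSet (hF : Four t E) (hx : IsConj t x) (hxE : ∀ e ∈ B.E1, e * x = x * e) {a : G}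
    (ha : a ∈ B.axSet x) : IsConj t a ↔ a ∉ B.E1 := by
  refine ⟨fun h he => B.E1_not_conj hF he h, fun h => ?_⟩
  rcases ha with ha | ⟨e, he, rfl⟩
  · exact absurd ha h
  · exact hF.conj_mul B hx (B.E1_sq he) (B.E1_not_conj hF he) (hxE e he)

lemma ax_props (hF : Four t E) (hx : IsConj t x) (hxE : ∀ e ∈ B.E1, e * x = x * e) :
    (∀ a ∈ B.axSet x, a * a = 1) ∧ (∀ a ∈ B.axSet x, ∀ b ∈ B.axSet x, a * b = b * a) ∧
      (B.axSet x).ncard = 16 := by
  have hx2 := isConj_sq B.t_sq hx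
  refine ⟨?_, ?_, ?_⟩
  · rintro a (ha | ⟨e, he, rfl⟩)
    · exact B.E1_sq ha
    · show x * e * (x * e) = 1
      rw [← mul_assoc, mul_assoc x e x, hxE e he, ← mul_assoc x x, hx2, one_mul, B.E1_sq he]
  · have h1 : ∀ a ∈ B.axSet x, ∀ e ∈ B.E1, a * e = e * a := by
      rintro a (ha | ⟨f, hf, rfl⟩) e he
      · exact B.E1_comm ha he
      · show x * f * e = e * (x * f)
        rw [mul_assoc, B.E1_comm hf he, ← mul_assoc, ← mul_assoc, hxE e he]
    have h2 : ∀ a ∈ B.axSet x, a * x = x * a := by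
      rintro a (ha | ⟨f, hf, rfl⟩)
      · exact hxE a ha
      · show x * f * x = x * (x * f)
        rw [mul_assoc, hxE f hf]
    rintro a ha b (hb | ⟨f, hf, rfl⟩)
    · exact h1 a ha b hb
    · show a * (x * f) = x * f * a
      rw [← mul_assoc, h2 a ha, mul_assoc, h1 a ha f hf, ← mul_assoc]
  · rw [axSet, Set.ncard_union_eq ?_ (Set.toFinite _) (Set.toFinite _),
      Set.ncard_image_of_injective _ (mul_right_injective x), ← Nat.card_coe_set_eq]
    · show Nat.card B.E1 + Nat.card B.E1 = 16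
      rw [B.card_E1]
    · rw [Set.disjoint_left]
      rintro a ha ⟨e, he, rfl⟩
      exact B.E1_not_conj hF ((B.E1.mul_mem_cancel_right he).mp ha) hx

lemma comm_ax_mem (hF : Four t E) (cn1 : CentNorm t (A1set t s d v))
    (cn2 : CentNorm t (A2set t s d v)) (hx : IsConj t x) (hxE : ∀ e ∈ B.E1, e * x = x * e)
    {y : G} (hy : y * x = x * y) (hyE : ∀ e ∈ B.E1, e * y = y * e) : y ∈ B.axSet x := by
  obtain ⟨hsq, hcomm, hcard⟩ := B.ax_props hF hx hxE
  have hxm : x ∈ B.axSet x := Or.inr ⟨1, B.E1.one_mem, mul_one x⟩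
  have hc : Nat.card (B.ax hF hx hxE) = 16 := by
    rw [← SetLike.coe_sort_coe, Nat.card_coe_set_eq]; exact hcard
  refine ((B.elem16 cn1 cn2 hx (A := B.ax hF hx hxE) (fun a ha => hcomm a ha x hxm) hc hsq).1
    y hy fun a ha => ?_)
  rcases ha with ha | ⟨e, he, rfl⟩
  · exact (hyE a ha).symm
  · show y * (x * e) = x * e * y
    rw [← mul_assoc, hy, mul_assoc, ← hyE e he, ← mul_assoc]

lemma trans_conj_mem (hF : Four t E) (hx : IsConj t x) (hxE : ∀ e ∈ B.E1, e * x = x * e) {g : G}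
    (hg : g ∈ B.trans x) : ∃ e ∈ B.E1, g * x * g⁻¹ = x * e := by
  have hm := (B.mem_trans.mp hg).2 x (Or.inr ⟨1, B.E1.one_mem, mul_one x⟩)
  rcases hm with hm | ⟨e, he, h⟩
  · exact absurd ((isConj_conj t x g).mpr hx) (B.E1_not_conj hF hm)
  · exact ⟨e, he, h.symm⟩

lemma E1_le_trans (hF : Four t E) (hx : IsConj t x) (hxE : ∀ e ∈ B.E1, e * x = x * e) {g : G}
    (hg : g ∈ B.axSet x) : g ∈ B.trans x := by
  obtain ⟨-, hcomm, -⟩ := B.ax_props hF hx hxE
  refine B.mem_trans.mpr ⟨fun e he => (hcomm g hg e (Or.inl he)).symm, fun y hy => ?_⟩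
  rw [hcomm g hg y hy, mul_assoc, mul_inv_cancel, mul_one]
  exact hy

/-- The stabiliser of `x` in its translation group is `⟨x⟩ E₁`. -/
lemma trans_stab (hF : Four t E) (cn1 : CentNorm t (A1set t s d v))
    (cn2 : CentNorm t (A2set t s d v)) (hx : IsConj t x) (hxE : ∀ e ∈ B.E1, e * x = x * e) :
    {g | g ∈ B.trans x ∧ g * x = x * g} = B.axSet x := by
  ext g
  constructor
  · rintro ⟨hg, hc⟩
    exact B.comm_ax_mem hF cn1 cn2 hx hxE hc (B.mem_trans.mp hg).1
  · intro hg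
    exact ⟨B.E1_le_trans hF hx hxE hg,
      (B.ax_props hF hx hxE).2.1 g hg x (Or.inr ⟨1, B.E1.one_mem, mul_one x⟩)⟩

lemma card_trans (hF : Four t E) (cn1 : CentNorm t (A1set t s d v))
    (cn2 : CentNorm t (A2set t s d v)) (hx : IsConj t x) (hxE : ∀ e ∈ B.E1, e * x = x * e) :
    ((fun n => n * x * n⁻¹) '' (B.trans x : Set G)).ncard * 16 = Nat.card (B.trans x) ∧
      Nat.card (B.trans x) ≤ 128 := by
  have h := (orbit_card (N := B.trans x) (Ω := (fun n => n * x * n⁻¹) '' (B.trans x : Set G))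
    (c := 16) ?_ ?_ (x := x) ⟨1, (B.trans x).one_mem, by group⟩).1
  · refine ⟨h, ?_⟩
    rw [← h]
    have hsub : (fun n => n * x * n⁻¹) '' (B.trans x : Set G) ⊆
        (fun e => x * e) '' (B.E1 : Set G) := by
      rintro _ ⟨g, hg, rfl⟩
      obtain ⟨e, he, h'⟩ := B.trans_conj_mem hF hx hxE hg
      exact ⟨e, he, h'.symm⟩
    have h2 := Set.ncard_le_ncard hsub (Set.toFinite _)
    have h8 : (B.E1 : Set G).ncard = 8 := by
      rw [← Nat.card_coe_set_eq]; exact B.card_E1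
    rw [Set.ncard_image_of_injective _ (mul_right_injective x), h8] at h2
    omega
  · rintro n hn _ ⟨m, hm, rfl⟩
    exact ⟨n * m, (B.trans x).mul_mem hn hm, by group⟩
  · rintro _ ⟨m, hm, rfl⟩
    rw [← (B.ax_props hF hx hxE).2.2, ← B.trans_stab hF cn1 cn2 hx hxE,
      ← Set.ncard_image_of_injective {g | g ∈ B.trans x ∧ g * x = x * g}
        (MulAut.conj m).injective]
    congr 1
    ext n
    simp only [Set.mem_image, Set.mem_ofPred_eq, MulAut.conj_apply]
    constructor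
    · rintro ⟨hn, hc⟩
      refine ⟨m⁻¹ * n * m,
        ⟨(B.trans x).mul_mem ((B.trans x).mul_mem ((B.trans x).inv_mem hm) hn) hm, ?_⟩, by group⟩
      calc m⁻¹ * n * m * x = m⁻¹ * (n * (m * x * m⁻¹)) * m := by group
        _ = m⁻¹ * (m * x * m⁻¹ * n) * m := by rw [hc]
        _ = x * (m⁻¹ * n * m) := by group
    · rintro ⟨u, ⟨hu, hc⟩, rfl⟩
      refine ⟨(B.trans x).mul_mem ((B.trans x).mul_mem hm hu) ((B.trans x).inv_mem hm), ?_⟩
      calc m * u * m⁻¹ * (m * x * m⁻¹) = m * (u * x) * m⁻¹ := by group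
        _ = m * x * m⁻¹ * (m * u * m⁻¹) := by rw [hc]; group

/-- Translations move a conjugate of `t` inside the translation group only by `E₁`. -/
lemma conj_mem_coset (hF : Four t E) (cn1 : CentNorm t (A1set t s d v))
    (cn2 : CentNorm t (A2set t s d v)) (hx : IsConj t x) (hxE : ∀ e ∈ B.E1, e * x = x * e)
    {p y : G} (hp : p ∈ B.trans x) (hy : y ∈ B.trans x) (hyt : IsConj t y) :
    ∃ e ∈ B.E1, p * y * p⁻¹ = y * e := by
  obtain ⟨-, hcomm, -⟩ := B.ax_props hF hx hxE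
  have hxm : x ∈ B.axSet x := Or.inr ⟨1, B.E1.one_mem, mul_one x⟩
  have hy2 := isConj_sq B.t_sq hyt
  have hyi : y⁻¹ = y := inv_eq_of_mul_eq_one_right hy2
  obtain ⟨a, ha, hpa⟩ := B.trans_conj_mem hF hx hxE hp
  obtain ⟨b, hb, hyb⟩ := B.trans_conj_mem hF hx hxE hy
  have hpE := (B.mem_trans.mp hp).1
  have hyE := (B.mem_trans.mp hy).1
  have hfix : ∀ g : G, (∀ e ∈ B.E1, e * g = g * e) → ∀ e ∈ B.E1, g * e * g⁻¹ = e := by
    intro g hg e he; rw [← hg e he, mul_assoc, mul_inv_cancel, mul_one]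
  set w := p * y * p⁻¹ * y with hw
  have hwx : w * x * w⁻¹ = x := by
    have e1 : p⁻¹ * x * p = x * a := by
      have h1 : p⁻¹ * x * p = p⁻¹ * (p * x * p⁻¹ * a⁻¹) * p := by rw [hpa]; group
      rw [h1, show p⁻¹ * (p * x * p⁻¹ * a⁻¹) * p = x * (p⁻¹ * a⁻¹ * p) by group]
      congr 1
      rw [inv_eq_of_mul_eq_one_right (B.E1_sq ha)]
      calc p⁻¹ * a * p = p⁻¹ * (a * p) := by group
        _ = a := by rw [hpE a ha]; group
    calc w * x * w⁻¹ = p * (y * (p⁻¹ * (y * x * y⁻¹) * p) * y⁻¹) * p⁻¹ := by rw [hw]; group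
      _ = p * (y * (p⁻¹ * (x * b) * p) * y⁻¹) * p⁻¹ := by rw [hyb]
      _ = p * (y * (x * a * b) * y⁻¹) * p⁻¹ := by
          rw [show p⁻¹ * (x * b) * p = x * a * b by
            calc p⁻¹ * (x * b) * p = p⁻¹ * x * p * (p⁻¹ * (b * p)) := by group
              _ = _ := by rw [e1, hpE b hb]; group]
      _ = p * (x * b * a * b) * p⁻¹ := by
          congr 2
          calc y * (x * a * b) * y⁻¹ = y * x * y⁻¹ * (y * (a * b) * y⁻¹) := by group
            _ = x * b * (a * b) := by rw [hyb, hfix y hyE _ (B.E1.mul_mem ha hb)]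
            _ = _ := by group
      _ = p * (x * a) * p⁻¹ := by
          rw [mul_assoc (x * b), mul_assoc x, B.E1_comm ha hb, ← mul_assoc b, B.E1_sq hb, one_mul]
      _ = p * x * p⁻¹ * (p * a * p⁻¹) := by group
      _ = x := by rw [hpa, hfix p hpE a ha, mul_assoc, B.E1_sq ha, mul_one]
  have hwm : w ∈ B.axSet x := by
    refine B.comm_ax_mem hF cn1 cn2 hx hxE ?_
      (B.mem_trans.mp ((B.trans x).mul_mem ((B.trans x).mul_mem ((B.trans x).mul_mem hp hy)
        ((B.trans x).inv_mem hp)) hy)).1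
    calc w * x = w * x * w⁻¹ * w := by group
      _ = x * w := by rw [hwx]
  have hpy : p * y * p⁻¹ = w * y := by
    calc p * y * p⁻¹ = p * y * p⁻¹ * (y * y) := by rw [hy2, mul_one]
      _ = w * y := by rw [hw]; group
  rcases hwm with hwE | ⟨e, he, hwe⟩
  · exact ⟨w, hwE, by rw [hpy, hyE w hwE]⟩
  · by_cases hyx : y * x = x * y
    · have hyA := B.comm_ax_mem hF cn1 cn2 hx hxE hyx hyE
      have hy' : y ∉ B.E1 := fun h => B.E1_not_conj hF h hyt
      rcases hyA with h | ⟨f, hf, rfl⟩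
      · exact absurd h hy'
      · refine ⟨a, ha, ?_⟩
        calc p * (x * f) * p⁻¹ = p * x * p⁻¹ * (p * f * p⁻¹) := by group
          _ = x * a * f := by rw [hpa, hfix p hpE f hf]
          _ = x * f * a := by rw [mul_assoc, B.E1_comm ha hf, ← mul_assoc]
    · exfalso
      have h2 : p * y * p⁻¹ * (p * y * p⁻¹) = 1 := by
        calc p * y * p⁻¹ * (p * y * p⁻¹) = p * (y * y) * p⁻¹ := by group
          _ = 1 := by rw [hy2]; group
      rw [hpy, ← hwe] at h2
      apply hyx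
      have hx2 := isConj_sq B.t_sq hx
      have h3 : x * y * (x * y) = 1 := by
        have he2 := B.E1_sq he
        calc x * y * (x * y) = x * y * (x * y) * (e * e) := by rw [he2, mul_one]
          _ = x * e * y * (x * e * y) := by
              have c1 : e * y = y * e := hyE e he
              have c2 : e * x = x * e := hxE e he
              have cc : Commute e (x * y) := (show Commute e x from c2).mul_right c1
              calc x * y * (x * y) * (e * e) = x * y * (x * y * e) * e := by group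
                _ = x * y * (e * (x * y)) * e := by rw [cc.eq]
                _ = x * y * e * (x * y * e) := by group
                _ = _ := by rw [show x * y * e = x * e * y by rw [mul_assoc, ← c1, ← mul_assoc]]
          _ = 1 := h2
      have hxi : x⁻¹ = x := inv_eq_of_mul_eq_one_right hx2
      calc y * x = (x * y)⁻¹ := by rw [mul_inv_rev, hxi, hyi]
        _ = x * y := inv_eq_of_mul_eq_one_right h3

lemma trans_eq (hF : Four t E) (cn1 : CentNorm t (A1set t s d v))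
    (cn2 : CentNorm t (A2set t s d v)) (hx : IsConj t x) (hxE : ∀ e ∈ B.E1, e * x = x * e)
    {y : G} (hy : y ∈ B.trans x) (hyt : IsConj t y)
    (hcard : Nat.card (B.trans y) ≤ Nat.card (B.trans x)) : B.trans y = B.trans x := by
  refine (Subgroup.eq_of_le_of_card_ge (fun p hp => ?_) hcard).symm
  have hpE := (B.mem_trans.mp hp).1
  refine B.mem_trans.mpr ⟨hpE, ?_⟩
  obtain ⟨e, he, hpy⟩ := B.conj_mem_coset hF cn1 cn2 hx hxE hp hy hyt
  rintro a (ha | ⟨f, hf, rfl⟩)
  · left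
    rw [show p * a * p⁻¹ = a by rw [← hpE a ha, mul_assoc, mul_inv_cancel, mul_one]]
    exact ha
  · right
    refine ⟨e * f, B.E1.mul_mem he hf, ?_⟩
    show y * (e * f) = p * (y * f) * p⁻¹
    calc y * (e * f) = p * y * p⁻¹ * f := by rw [hpy, mul_assoc]
      _ = p * y * p⁻¹ * (p * f * p⁻¹) := by
          rw [show p * f * p⁻¹ = f by rw [← hpE f hf, mul_assoc, mul_inv_cancel, mul_one]]
      _ = _ := by group

/-- Orbits of `N(P)` for a translation group `P`. -/
theorem orbit_trans (hF : Four t E) (cn1 : CentNorm t (A1set t s d v))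
    (cn2 : CentNorm t (A2set t s d v)) {P : Subgroup G}
    (hP : ∀ y ∈ P, IsConj t y → B.trans y = P)
    (hPE : ∀ p ∈ P, ∀ e ∈ B.E1, e * p = p * e) (hEP : B.E1 ≤ P)
    (hZ : ∀ a ∈ P, (∀ p ∈ P, a * p = p * a) → a ∈ B.E1) {y : G} (hy : y ∈ P)
    (hyt : IsConj t y) :
    ((fun n => n * y * n⁻¹) '' (Subgroup.normalizer (P : Set G) : Set G)).ncard * 96 =
        Nat.card (Subgroup.normalizer (P : Set G)) ∧
      ((fun n => n * y * n⁻¹) '' (Subgroup.normalizer (P : Set G) : Set G)).ncard ∣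
        (conjIn t P).ncard := by
  refine orbit_card (Ω := conjIn t P) ?_ ?_ ⟨hy, hyt⟩
  · rintro n hn z ⟨hz, hc⟩
    exact ⟨(Subgroup.mem_normalizer_iff.mp hn z).mp hz, (isConj_conj t z n).mpr hc⟩
  · rintro z ⟨hz, hzt⟩
    have hzE := hPE z hz
    obtain ⟨hsq, hcomm, hcard⟩ := B.ax_props hF hzt hzE
    have hzm : z ∈ B.axSet z := Or.inr ⟨1, B.E1.one_mem, mul_one z⟩
    have hc : Nat.card (B.ax hF hzt hzE) = 16 := by
      rw [← SetLike.coe_sort_coe, Nat.card_coe_set_eq]; exact hcard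
    rw [← (B.elem16 cn1 cn2 hzt (A := B.ax hF hzt hzE) (fun a ha => hcomm a ha z hzm) hc hsq).2]
    congr 1
    ext n
    simp only [Set.mem_ofPred_eq, Subgroup.mem_normalizer_iff]
    rw [and_comm]
    refine and_congr_right fun hnz => ⟨fun hn a => ?_, fun hn p => ?_⟩
    · -- `n` normalises `P`
      have hnE : ∀ e ∈ B.E1, n * e * n⁻¹ ∈ B.E1 := by
        intro e he
        refine hZ _ ((hn e).mp (hEP he)) fun p hp => ?_
        have hp' : n⁻¹ * p * n ∈ P := (hn _).mpr (by convert hp using 1; group)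
        calc n * e * n⁻¹ * p = n * (e * (n⁻¹ * p * n)) * n⁻¹ := by group
          _ = n * (n⁻¹ * p * n * e) * n⁻¹ := by rw [hPE _ hp' e he]
          _ = p * (n * e * n⁻¹) := by group
      refine conj_mem_iff (H := B.ax hF hzt hzE) (fun b hb => ?_) a
      rcases hb with hb | ⟨e, he, rfl⟩
      · exact Or.inl (hnE b hb)
      · refine Or.inr ⟨n * e * n⁻¹, hnE e he, ?_⟩
        show z * (n * e * n⁻¹) = n * (z * e) * n⁻¹
        rw [← mul_assoc n z e, hnz]; group
    · -- `n` normalises `⟨z⟩ E₁`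
      have hnA : ∀ b ∈ B.axSet z, n * b * n⁻¹ ∈ B.axSet z := fun b hb => (hn b).mp hb
      have hnE : ∀ e ∈ B.E1, n * e * n⁻¹ ∈ B.E1 := fun e he => by
        by_contra h
        exact B.E1_not_conj hF he ((isConj_conj t e n).mp
          ((B.isConj_axSet hF hzt hzE (hnA e (Or.inl he))).mpr h))
      refine conj_mem_iff (H := P) (fun q hq => ?_) p
      rw [← hP z hz hzt] at hq ⊢
      obtain ⟨hqE, hqA⟩ := B.mem_trans.mp hq
      refine B.mem_trans.mpr ⟨fun e he => ?_, fun b hb => ?_⟩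
      · have he' := (conj_mem_iff (H := B.E1) hnE (n⁻¹ * e * n)).mpr (by
          convert he using 1; group)
        calc e * (n * q * n⁻¹) = n * (n⁻¹ * e * n * q) * n⁻¹ := by group
          _ = n * (q * (n⁻¹ * e * n)) * n⁻¹ := by rw [hqE _ he']
          _ = n * q * n⁻¹ * e := by group
      · have hb' : n⁻¹ * b * n ∈ B.axSet z := (hn _).mpr (by
          show n * (n⁻¹ * b * n) * n⁻¹ ∈ B.axSet z
          convert hb using 1; group)
        have := hnA _ (hqA _ hb')
        convert this using 1; group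

end Base

end CfsgLib.TwoTimesSym
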