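import Cfsg.Agent.Lib.Recognition.TwoTimesSym.Basic

/-!
# Which involutions of `C(t)` are conjugate to `t`: classes and parities
-/

set_option linter.unusedSectionVars false

namespace CfsgLib.TwoTimesSym

/-- Both frames of `⟨t⟩ × E`. -/
structure Frame {G : Type*} [Group G] (t : G) (E : Subgroup G) (s d v : G) : Prop where
  base : Base t E s d v
  half1 : ∃ ρ π, Half t E s d v ρ π
  half2 : ∃ ρ π, Half t E (s * (d * v * (d * v))) (v * s) (d * s) ρ π

/-- The conjugates of `t` in `C(t)` are the involutions outside `E`. -/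
def Four {G : Type*} [Group G] (t : G) (E : Subgroup G) : Prop :=
  ∀ x, x * t = t * x → (IsConj t x ↔ x ∉ E ∧ x * x = 1)

namespace W5

/-- The representative of the class in `C(t)` of a word squaring to one: one of
`1, s, z, c` times a power of `t`. -/
def rep (w : W5) : W5 :=
  if w.2.2.2.1 then (if w.2.1 then (w.1, false, true, false, false)
    else (w.1, true, false, false, false))
  else if w.2.2.2.2 then (if w.2.1 then (w.1, true, true, false, false)
    else (w.1, false, true, false, false))
  else w

/-- Conjugacy to `t` of a word, given it for `t z, s, c, t s, t c`. -/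
def stat (p0 ps pc pts ptc : Bool) (w : W5) : Bool :=
  decide (W5.mul w w = W5.one) &&
    match (W5.rep w).1, (W5.rep w).2.1, (W5.rep w).2.2.1 with
    | false, false, _ => false
    | true, false, false => true
    | true, false, true => p0
    | false, true, false => ps
    | false, true, true => pc
    | true, true, false => pts
    | true, true, true => ptc

/-- Multiplication by `z`. -/
def flip (w : W5) : W5 := (w.1, w.2.1, !w.2.2.1, w.2.2.2.1, w.2.2.2.2)

lemma exists_flip (w : W5) (h : w.2.2.2.1 = true ∨ w.2.2.2.2 = true) :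
    ∃ x : W5, W5.mul (W5.mul x w) x.inv = W5.flip w := by
  obtain ⟨a, m, n, e, g⟩ := w
  cases g
  · refine ⟨(false, false, false, false, true), ?_⟩
    revert h; revert a m n e; decide
  · refine ⟨(false, false, false, true, false), ?_⟩
    revert h; revert a m n e; decide

end W5

variable {G : Type*} [Group G] [Finite G] {t : G} {E : Subgroup G} {s d v : G}

omit [Finite G] in
lemma isConj_conj (t x h : G) : IsConj t (h * x * h⁻¹) ↔ IsConj t x :=
  ⟨fun H => H.trans (isConj_iff.mpr ⟨h⁻¹, by group⟩),
    fun H => H.trans (isConj_iff.mpr ⟨h, rfl⟩)⟩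

omit [Finite G] in
lemma isConj_sq {t x : G} (ht : t * t = 1) (hx : IsConj t x) : x * x = 1 := by
  obtain ⟨g, rfl⟩ := isConj_iff.mp hx
  calc g * t * g⁻¹ * (g * t * g⁻¹) = g * (t * t) * g⁻¹ := by group
    _ = 1 := by rw [ht, mul_one, mul_inv_cancel]

/-- Conjugacy to `t` of the six central involutions other than `z`. -/
structure Bits (t s d v : G) (p0 ps pc pts ptc : Bool) : Prop where
  tz : IsConj t (t * (d * v * (d * v))) ↔ p0 = true
  single : IsConj t s ↔ ps = true
  c : IsConj t (s * (d * v * (d * v))) ↔ pc = true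
  ts : IsConj t (t * s) ↔ pts = true
  tc : IsConj t (t * (s * (d * v * (d * v)))) ↔ ptc = true

namespace Base

variable (B : Base t E s d v)

include B

lemma conj_E {h x : G} (hh : h ∈ E) (a : Bool) :
    IsConj t (bp a t * (h * x * h⁻¹)) ↔ IsConj t (bp a t * x) := by
  have hc : Commute h (bp a t) := by
    cases a <;> simp [Commute.one_right, show Commute h t from B.mem_C_of_mem hh]
  have : bp a t * (h * x * h⁻¹) = h * (bp a t * x) * h⁻¹ := by
    simp only [← mul_assoc]
    rw [hc.eq]
  rw [this, isConj_conj]

lemma ev_split (w : W5) : ev t s d v w = bp w.1 t * ev t s d v (false, w.2) := by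
  simp [ev, mul_assoc]

/-- Conjugacy to `t` of a word squaring to one only depends on its representative. -/
lemma isConj_rep {w : W5} (h2 : W5.mul w w = W5.one) :
    IsConj t (ev t s d v w) ↔ IsConj t (ev t s d v w.rep) := by
  obtain ⟨a, m, n, e, g⟩ := w
  rw [B.ev_split]
  conv_rhs => rw [B.ev_split]
  have hv' : v⁻¹ = v := inv_eq_of_mul_eq_one_right B.v_sq
  have hd' : d⁻¹ = d := inv_eq_of_mul_eq_one_right B.d_sq
  obtain ⟨h1, hh1, e1⟩ := B.conj_d
  obtain ⟨h2', hh2, e2⟩ := B.conj_ds
  obtain ⟨h3, hh3, e3⟩ := B.conj_v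
  obtain ⟨h4, hh4, e4⟩ := B.conj_vs
  have hdn : ∀ n m : Bool, ev t s d v (false, m, n, true, false) =
      bp n v * ev t s d v (false, m, false, true, false) * (bp n v)⁻¹ := by
    intro n m
    have : bp n v = ev t s d v (false, false, false, false, n) := by cases n <;> simp [ev]
    rw [this, B.ev_inv, B.ev_mul, B.ev_mul]
    congr 1; clear this; revert n m; decide
  have hvn : ∀ n m : Bool, ev t s d v (false, m, n, false, true) =
      bp n d * ev t s d v (false, m, false, false, true) * (bp n d)⁻¹ := by
    intro n m
    have : bp n d = ev t s d v (false, false, false, n, false) := by cases n <;> simp [ev]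
    rw [this, B.ev_inv, B.ev_mul, B.ev_mul]
    congr 1; clear this; revert n m; decide
  have hbp : ∀ (n : Bool) (x : G), x ∈ E → bp n x ∈ E := by
    intro n x hx; cases n <;> simp [hx]
  cases e <;> cases g
  · rfl
  · simp only [W5.rep, Bool.false_eq_true, if_false, if_true]
    rw [hvn, B.conj_E (hbp _ _ B.d_mem)]
    cases m
    · simp only [Bool.false_eq_true, if_false]
      rw [show ev t s d v (false, false, false, false, true) = v by simp [ev],
        ← B.conj_E hh3, e3]
      simp [ev]
    · simp only [if_true]
      rw [show ev t s d v (false, true, false, false, true) = v * s by simp [ev, B.sv],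
        ← B.conj_E hh4, e4]
      simp [ev]
  · simp only [W5.rep, if_true]
    rw [hdn, B.conj_E (hbp _ _ B.v_mem)]
    cases m
    · simp only [Bool.false_eq_true, if_false]
      rw [show ev t s d v (false, false, false, true, false) = d by simp [ev],
        ← B.conj_E hh1, e1]
      simp [ev]
    · simp only [if_true]
      rw [show ev t s d v (false, true, false, true, false) = d * s by simp [ev, B.sd],
        ← B.conj_E hh2, e2]
      simp [ev]
  · exfalso
    revert h2
    revert a m n
    decide

lemma isConj_flip {w : W5} (hw : w.2.2.2.1 = true ∨ w.2.2.2.2 = true) :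
    IsConj t (ev t s d v w.flip) ↔ IsConj t (ev t s d v w) := by
  obtain ⟨x, hx⟩ := W5.exists_flip w hw
  rw [← hx, ← B.ev_conj, isConj_conj]

lemma t_ne_one : t ≠ 1 := fun h => B.t_notMem (h ▸ E.one_mem)

omit B in
lemma exists_bits (t s d v : G) : ∃ p0 ps pc pts ptc, Bits t s d v p0 ps pc pts ptc := by
  classical
  exact ⟨decide _, decide _, decide _, decide _, decide _,
    decide_eq_true_iff.symm, decide_eq_true_iff.symm, decide_eq_true_iff.symm,
    decide_eq_true_iff.symm, decide_eq_true_iff.symm⟩

variable {p0 ps pc pts ptc : Bool}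

theorem isConj_ev (hb : Bits t s d v p0 ps pc pts ptc) (w : W5) :
    IsConj t (ev t s d v w) ↔ W5.stat p0 ps pc pts ptc w = true := by
  by_cases h2 : W5.mul w w = W5.one
  · rw [B.isConj_rep h2]
    obtain ⟨a, m, n, e, g⟩ := w
    simp only [W5.stat, h2, decide_true, Bool.true_and]
    have hn1 : ¬ IsConj t 1 := fun h => B.t_ne_one (isConj_one_right.mp h.symm)
    cases a <;> cases m <;> cases n <;> cases e <;> cases g <;>
      simp [W5.rep, ev, hn1, B.z_not_conj, IsConj.refl, hb.tz, hb.single, hb.c, hb.ts, hb.tc,
        mul_assoc t, -isConj_iff]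
  · have : ¬ IsConj t (ev t s d v w) := fun h => by
      have h' := isConj_sq B.t_sq h
      rw [B.ev_mul, ← B.ev_one] at h'
      exact h2 (B.ev_inj h')
    simp [W5.stat, h2, this, -isConj_iff]

lemma conjIn_T (hb : Bits t s d v p0 ps pc pts ptc) :
    conjIn t B.T = ev t s d v '' {w | W5.stat p0 ps pc pts ptc w = true} := by
  ext x
  constructor
  · rintro ⟨hx, hc⟩
    obtain ⟨w, rfl⟩ := B.mem_T.mp hx
    exact ⟨w, (B.isConj_ev hb w).mp hc, rfl⟩
  · rintro ⟨w, hw, rfl⟩
    exact ⟨B.ev_mem_T w, (B.isConj_ev hb w).mpr hw⟩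

lemma ncard_conjIn_T (hb : Bits t s d v p0 ps pc pts ptc) :
    (conjIn t B.T).ncard =
      (Finset.univ.filter fun w => W5.stat p0 ps pc pts ptc w = true).card := by
  rw [B.conjIn_T hb, Set.ncard_image_of_injective _ (fun _ _ => B.ev_inj),
    Set.ncard_eq_toFinset_card']
  congr 1
  ext; simp

/-- The parities of the three pairs agree. -/
theorem parity (hG : NoIndexTwo G) (hb : Bits t s d v p0 ps pc pts ptc) :
    xor ps pc = !p0 ∧ xor pts ptc = !p0 := by
  obtain ⟨m, hm, hC⟩ := B.card_C
  have key : ∀ (P : W5 → Bool) (h1 : P W5.one = true)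
      (hmul : ∀ x y, P x = true → P y = true → P (W5.mul x y) = true)
      (hinv : ∀ x, P x = true → P (W5.inv x) = true),
      (Finset.univ.filter fun w => P w = true).card = 16 →
      Even (Finset.univ.filter fun w =>
        W5.stat p0 ps pc pts ptc w = true ∧ P w = false).card := by
    intro P h1 hmul hinv hP
    set M := B.wordSubgroup P h1 hmul hinv with hM
    have hMc : (M : Set G) = ev t s d v '' {w | P w = true} := rfl
    have hMcard : Nat.card M = 16 := by
      rw [← SetLike.coe_sort_coe, Nat.card_coe_set_eq, hMc,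
        Set.ncard_image_of_injective _ (fun _ _ => B.ev_inj), Set.ncard_eq_toFinset_card', ← hP]
      congr 1
      ext; simp
    have hle : M ≤ B.T := by
      intro x hx
      obtain ⟨w, -, rfl⟩ := (hx : x ∈ ev t s d v '' {w | P w = true})
      exact B.ev_mem_T w
    have h := dvd_card_conj_diff hG B.t_sq hle (by rw [hMcard, B.card_T])
    rw [hMc, B.conjIn_T hb, ← Set.image_sdiff (fun _ _ => B.ev_inj),
      Set.ncard_image_of_injective _ (fun _ _ => B.ev_inj), B.card_T, hC,
      Set.ncard_eq_toFinset_card'] at h
    have hset : ({w | W5.stat p0 ps pc pts ptc w = true} \ {w | P w = true}).toFinset =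
        Finset.univ.filter fun w => W5.stat p0 ps pc pts ptc w = true ∧ P w = false := by
      ext w; simp
    rw [hset] at h
    have h2 : 2 ∣ m * (Finset.univ.filter fun w =>
        W5.stat p0 ps pc pts ptc w = true ∧ P w = false).card := by
      obtain ⟨k, hk⟩ := h
      exact ⟨k, by rw [mul_assoc] at hk; omega⟩
    rcases Nat.prime_two.dvd_mul.mp h2 with h3 | h3
    · exact absurd (even_iff_two_dvd.mpr h3) (Nat.not_even_iff_odd.mpr hm)
    · exact even_iff_two_dvd.mpr h3
  have ha := key (fun w => !w.1) rfl (by decide) (by decide) (by decide)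
  have hs := key (fun w => !w.2.1) rfl (by decide) (by decide) (by decide)
  revert ha hs
  clear hb key
  revert p0 ps pc pts ptc
  decide

/-- The five bits determine whether `Four` holds. -/
theorem four (hb : Bits t s d v true false false true true) : Four t E := by
  intro x hx
  constructor
  · intro hc
    have hx2 := isConj_sq B.t_sq hc
    refine ⟨fun hxE => ?_, hx2⟩
    have hx1 : x ≠ 1 := fun h => B.t_ne_one (isConj_one_right.mp (h ▸ hc).symm)
    obtain ⟨h, -, hc'⟩ := B.classes x hxE hx2 hx1
    have hc'' := (isConj_conj t x h).mpr hc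
    rcases hc' with e | e | e <;> rw [e] at hc''
    · exact Bool.false_ne_true (hb.single.mp hc'')
    · exact B.z_not_conj hc''
    · exact Bool.false_ne_true (hb.c.mp hc'')
  · rintro ⟨hxE, hx2⟩
    have hy : t * x ∈ E := (B.cover x hx).resolve_left hxE
    have hxy : x = t * (t * x) := by rw [← mul_assoc, B.t_sq, one_mul]
    by_cases h1 : t * x = 1
    · rw [hxy, h1, mul_one]
    · have hy2 : t * x * (t * x) = 1 := by
        calc t * x * (t * x) = t * (x * t) * x := by group
          _ = t * t * (x * x) := by rw [hx]; group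
          _ = 1 := by rw [B.t_sq, hx2, one_mul]
      obtain ⟨h, hh, hc'⟩ := B.classes _ hy hy2 h1
      have e := B.conj_E (x := t * x) hh true
      simp only [bp_true] at e
      rw [hxy, ← e]
      rcases hc' with c | c | c <;> rw [c]
      · exact hb.ts.mpr rfl
      · exact hb.tz.mpr rfl
      · exact hb.tc.mpr rfl

end Base

end CfsgLib.TwoTimesSym
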